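import Groth.Agent.AbVar.K517.DivRed
import Groth.Agent.AbSch.K449.Basic
import Groth.Agent.S3023
import Groth.Agent.S0354
import Groth.Agent.S2535
import Groth.Agent.Grpsch.AbBC

/-!
# Abelian subvarieties of closed subgroups of abelian varieties, over any field

* `exists_component` : the identity component of a geometrically reduced algebraic group;
* `exists_subvariety` : a closed subgroup scheme `N` of an abelian variety contains an abelian variety `B`
  (closed, geometrically integral) of the same dimension.
-/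

set_option autoImplicit false
universe u

open CategoryTheory MonoidalCategory CartesianMonoidalCategory MonObj GrpObj AlgebraicGeometry Limits

namespace K517.SubAV

variable {k : Type u} [Field k]

section

attribute [local instance] Functor.grpObjObj

theorem map_pow_one {S S' : Scheme.{u}} (f : S' ⟶ S) (A : Over S) [GrpObj A] (n : ℕ) :
    (Over.pullback f).map (𝟙 A ^ n) = 𝟙 ((Over.pullback f).obj A) ^ n := by
  rw [← CategoryTheory.Functor.map_id]
  exact map_pow (Functor.homMonoidHom (Over.pullback f) (X := A) (M := A)) (𝟙 A) n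

theorem isReduced_bc (H : Over (Spec (CommRingCat.of k))) [GrpObj H] [IsCommMonObj H]
    [LocallyOfFiniteType H.hom] [QuasiCompact H.hom]
    (h : ∀ n : ℕ, 1 ≤ n → Flat ((𝟙 H : H ⟶ H) ^ n).left ∧ Surjective ((𝟙 H : H ⟶ H) ^ n).left)
    {Ω : Type u} [Field Ω] [IsAlgClosed Ω] (g : Spec (CommRingCat.of Ω) ⟶ Spec (CommRingCat.of k)) :
    IsReduced (pullback H.hom g) := by
  have hc : IsCommMonObj ((Over.pullback g).obj H) := inferInstance
  have h1 : LocallyOfFiniteType ((Over.pullback g).obj H).hom :=
    inferInstanceAs (LocallyOfFiniteType (pullback.snd H.hom g))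
  have h2 : QuasiCompact ((Over.pullback g).obj H).hom :=
    inferInstanceAs (QuasiCompact (pullback.snd H.hom g))
  refine DivRed.isReduced_of_divisible ((Over.pullback g).obj H) fun n hn => ?_
  obtain ⟨a1, a2⟩ := h n hn
  have hp := Groth.Agent.Grpsch.AbBC.isPullback_pullback_map g ((𝟙 H : H ⟶ H) ^ n)
  rw [map_pow_one] at hp
  exact ⟨MorphismProperty.of_isPullback (P := @Flat) hp.flip a1,
    MorphismProperty.of_isPullback (P := @Surjective) hp.flip a2⟩

end

theorem geometricallyReduced_of_divisible (H : Over (Spec (CommRingCat.of k))) [GrpObj H]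
    [IsCommMonObj H] [LocallyOfFiniteType H.hom] [QuasiCompact H.hom]
    (h : ∀ n : ℕ, 1 ≤ n → Flat ((𝟙 H : H ⟶ H) ^ n).left ∧ Surjective ((𝟙 H : H ⟶ H) ^ n).left) :
    GeometricallyReduced H.hom := by
  have : IsReduced (FBase.bc H.hom (AlgebraicClosure k)) :=
    isReduced_bc H h (Spec.map (CommRingCat.ofHom (algebraMap k (AlgebraicClosure k))))
  exact Groth.Agent.S2535.result (Ω := AlgebraicClosure k) H.hom

/-- The identity component of a geometrically reduced algebraic group. -/
theorem exists_component (H : Over (Spec (CommRingCat.of k))) [GrpObj H] [LocallyOfFiniteType H.hom]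
    [GeometricallyReduced H.hom] :
    ∃ (B : Over (Spec (CommRingCat.of k))) (_ : GrpObj B) (b : B ⟶ H), IsMonHom b ∧
      IsClosedImmersion b.left ∧ GeometricallyIntegral B.hom ∧
      topologicalKrullDim B.left = topologicalKrullDim H.left := by
  have hS : Subsingleton (Spec (CommRingCat.of k)) := DivRed.subsingleton_spec
  obtain ⟨B, gB, b, hb1, hb2, hb3, hb4⟩ := Groth.Agent.S3023.result k H
  let pt : Spec (CommRingCat.of k) := IsLocalRing.closedPoint k
  have hln : IsLocallyNoetherian H.left := by
    have : IsLocallyNoetherian (Spec (CommRingCat.of k)) :=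
      Groth.Agent.Sga3.H830.AlgGrpAb.isLocallyNoetherian_spec
    exact LocallyOfFiniteType.isLocallyNoetherian H.hom
  have hlft : LocallyOfFiniteType B.hom := by rw [← Over.w b]; infer_instance
  have hlfp : LocallyOfFinitePresentation b.left := inferInstance
  have hoi : IsOpenImmersion b.left := IsOpenImmersion.of_flat_of_mono b.left
  have hconn : ConnectedSpace B.left := by
    have h1 := isConnected_connectedComponent (x := (η[H] : 𝟙_ (Over (Spec (CommRingCat.of k))) ⟶ H).left pt)
    have h2 : _root_.IsConnected (Set.range b.left) := by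
      have := hb4 pt
      rw [show Set.range b.left = Set.range b.left.base from rfl, this]
      exact h1
    have h3 : _root_.IsPreconnected (Set.univ : Set B.left) := by
      rw [← b.left.isEmbedding.isInducing.isPreconnected_image, Set.image_univ]
      exact h2.isPreconnected
    exact connectedSpace_iff_univ.2 ⟨⟨(η[B] : 𝟙_ (Over (Spec (CommRingCat.of k))) ⟶ B).left pt, trivial⟩, h3⟩
  have hgr : GeometricallyReduced B.hom := by
    refine ⟨fun K _ y Z fst snd h => ?_⟩
    have h1 : IsPullback (pullback.snd H.hom y) (pullback.fst H.hom y) y H.hom :=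
      (IsPullback.of_hasPullback H.hom y).flip
    let w : Z ⟶ pullback H.hom y := pullback.lift (fst ≫ b.left) snd (by
      rw [Category.assoc, Over.w, h.w])
    have h2 : IsPullback w fst (pullback.fst H.hom y) b.left := by
      refine IsPullback.of_right ?_ (pullback.lift_fst _ _ _) h1
      rw [pullback.lift_snd, Over.w]
      exact h.flip
    have h3 : IsOpenImmersion w := MorphismProperty.of_isPullback h2.flip hoi
    have h4 : IsReduced (pullback H.hom y) :=
      GeometricallyReduced.geometrically_isReduced (f := H.hom) _ _ _ (.of_hasPullback _ _)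
    exact isReduced_of_isOpenImmersion w
  have hgc : GeometricallyConnected B.hom :=
    Groth.Agent.S3023.geometricallyConnected_of_point B.hom
      (η[B] : 𝟙_ (Over (Spec (CommRingCat.of k))) ⟶ B).left (Over.w _)
  refine ⟨B, gB, b, hb1, hb2, K449.Basic.geometricallyIntegral B, ?_⟩
  have hjac : JacobsonSpace B.left := LocallyOfFiniteType.jacobsonSpace B.hom
  obtain ⟨c, -, hc⟩ := nonempty_inter_closedPoints (X := B.left) (Z := Set.univ)
    ⟨(η[B] : 𝟙_ (Over (Spec (CommRingCat.of k))) ⟶ B).left pt, trivial⟩ isOpen_univ.isLocallyClosed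
  have hc1 : IsClosed ({c} : Set B.left) := hc
  have hc2 : IsClosed ({b.left c} : Set H.left) := by
    rw [← Set.image_singleton]
    exact b.left.isClosedEmbedding.isClosedMap _ hc1
  rw [← Groth.Agent.S0354.result k B c hc1, ← Groth.Agent.S0354.result k H (b.left c) hc2]
  have : IsIso (b.left.stalkMap c) := inferInstance
  exact (ringKrullDim_eq_of_ringEquiv (asIso (b.left.stalkMap c)).commRingCatIsoToRingEquiv).symm

/-- Schemes over a field with finite structure morphism have dimension at most zero. -/
theorem dim_le_zero_of_isFinite (M : Over (Spec (CommRingCat.of k))) [IsFinite M.hom] :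
    topologicalKrullDim M.left ≤ 0 := by
  have h1 : IsLocallyArtinian M.left := IsLocallyArtinian.of_locallyQuasiFinite M.hom
  exact topologicalKrullDim_zero_of_discreteTopology _

/-- Closed subschemes of `A[n]` are finite. -/
theorem isFinite_of_pow {A M : Over (Spec (CommRingCat.of k))} [GrpObj A] [IsProper A.hom]
    [GeometricallyIntegral A.hom] (n : ℕ) (hn : 1 ≤ n) (x : M ⟶ A) [IsClosedImmersion x.left]
    (hx : x ≫ (𝟙 A) ^ n = 1) : IsFinite M.hom := by
  have h1 : IsFinite ((𝟙 A : A ⟶ A) ^ n).left := Groth.Agent.Grpsch.MulFinFlat.isFinite k A n hn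
  have h2 : M.hom ≫ (η[A] : 𝟙_ (Over (Spec (CommRingCat.of k))) ⟶ A).left = x.left ≫ ((𝟙 A : A ⟶ A) ^ n).left := by
    rw [← Over.comp_left, hx]
    rfl
  have hw : (η[A] : 𝟙_ (Over (Spec (CommRingCat.of k))) ⟶ A).left ≫ A.hom = 𝟙 _ := Over.w _
  have h0 : IsClosedImmersion
      ((η[A] : 𝟙_ (Over (Spec (CommRingCat.of k))) ⟶ A).left ≫ A.hom) := by
    rw [hw]; infer_instance
  have h3 : IsClosedImmersion (η[A] : 𝟙_ (Over (Spec (CommRingCat.of k))) ⟶ A).left :=
    IsClosedImmersion.of_comp _ A.hom
  have h4 : IsFinite (M.hom ≫ (η[A] : 𝟙_ (Over (Spec (CommRingCat.of k))) ⟶ A).left) := by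
    rw [h2]; infer_instance
  exact IsFinite.of_comp M.hom (η[A] : 𝟙_ (Over (Spec (CommRingCat.of k))) ⟶ A).left

/-- A closed subgroup of an abelian variety contains an abelian variety of the same dimension. -/
theorem exists_subvariety {A N : Over (Spec (CommRingCat.of k))} [GrpObj A] [IsProper A.hom]
    [GeometricallyIntegral A.hom] [GrpObj N] (i : N ⟶ A) [IsMonHom i] [IsClosedImmersion i.left] :
    ∃ (B : Over (Spec (CommRingCat.of k))) (_ : GrpObj B) (b : B ⟶ N), IsMonHom b ∧
      IsClosedImmersion b.left ∧ IsProper B.hom ∧ GeometricallyIntegral B.hom ∧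
      topologicalKrullDim B.left = topologicalKrullDim N.left := by
  have hcommA : IsCommMonObj A := isCommMonObj_of_isProper_of_geometricallyIntegral A
  have hmono : Mono i := (Over.forget _).mono_of_mono_map (inferInstanceAs (Mono i.left))
  have hcomm : IsCommMonObj N := Groth.Agent.Sga3.H830.CommAux.isCommMonObj_of_mono i
  have hprop : IsProper N.hom := by rw [← Over.w i]; infer_instance
  obtain ⟨H, gH, p, j, m, hm, hp, hj, hpj, hfl, hsurj, hcl, hdiv⟩ := DivRed.exists_divisible N
  have hmonoj : Mono j := (Over.forget _).mono_of_mono_map (inferInstanceAs (Mono j.left))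
  have hcommH : IsCommMonObj H := Groth.Agent.Sga3.H830.CommAux.isCommMonObj_of_mono j
  have hpropH : IsProper H.hom := by rw [← Over.w j]; infer_instance
  have hgr := geometricallyReduced_of_divisible H hdiv
  obtain ⟨B, gB, b, hb1, hb2, hb3, hb4⟩ := exists_component H
  have hpropB : IsProper B.hom := by rw [← Over.w b]; infer_instance
  refine ⟨B, gB, b ≫ j, inferInstance, by rw [Over.comp_left]; infer_instance, hpropB, hb3, ?_⟩
  rw [hb4]
  obtain ⟨F, gF, f, hf, hF⟩ := Groth.Agent.Grpsch.KerMul.exists_kernel p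
  have hqc : QuasiCompact p.left := Groth.Agent.Sga7.H760.FieldHom.quasiCompact_left p
  have hdim := Img.dim_eq p f hF
  have h3 : IsPullback f.left (toUnit F).left p.left (η[H] : 𝟙_ (Over (Spec (CommRingCat.of k))) ⟶ H).left :=
    IsPullback.map (Over.forget _) hF
  have hw : (η[H] : 𝟙_ (Over (Spec (CommRingCat.of k))) ⟶ H).left ≫ H.hom = 𝟙 _ := Over.w _
  have h0 : IsClosedImmersion
      ((η[H] : 𝟙_ (Over (Spec (CommRingCat.of k))) ⟶ H).left ≫ H.hom) := by
    rw [hw]; infer_instance
  have h1 : IsClosedImmersion (η[H] : 𝟙_ (Over (Spec (CommRingCat.of k))) ⟶ H).left :=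
    IsClosedImmersion.of_comp _ H.hom
  have h2 : IsClosedImmersion f.left := MorphismProperty.of_isPullback h3.flip h1
  have h4 : IsClosedImmersion (f ≫ i).left := by rw [Over.comp_left]; infer_instance
  have h5 : (f ≫ i) ≫ (𝟙 A) ^ m = 1 := by
    have e1 : (f ≫ i) ≫ (𝟙 A) ^ m = f ≫ ((𝟙 N) ^ m) ≫ i := by
      rw [MonObj.pow_comp, Category.id_comp, Category.assoc, MonObj.comp_pow, Category.comp_id]
    rw [e1, ← hpj]
    have e2 : f ≫ (p ≫ j) ≫ i = (f ≫ p) ≫ j ≫ i := by simp only [Category.assoc]
    rw [e2, hF.w]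
    have e3 : toUnit F ≫ η[H] = (1 : F ⟶ H) := rfl
    rw [e3, MonObj.one_comp]
  have h6 : IsFinite F.hom := isFinite_of_pow m hm (f ≫ i) h5
  have h7 := dim_le_zero_of_isFinite F
  obtain ⟨d, hd⟩ := Img.exists_dim F
  have h8 : topologicalKrullDim F.left = 0 := by
    rw [hd] at h7 ⊢
    have : d ≤ 0 := by exact_mod_cast h7
    have : d = 0 := by omega
    subst this
    rfl
  rw [hdim, h8, add_zero]

end K517.SubAV
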