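import Mathlib.RingTheory.SimpleModule.Basic

/-!
# A criterion for semisimplicity of a ring

`isSemisimpleRing_of_idem`: `R = ∑ R e_j` and every nonzero element of `R e_j` generates `R e_j`.
-/

set_option autoImplicit false

namespace K517.SemiRing

open Submodule

theorem isSemisimpleRing_of_idem {R : Type*} [Ring R] {J : Type*} [Fintype J] (e : J → R)
    (hsum : ∑ j, e j = 1) (h : ∀ (j : J) (x : R), x * e j ≠ 0 → ∃ y : R, y * (x * e j) = e j) :
    IsSemisimpleRing R := by
  have h1 : ∀ j, IsSemisimpleModule R (span R {e j}) := by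
    intro j
    by_cases he : e j = 0
    · have : Subsingleton (span R {e j}) := by
        rw [he, span_zero_singleton]
        infer_instance
      exact (isSemisimpleModule_iff _ _).mpr Subsingleton.instComplementedLattice
    · have : IsSimpleModule R (span R {e j}) := by
        rw [isSimpleModule_iff_toSpanSingleton_surjective]
        refine ⟨⟨⟨0, ⟨e j, mem_span_singleton_self _⟩, fun h0 => he (congrArg Subtype.val h0).symm⟩⟩, ?_⟩
        rintro ⟨x, hx⟩ hx0 ⟨z, hz⟩
        obtain ⟨a, rfl⟩ := mem_span_singleton.1 hx
        obtain ⟨b, rfl⟩ := mem_span_singleton.1 hz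
        obtain ⟨y, hy⟩ := h j a (fun h0 => hx0 (Subtype.ext h0))
        refine ⟨b * y, Subtype.ext ?_⟩
        change (b * y) * (a * e j) = b * e j
        rw [mul_assoc, hy]
      infer_instance
  refine isSemisimpleModule_of_isSemisimpleModule_submodule' h1 ?_
  rw [eq_top_iff]
  intro x _
  have hx : x = ∑ j, x * e j := by rw [← Finset.mul_sum, hsum, mul_one]
  rw [hx]
  exact Submodule.sum_mem _ fun j _ => mem_iSup_of_mem j (mem_span_singleton.2 ⟨x, rfl⟩)

end K517.SemiRing
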