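import Groth.Prelude.Def_EndRing
import Groth.Agent.AbVar.K517.SemiRing
import Mathlib.Tactic.FieldSimp

/-!
# Semisimplicity of `End⁰` from a decomposition up to isogeny

`isSemisimpleRing_end0`: if `n · 1_A` is a sum of endomorphisms factoring through objects `S_j` such that every
nonzero homomorphism between the `S_j` has a quasi-retraction, then `End⁰(A)` is semisimple.
-/

set_option autoImplicit false
universe u v

open CategoryTheory MonoidalCategory CartesianMonoidalCategory MonObj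
open scoped TensorProduct

namespace K517.SemiCat

variable {C : Type u} [Category.{v} C] [CartesianMonoidalCategory C] [BraidedCategory C]

/-- Elements of `ℚ ⊗ M` are of the form `(1/n) ⊗ m`. -/
theorem exists_smul_tmul {M : Type v} [AddCommGroup M] (x : ℚ ⊗[ℤ] M) :
    ∃ (n : ℕ) (m : M), 1 ≤ n ∧ x = (1 / (n : ℚ)) ⊗ₜ[ℤ] m := by
  induction x with
  | zero => exact ⟨1, 0, le_rfl, by rw [TensorProduct.tmul_zero]⟩
  | tmul q m =>
    refine ⟨q.den, q.num • m, q.den_pos, ?_⟩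
    rw [← TensorProduct.smul_tmul]
    congr 1
    rw [zsmul_eq_mul, mul_one_div, Rat.num_div_den]
  | add x y hx hy =>
    obtain ⟨a, m, ha, rfl⟩ := hx
    obtain ⟨b, m', hb, rfl⟩ := hy
    refine ⟨a * b, (b : ℤ) • m + (a : ℤ) • m', Nat.mul_pos ha hb, ?_⟩
    have ha' : (a : ℚ) ≠ 0 := by exact_mod_cast (by omega : a ≠ 0)
    have hb' : (b : ℚ) ≠ 0 := by exact_mod_cast (by omega : b ≠ 0)
    rw [TensorProduct.tmul_add, ← TensorProduct.smul_tmul, ← TensorProduct.smul_tmul]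
    congr 2
    · rw [zsmul_eq_mul]
      push_cast
      field_simp
    · rw [zsmul_eq_mul]
      push_cast
      field_simp

theorem tmul_nsmul {M : Type v} [AddCommGroup M] (q : ℚ) (n : ℕ) (m : M) :
    (q ⊗ₜ[ℤ] (n • m) : ℚ ⊗[ℤ] M) = (q * n) ⊗ₜ[ℤ] m := by
  rw [← natCast_zsmul, ← TensorProduct.smul_tmul, zsmul_eq_mul, Int.cast_natCast, mul_comm]

theorem isSemisimpleRing_end0 (A : C) [GrpObj A] [IsCommMonObj A] {J : Type*} [Fintype J]
    (S : J → CommGrp C) (a : ∀ j, S j ⟶ CommGrp.mk A) (b : ∀ j, CommGrp.mk A ⟶ S j) (n : ℕ)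
    (hn : 1 ≤ n) (h2 : ∑ j, b j ≫ a j = n • 𝟙 _)
    (h3 : ∀ (i j : J) (f : S i ⟶ S j), f ≠ 0 → ∃ (m : ℕ) (g : S j ⟶ S i), 1 ≤ m ∧ f ≫ g = m • 𝟙 _) :
    IsSemisimpleRing (EndAV.End0 A) := by
  have hn' : (n : ℚ) ≠ 0 := by exact_mod_cast (by omega : n ≠ 0)
  let p : J → EndAV.End A := fun j => b j ≫ a j
  refine SemiRing.isSemisimpleRing_of_idem (fun j => (1 / (n : ℚ)) ⊗ₜ[ℤ] p j) ?_ ?_
  · have h4 : (∑ j, p j : EndAV.End A) = n • (1 : EndAV.End A) := h2
    rw [← TensorProduct.tmul_sum, h4, tmul_nsmul, one_div_mul_cancel hn']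
    rfl
  · intro j x hx
    obtain ⟨m, f, hm, rfl⟩ := exists_smul_tmul x
    have hm' : (m : ℚ) ≠ 0 := by exact_mod_cast (by omega : m ≠ 0)
    rw [Algebra.TensorProduct.tmul_mul_tmul] at hx ⊢
    have h4 : f * p j = b j ≫ a j ≫ f := Category.assoc _ _ _
    have h5 : ∃ k, a j ≫ f ≫ b k ≠ 0 := by
      by_contra hcon
      push Not at hcon
      apply hx
      have h6 : n • (a j ≫ f) = 0 := by
        have h7 : a j ≫ f ≫ (n • 𝟙 (CommGrp.mk A)) = 0 := by
          rw [← h2, Preadditive.comp_sum, Preadditive.comp_sum]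
          refine Finset.sum_eq_zero fun k _ => ?_
          have h8 : a j ≫ f ≫ b k ≫ a k = (a j ≫ f ≫ b k) ≫ a k := by simp only [Category.assoc]
          rw [h8, hcon k, Limits.zero_comp]
        rw [Preadditive.comp_nsmul, Preadditive.comp_nsmul, Category.comp_id] at h7
        exact h7
      have h9 : n • (b j ≫ a j ≫ f) = 0 := by
        rw [← Preadditive.comp_nsmul, h6, Limits.comp_zero]
      rw [h4]
      have h10 := tmul_nsmul (M := EndAV.End A) (1 / (m : ℚ) * (1 / n) * (1 / n)) n (b j ≫ a j ≫ f)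
      rw [mul_assoc (1 / (m : ℚ) * (1 / n)), one_div_mul_cancel hn', _root_.mul_one] at h10
      rw [← h10]
      exact (congrArg (fun t : EndAV.End A => ((1 / (m : ℚ) * (1 / n) * (1 / n)) ⊗ₜ[ℤ] t : EndAV.End0 A))
        h9).trans (TensorProduct.tmul_zero _ _)
    obtain ⟨k, hk⟩ := h5
    obtain ⟨m', g, hm1, hg⟩ := h3 j k _ hk
    have hm1' : (m' : ℚ) ≠ 0 := by exact_mod_cast (by omega : m' ≠ 0)
    let y : EndAV.End A := b k ≫ g ≫ a j
    refine ⟨((m : ℚ) / m') ⊗ₜ[ℤ] y, ?_⟩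
    rw [Algebra.TensorProduct.tmul_mul_tmul]
    have h6 : y * (f * p j) = m' • p j := by
      rw [h4]
      change (b j ≫ a j ≫ f) ≫ (b k ≫ g ≫ a j) = m' • (b j ≫ a j)
      have h7 : (b j ≫ a j ≫ f) ≫ (b k ≫ g ≫ a j) = b j ≫ ((a j ≫ f ≫ b k) ≫ g) ≫ a j := by
        simp only [Category.assoc]
      rw [h7, hg, Preadditive.nsmul_comp, Category.id_comp, Preadditive.comp_nsmul]
    rw [h6, tmul_nsmul]
    congr 1
    field_simp

end K517.SemiCat
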