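import Groth.Agent.AbVar.K517.Img
import Groth.Agent.Sga7.H756.RevIsog
import Groth.Agent.AbVar.K517.SemiCat

/-!
# Isogenies, simple abelian varieties and the rational endomorphism algebra

* `IsSimple A` : the hypothesis of the rows on simple abelian varieties;
* `surjective_of_isSimple`, `exists_rev_of_surjective`, `exists_rev_of_isSimple` ;
* `isUnit_toEnd0` : an endomorphism with a quasi-inverse is invertible in `End⁰`.
-/

set_option autoImplicit false
universe u v

open CategoryTheory MonoidalCategory CartesianMonoidalCategory MonObj GrpObj AlgebraicGeometry Limits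
open scoped TensorProduct

namespace K517.Isog

variable {K : Type u} [Field K]

/-- An abelian variety whose only abelian subvarieties are trivial or everything. -/
def IsSimple (A : Over (Spec (CommRingCat.of K))) [GrpObj A] : Prop :=
  ∀ (B : Over (Spec (CommRingCat.of K))) [GrpObj B] [GeometricallyIntegral B.hom] (i : B ⟶ A)
    [IsMonHom i] [IsClosedImmersion i.left], Subsingleton B.left ∨ IsIso i

theorem surjective_of_isSimple {A B : Over (Spec (CommRingCat.of K))} [GrpObj A] [GrpObj B]
    [IsProper A.hom] [GeometricallyIntegral A.hom] [IsProper B.hom]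
    (hB : IsSimple B) (u : A ⟶ B) [IsMonHom u] (hu : u ≠ 1) : Surjective u.left := by
  obtain ⟨C, hC, p, i, h1, h2, h3, h4, h5, h6, h7, h8⟩ := Img.exists_image u
  rcases hB C i with h | h
  · exfalso
    apply hu
    rw [← h5, Img.eq_one_of_subsingleton h p, MonObj.one_comp]
  · have : IsIso i.left := inferInstanceAs (IsIso ((Over.forget _).map i))
    rw [← h5, Over.comp_left]
    infer_instance

theorem exists_rev_of_surjective {A B : Over (Spec (CommRingCat.of K))} [GrpObj A] [GrpObj B]
    [IsProper A.hom] [GeometricallyIntegral A.hom] [IsProper B.hom] [GeometricallyIntegral B.hom]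
    (u : A ⟶ B) [IsMonHom u] [Surjective u.left]
    (hd : topologicalKrullDim A.left ≤ topologicalKrullDim B.left) :
    ∃ (n : ℕ) (v : B ⟶ A), 1 ≤ n ∧ IsMonHom v ∧ u ≫ v = (𝟙 A) ^ n ∧ v ≫ u = (𝟙 B) ^ n :=
  Groth.Agent.Sga7.H756.RevIsog.exists_rev K u (Img.isIsogenyOver_of_surjective u hd)

section

variable {C : Type u} [Category.{v} C] [CartesianMonoidalCategory C] [BraidedCategory C]
  {A : C} [GrpObj A] [IsCommMonObj A]

/-- An endomorphism with a quasi-inverse is invertible in `End⁰`. -/
theorem isUnit_tmul (q : ℚ) (hq : q ≠ 0) (f g : EndAV.End A) (n : ℕ) (hn : 1 ≤ n) (h1 : f * g = n)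
    (h2 : g * f = n) : IsUnit (q ⊗ₜ[ℤ] f : EndAV.End0 A) := by
  have hn' : (n : ℚ) ≠ 0 := by exact_mod_cast (by omega : n ≠ 0)
  have key : ∀ q' : ℚ, q' = 1 / n → (q' ⊗ₜ[ℤ] ((n : ℕ) : EndAV.End A) : EndAV.End0 A) = 1 := by
    rintro q' rfl
    have h3 : ((n : ℕ) : EndAV.End A) = (n : ℤ) • (1 : EndAV.End A) := by
      rw [zsmul_one]
      simp
    rw [h3, ← TensorProduct.smul_tmul, zsmul_eq_mul, Int.cast_natCast, mul_one_div_cancel hn']
    rfl
  refine ⟨⟨q ⊗ₜ[ℤ] f, (1 / (q * n)) ⊗ₜ[ℤ] g, ?_, ?_⟩, rfl⟩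
  · rw [Algebra.TensorProduct.tmul_mul_tmul, h1]
    exact key _ (by field_simp)
  · rw [Algebra.TensorProduct.tmul_mul_tmul, h2]
    exact key _ (by field_simp)

end

end K517.Isog
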