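import Groth.Agent.AbVar.K517.SubAV
import Groth.Agent.AbVar.K517.Isog

/-!
# Homomorphisms between simple abelian varieties over any field

* `dim_kernel_le` : the kernel of a nontrivial homomorphism from a simple abelian variety has dimension zero;
* `exists_rev_of_isSimple` : nontrivial homomorphisms between simple abelian varieties are isogenies;
* `dim_lt` : a proper closed subscheme of an integral scheme has smaller dimension.
-/

set_option autoImplicit false
universe u

open CategoryTheory MonoidalCategory CartesianMonoidalCategory MonObj GrpObj AlgebraicGeometry Limits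

namespace K517.Simple

open K517.Isog

variable {k : Type u} [Field k]

theorem isClosedImmersion_one (B : Over (Spec (CommRingCat.of k))) [GrpObj B] [IsSeparated B.hom] :
    IsClosedImmersion (η[B] : 𝟙_ (Over (Spec (CommRingCat.of k))) ⟶ B).left := by
  have hw : (η[B] : 𝟙_ (Over (Spec (CommRingCat.of k))) ⟶ B).left ≫ B.hom = 𝟙 _ := Over.w _
  have h0 : IsClosedImmersion
      ((η[B] : 𝟙_ (Over (Spec (CommRingCat.of k))) ⟶ B).left ≫ B.hom) := by
    rw [hw]; infer_instance
  exact IsClosedImmersion.of_comp _ B.hom

theorem isClosedImmersion_kernel {A B N : Over (Spec (CommRingCat.of k))} [GrpObj B]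
    [IsSeparated B.hom] (u : A ⟶ B) (i : N ⟶ A) (hi : AlgGrp.IsKernel i u) :
    IsClosedImmersion i.left := by
  have h3 : IsPullback i.left (toUnit N).left u.left (η[B] : 𝟙_ (Over (Spec (CommRingCat.of k))) ⟶ B).left :=
    IsPullback.map (Over.forget _) hi
  exact MorphismProperty.of_isPullback h3.flip (isClosedImmersion_one B)

/-- The kernel of a nontrivial homomorphism from a simple abelian variety has dimension zero. -/
theorem dim_kernel_le {A C N : Over (Spec (CommRingCat.of k))} [GrpObj A] [IsProper A.hom]
    [GeometricallyIntegral A.hom] [GrpObj C] [IsSeparated C.hom] (hA : IsSimple A) (u : A ⟶ C) [IsMonHom u]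
    (hu : u ≠ 1) [GrpObj N] (i : N ⟶ A) [IsMonHom i] (hi : AlgGrp.IsKernel i u) :
    topologicalKrullDim N.left ≤ 0 := by
  have hic := isClosedImmersion_kernel u i hi
  obtain ⟨B, gB, b, hb1, hb2, hb3, hb4, hb5⟩ := SubAV.exists_subvariety i
  have hcl : IsClosedImmersion (b ≫ i).left := by rw [Over.comp_left]; infer_instance
  rcases hA B (b ≫ i) with h | h
  · rw [← hb5]
    have : DiscreteTopology B.left := inferInstance
    exact topologicalKrullDim_zero_of_discreteTopology _
  · exfalso
    apply hu
    have h1 : (b ≫ i) ≫ u = 1 := by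
      rw [Category.assoc, hi.w]
      have e3 : toUnit N ≫ η[C] = (1 : N ⟶ C) := rfl
      rw [e3, MonObj.comp_one]
    calc u = inv (b ≫ i) ≫ (b ≫ i) ≫ u := by rw [IsIso.inv_hom_id_assoc]
      _ = 1 := by rw [h1, MonObj.comp_one]

/-- Nontrivial homomorphisms between simple abelian varieties are isogenies. -/
theorem exists_rev_of_isSimple {A C : Over (Spec (CommRingCat.of k))} [GrpObj A] [IsProper A.hom]
    [GeometricallyIntegral A.hom] [GrpObj C] [IsProper C.hom] [GeometricallyIntegral C.hom]
    (hA : IsSimple A) (hC : IsSimple C) (u : A ⟶ C) [IsMonHom u] (hu : u ≠ 1) :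
    ∃ (n : ℕ) (v : C ⟶ A), 1 ≤ n ∧ IsMonHom v ∧ u ≫ v = (𝟙 A) ^ n ∧ v ≫ u = (𝟙 C) ^ n := by
  have hs : Surjective u.left := surjective_of_isSimple hC u hu
  obtain ⟨F, gF, f, hf, hF⟩ := Groth.Agent.Grpsch.KerMul.exists_kernel u
  have h0 := dim_kernel_le hA u hu f hF
  have hqc : QuasiCompact u.left := Groth.Agent.Sga7.H760.FieldHom.quasiCompact_left u
  have h1 := Img.dim_eq u f hF
  refine exists_rev_of_surjective u ?_
  rw [h1]
  calc topologicalKrullDim C.left + topologicalKrullDim F.left
      ≤ topologicalKrullDim C.left + 0 := by gcongr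
    _ = topologicalKrullDim C.left := add_zero _

/-- A proper closed subscheme of an integral algebraic scheme has smaller dimension. -/
theorem dim_lt {B A : Over (Spec (CommRingCat.of k))} [GrpObj A] [GrpObj B] [IsProper A.hom]
    [GeometricallyIntegral A.hom] (i : B ⟶ A) [IsClosedImmersion i.left] (hi : ¬ IsIso i) :
    topologicalKrullDim B.left < topologicalKrullDim A.left := by
  by_contra hcon
  rw [not_lt] at hcon
  apply hi
  have hlft : LocallyOfFiniteType B.hom := by rw [← Over.w i]; infer_instance
  have hne : Nonempty B.left := ⟨(η[B] : 𝟙_ (Over (Spec (CommRingCat.of k))) ⟶ B).left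
    (IsLocalRing.closedPoint k : Spec (CommRingCat.of k))⟩
  obtain ⟨d, hd⟩ := Img.exists_dim B
  have hint : IsIntegral A.left := GeometricallyIntegral.isIntegral_of_subsingleton A.hom
  obtain ⟨c, hc⟩ := Groth.Agent.Sga7.H760.FieldHom.exists_maximal i.left hcon (by
    rw [hd]
    exact WithBot.coe_lt_coe.2 (ENat.natCast_lt_top d))
  have h1 : genericPoint A.left = i.left c := hc _ (genericPoint_specializes _)
  have h2 : Surjective i.left := by
    constructor
    rw [← Set.range_eq_univ, Set.eq_univ_iff_forall]
    intro y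
    have h3 : IsClosed (Set.range i.left) := i.left.isClosedEmbedding.isClosed_range
    have h4 : genericPoint A.left ⤳ y := genericPoint_specializes y
    exact h4.mem_closed h3 ⟨c, h1.symm⟩
  have h5 : IsIso i.left := isIso_of_isClosedImmersion_of_surjective _
  exact (Over.isoMk (asIso i.left) (Over.w _) : B ≅ A).isIso_hom

end K517.Simple
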