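import Groth.Agent.AbVar.K520.Prod
import Groth.Agent.S3016
import Groth.Agent.S1529
import Groth.Agent.Sga7.H760.FieldHom
import Groth.Prelude.Def_SGA7IX

/-!
# Images and kernels of homomorphisms of abelian varieties over a field

* `exists_image` : a homomorphism of abelian varieties is a flat surjective homomorphism onto an abelian
  variety followed by a closed immersion;
* `eq_one_of_subsingleton` : morphisms into an abelian variety with one point are trivial;
* `exists_dim` : dimensions are natural numbers;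
* `isFinite_kernel` : the kernel of a surjective homomorphism between groups of the same dimension is
  finite; `isIsogenyOver_of_surjective`.
-/

set_option autoImplicit false
universe u

open CategoryTheory MonoidalCategory CartesianMonoidalCategory MonObj GrpObj AlgebraicGeometry Limits

namespace K517.Img

variable {K : Type u} [Field K]

theorem exists_image {A B : Over (Spec (CommRingCat.of K))} [GrpObj A] [GrpObj B]
    [IsProper A.hom] [GeometricallyIntegral A.hom] [IsProper B.hom] (u : A ⟶ B) [IsMonHom u] :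
    ∃ (C : Over (Spec (CommRingCat.of K))) (_ : GrpObj C) (p : A ⟶ C) (i : C ⟶ B),
      IsProper C.hom ∧ GeometricallyIntegral C.hom ∧ IsMonHom p ∧ IsMonHom i ∧ p ≫ i = u ∧
      Flat p.left ∧ Surjective p.left ∧ IsClosedImmersion i.left := by
  have hq : QuasiCompact u.left := Groth.Agent.Sga7.H760.FieldHom.quasiCompact_left u
  obtain ⟨C, hC, p, i, h1, h2, h3, h4, h5, h6, h7, h8, h9⟩ :=
    Groth.Agent.Sga7.H760.FieldHom.exists_fact u
  refine ⟨C, hC, p, i, ?_, ?_, h1, h2, h3, h4, h5, h7⟩
  · have : IsProper (i.left ≫ B.hom) := inferInstance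
    rwa [Over.w] at this
  · have : GeometricallyIntegral (p.left ≫ C.hom) := by rw [Over.w]; infer_instance
    exact K520.Prod.geometricallyIntegral_of_flat_surjective p.left C.hom

/-- A one-point abelian variety is trivial. -/
theorem isIso_one_of_subsingleton {C : Over (Spec (CommRingCat.of K))} [GrpObj C] [IsProper C.hom]
    [GeometricallyIntegral C.hom] (h : Subsingleton C.left) :
    IsIso (η[C] : 𝟙_ (Over (Spec (CommRingCat.of K))) ⟶ C) := by
  have hw : (η[C] : 𝟙_ (Over (Spec (CommRingCat.of K))) ⟶ C).left ≫ C.hom = 𝟙 _ := Over.w _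
  have h0 : IsClosedImmersion
      ((η[C] : 𝟙_ (Over (Spec (CommRingCat.of K))) ⟶ C).left ≫ C.hom) := by
    rw [hw]; infer_instance
  have h1 : IsClosedImmersion (η[C] : 𝟙_ (Over (Spec (CommRingCat.of K))) ⟶ C).left :=
    IsClosedImmersion.of_comp _ C.hom
  have h2 : Surjective (η[C] : 𝟙_ (Over (Spec (CommRingCat.of K))) ⟶ C).left :=
    ⟨fun y => ⟨(IsLocalRing.closedPoint K : Spec (CommRingCat.of K)), Subsingleton.elim _ _⟩⟩
  have h3 : IsIntegral C.left := GeometricallyIntegral.isIntegral_of_subsingleton C.hom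
  have h4 : IsIso (η[C] : 𝟙_ (Over (Spec (CommRingCat.of K))) ⟶ C).left :=
    isIso_of_isClosedImmersion_of_surjective _
  exact (Over.isoMk (asIso (η[C] : 𝟙_ (Over (Spec (CommRingCat.of K))) ⟶ C).left)
    (Over.w _) : 𝟙_ (Over (Spec (CommRingCat.of K))) ≅ C).isIso_hom

theorem eq_one_of_subsingleton {C : Over (Spec (CommRingCat.of K))} [GrpObj C] [IsProper C.hom]
    [GeometricallyIntegral C.hom] (h : Subsingleton C.left) {T : Over (Spec (CommRingCat.of K))}
    (x : T ⟶ C) : x = 1 := by
  have := isIso_one_of_subsingleton h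
  calc x = (x ≫ inv η[C]) ≫ η[C] := by simp
    _ = toUnit T ≫ η[C] := by rw [Subsingleton.elim (x ≫ inv η[C]) (toUnit T)]
    _ = 1 := rfl

/-- Dimensions of algebraic groups are natural numbers. -/
theorem exists_dim (A : Over (Spec (CommRingCat.of K))) [GrpObj A] [LocallyOfFiniteType A.hom] :
    ∃ d : ℕ, topologicalKrullDim A.left = d := by
  obtain ⟨d, hd, -⟩ := Groth.Agent.Fdesc.GrpDimHom.rtd_eq A
  exact ⟨d, hd⟩

/-- `dim A = dim B + dim ker u` for `u` surjective. -/
theorem dim_eq {A B N : Over (Spec (CommRingCat.of K))} [GrpObj A] [GrpObj B]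
    [LocallyOfFiniteType A.hom] [LocallyOfFiniteType B.hom] (u : A ⟶ B) [IsMonHom u]
    [QuasiCompact u.left] [Surjective u.left] (i : N ⟶ A) (hi : AlgGrp.IsKernel i u) :
    topologicalKrullDim A.left = topologicalKrullDim B.left + topologicalKrullDim N.left := by
  have h := (Groth.Agent.S3016.result K A B u).2
  have h1 : topologicalKrullDim (Set.range u.left.base) = topologicalKrullDim B.left := by
    have h2 : Set.range u.left.base = Set.univ := Set.range_eq_univ.2 u.left.surjective
    rw [h2]
    exact IsHomeomorph.topologicalKrullDim_eq (Homeomorph.Set.univ B.left)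
      (Homeomorph.Set.univ B.left).isHomeomorph
  have h3 : IsPullback i.left (toUnit N).left u.left (η[B] : 𝟙_ (Over (Spec (CommRingCat.of K))) ⟶ B).left :=
    IsPullback.map (Over.forget _) hi
  have e := (h3.isoPullback).schemeIsoToHomeo
  rw [h, h1, e.isHomeomorph.topologicalKrullDim_eq]

theorem le_zero_of_add {a b : ℕ} {x : WithBot ℕ∞} (h : (a : WithBot ℕ∞) = b + x)
    (hd : (a : WithBot ℕ∞) ≤ b) : x ≤ 0 := by
  induction x with
  | bot => exact bot_le
  | coe y =>
    induction y with
    | top =>
      exfalso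
      have h1 : ((a : ℕ) : ℕ∞) = (b : ℕ∞) + ⊤ := by exact_mod_cast h
      simp at h1
    | coe n =>
      have h1 : a = b + n := by exact_mod_cast h
      have h2 : a ≤ b := by exact_mod_cast hd
      have h3 : n = 0 := by omega
      subst h3
      exact le_rfl

theorem isFinite_of_dim (N : Over (Spec (CommRingCat.of K))) [LocallyOfFiniteType N.hom]
    [QuasiCompact N.hom] (h : topologicalKrullDim N.left ≤ 0) : IsFinite N.hom := by
  let _ : N.left.Over (Spec (CommRingCat.of K)) := ⟨N.hom⟩
  have h4 : LocallyOfFiniteType (N.left ↘ (Spec (CommRingCat.of K))) := ‹LocallyOfFiniteType N.hom›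
  have h5 : QuasiCompact (N.left ↘ (Spec (CommRingCat.of K))) := ‹QuasiCompact N.hom›
  exact (Groth.Agent.S1529.result K N.left h).2

theorem isFinite_kernel {A B N : Over (Spec (CommRingCat.of K))} [GrpObj A] [GrpObj B]
    [LocallyOfFiniteType A.hom] [QuasiCompact A.hom] [LocallyOfFiniteType B.hom]
    [IsSeparated B.hom] (u : A ⟶ B) [IsMonHom u] [Surjective u.left]
    (hd : topologicalKrullDim A.left ≤ topologicalKrullDim B.left) (i : N ⟶ A)
    (hi : AlgGrp.IsKernel i u) : IsFinite N.hom := by
  have hq : QuasiCompact u.left := Groth.Agent.Sga7.H760.FieldHom.quasiCompact_left u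
  have h := dim_eq u i hi
  obtain ⟨a, ha⟩ := exists_dim A
  obtain ⟨b, hb⟩ := exists_dim B
  have hN : topologicalKrullDim N.left ≤ 0 := by
    rw [ha, hb] at hd
    rw [ha, hb] at h
    exact le_zero_of_add h hd
  have h3 : IsPullback i.left (toUnit N).left u.left (η[B] : 𝟙_ (Over (Spec (CommRingCat.of K))) ⟶ B).left :=
    IsPullback.map (Over.forget _) hi
  have hw : (η[B] : 𝟙_ (Over (Spec (CommRingCat.of K))) ⟶ B).left ≫ B.hom = 𝟙 _ := Over.w _
  have h0 : IsClosedImmersion
      ((η[B] : 𝟙_ (Over (Spec (CommRingCat.of K))) ⟶ B).left ≫ B.hom) := by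
    rw [hw]; infer_instance
  have h1 : IsClosedImmersion (η[B] : 𝟙_ (Over (Spec (CommRingCat.of K))) ⟶ B).left :=
    IsClosedImmersion.of_comp _ B.hom
  have h2 : IsClosedImmersion i.left := MorphismProperty.of_isPullback h3.flip h1
  have h4 : LocallyOfFiniteType N.hom := by rw [← Over.w i]; infer_instance
  have h5 : QuasiCompact N.hom := by rw [← Over.w i]; infer_instance
  exact isFinite_of_dim N hN

/-- Surjective homomorphisms between abelian varieties of the same dimension are isogenies. -/
theorem isIsogenyOver_of_surjective {A B : Over (Spec (CommRingCat.of K))} [GrpObj A] [GrpObj B]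
    [LocallyOfFiniteType A.hom] [QuasiCompact A.hom] [LocallyOfFiniteType B.hom]
    [IsSeparated B.hom] (u : A ⟶ B) [IsMonHom u] [hs : Surjective u.left]
    (hd : topologicalKrullDim A.left ≤ topologicalKrullDim B.left) : SGA7.IsIsogenyOver u :=
  ⟨hs, fun _ i hi => isFinite_kernel u hd i hi⟩

end K517.Img
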