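import Groth.Agent.AbVar.K511.HT.Iface
import Groth.Agent.AbVar.K520.Prod
import Groth.Agent.AbVar.K517.Img
import Groth.Agent.Grpsch.MulFinFlat
import Groth.Agent.S8356
import Groth.Agent.S8357

/-!
# From an order to the maximal order, up to isogeny (node `OL` of the Honda–Tate plan)
-/

set_option autoImplicit false
universe u

open CategoryTheory CategoryTheory.Limits MonoidalCategory CartesianMonoidalCategory MonObj GrpObj AlgebraicGeometry
open scoped NumberField

namespace K517.HTOL

/-! ## Lie algebras of group schemes over a field -/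

section Lie

variable {K : Type u} [Field K] {G H J : Over (Spec (CommRingCat.of K))} [GrpObj G] [GrpObj H] [GrpObj J]
  (f : Spec (CommRingCat.of K) ⟶ Spec (CommRingCat.of K))

theorem mul_smul (a b : K) (v : LieS.Lie G K f) : (a * b) • v = a • (b • v) := by
  obtain ⟨L, _, _, ⟨M⟩⟩ := Groth.Agent.S8356.result _ G K f
  obtain ⟨x, rfl⟩ := M.e.surjective v
  obtain ⟨x, rfl⟩ := Multiplicative.ofAdd.surjective x
  rw [← M.e_smul, ← M.e_smul, ← M.e_smul, SemigroupAction.mul_smul]

theorem one_smul (v : LieS.Lie G K f) : (1 : K) • v = v := by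
  obtain ⟨L, _, _, ⟨M⟩⟩ := Groth.Agent.S8356.result _ G K f
  obtain ⟨x, rfl⟩ := M.e.surjective v
  obtain ⟨x, rfl⟩ := Multiplicative.ofAdd.surjective x
  rw [← M.e_smul, _root_.one_smul]

theorem smul_one (a : K) : a • (1 : LieS.Lie G K f) = 1 := by
  apply Subtype.ext
  rw [LieS.smul_val]
  exact MonObj.comp_one _

theorem map_smul (φ : G ⟶ H) [IsMonHom φ] (a : K) (v : LieS.Lie G K f) :
    LieS.map K f φ (a • v) = a • LieS.map K f φ v := by
  apply Subtype.ext
  change (LieS.scale K f a ≫ v.1) ≫ φ = LieS.scale K f a ≫ v.1 ≫ φ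
  rw [Category.assoc]

theorem map_comp (φ : G ⟶ H) [IsMonHom φ] (ψ : H ⟶ J) [IsMonHom ψ] (v : LieS.Lie G K f) :
    LieS.map K f (φ ≫ ψ) v = LieS.map K f ψ (LieS.map K f φ v) := by
  apply Subtype.ext
  change v.1 ≫ φ ≫ ψ = (v.1 ≫ φ) ≫ ψ
  rw [Category.assoc]

theorem map_congr {φ ψ : G ⟶ H} [IsMonHom φ] [IsMonHom ψ] (h : φ = ψ) (v : LieS.Lie G K f) :
    LieS.map K f φ v = LieS.map K f ψ v := by
  subst h; rfl

theorem map_pow (φ ψ : G ⟶ H) [IsMonHom φ] [IsMonHom ψ] (n : ℕ) (h : ψ = φ ^ n) (v : LieS.Lie G K f) :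
    LieS.map K f ψ v = (LieS.map K f φ v) ^ n := by
  apply Subtype.ext
  rw [SubgroupClass.coe_pow]
  change v.1 ≫ ψ = (v.1 ≫ φ) ^ n
  rw [h, MonObj.comp_pow]

theorem pow_eq (v : LieS.Lie G K f) (n : ℕ) : v ^ n = (n : K) • v := by
  have := Groth.Agent.S8357.result _ G K f v n
  rw [zpow_natCast] at this
  rw [this, Int.cast_natCast]

theorem smul_cancel {a : K} (ha : a ≠ 0) {v w : LieS.Lie G K f} (h : a • v = a • w) : v = w := by
  have h1 : a⁻¹ • (a • v) = a⁻¹ • (a • w) := by rw [h]
  rwa [← mul_smul, ← mul_smul, inv_mul_cancel₀ ha, one_smul, one_smul] at h1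

end Lie

/-! ## Dimension -/

section Dim

variable {k : Type u} [Field k]

theorem dim_le_of_surjective {A B : Over (Spec (CommRingCat.of k))} [GrpObj A] [GrpObj B]
    [LocallyOfFiniteType A.hom] [LocallyOfFiniteType B.hom] (u : A ⟶ B) [IsMonHom u]
    [QuasiCompact u.left] [Surjective u.left] :
    topologicalKrullDim B.left ≤ topologicalKrullDim A.left := by
  have hi : AlgGrp.IsKernel (pullback.fst u (η[B] : 𝟙_ (Over (Spec (CommRingCat.of k))) ⟶ B)) u := by
    have h := IsPullback.of_hasPullback u (η[B] : 𝟙_ (Over (Spec (CommRingCat.of k))) ⟶ B)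
    rwa [toUnit_unique (pullback.snd u (η[B] : 𝟙_ (Over (Spec (CommRingCat.of k))) ⟶ B)) (toUnit _)] at h
  have h := Img.dim_eq u _ hi
  rw [h]
  let N := pullback u (η[B] : 𝟙_ (Over (Spec (CommRingCat.of k))) ⟶ B)
  let s : 𝟙_ (Over (Spec (CommRingCat.of k))) ⟶ N := pullback.lift η[A] (𝟙 _) (by
    rw [IsMonHom.one_hom, Category.id_comp])
  have hne : Nonempty N.left := ⟨s.left (IsLocalRing.closedPoint k)⟩
  have h2 : (0 : WithBot ℕ∞) ≤ topologicalKrullDim N.left := by
    obtain ⟨y⟩ := hne
    have : Nonempty (TopologicalSpace.IrreducibleCloseds N.left) :=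
      ⟨⟨closure {y}, isIrreducible_singleton.closure, isClosed_closure⟩⟩
    exact Order.krullDim_nonneg
  calc topologicalKrullDim B.left = topologicalKrullDim B.left + 0 := (add_zero _).symm
    _ ≤ _ := by gcongr

/-- Isogenous abelian varieties have the same dimension. -/
theorem dim_eq_of_rev {A B : Over (Spec (CommRingCat.of k))} [GrpObj A] [GrpObj B]
    [IsProper A.hom] [GeometricallyIntegral A.hom] [IsProper B.hom] [GeometricallyIntegral B.hom]
    (p : A ⟶ B) [IsMonHom p] (q : B ⟶ A) [IsMonHom q] (n : ℕ) (hn : 1 ≤ n) (h1 : p ≫ q = (𝟙 A) ^ n)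
    (h2 : q ≫ p = (𝟙 B) ^ n) : topologicalKrullDim A.left = topologicalKrullDim B.left := by
  have hA : Surjective ((𝟙 A : A ⟶ A) ^ n).left :=
    (Groth.Agent.Grpsch.MulFinFlat.isFinite_flat_surjective k A n hn).2.2
  have hB : Surjective ((𝟙 B : B ⟶ B) ^ n).left :=
    (Groth.Agent.Grpsch.MulFinFlat.isFinite_flat_surjective k B n hn).2.2
  rw [← h1, Over.comp_left] at hA
  rw [← h2, Over.comp_left] at hB
  have hq : Surjective q.left := Surjective.of_comp p.left q.left
  have hp : Surjective p.left := Surjective.of_comp q.left p.left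
  have hp' : QuasiCompact p.left := by
    have h1 : QuasiCompact (p.left ≫ B.hom) := by rw [Over.w]; infer_instance
    exact QuasiCompact.of_comp _ B.hom
  have hq' : QuasiCompact q.left := by
    have h1 : QuasiCompact (q.left ≫ A.hom) := by rw [Over.w]; infer_instance
    exact QuasiCompact.of_comp _ A.hom
  exact le_antisymm (dim_le_of_surjective q) (dim_le_of_surjective p)

/-- A morphism from a reduced scheme that factors through a closed immersion after a surjective base change factors. -/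
theorem exists_fac {T X Y Z : Over (Spec (CommRingCat.of k))} [IsReduced X.left] (i : Y ⟶ Z) [IsClosedImmersion i.left]
    (m : X ⟶ Z) (e : T ⟶ X) [Surjective e.left] (w : T ⟶ Y) (h : e ≫ m = w ≫ i) : ∃ l : X ⟶ Y, l ≫ i = m := by
  have h1 : IsClosedImmersion (pullback.fst m.left i.left) := inferInstance
  have h2 : Surjective (pullback.fst m.left i.left) := by
    have h3 : pullback.lift e.left w.left (by rw [← Over.comp_left, h, Over.comp_left]) ≫
        pullback.fst m.left i.left = e.left := pullback.lift_fst _ _ _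
    have h4 : Surjective (pullback.lift e.left w.left (by rw [← Over.comp_left, h, Over.comp_left]) ≫
        pullback.fst m.left i.left) := by rw [h3]; infer_instance
    exact Surjective.of_comp (pullback.lift e.left w.left _) _
  have h5 : IsIso (pullback.fst m.left i.left) := isIso_of_isClosedImmersion_of_surjective _
  have h6 : (inv (pullback.fst m.left i.left) ≫ pullback.snd m.left i.left) ≫ i.left = m.left := by
    rw [Category.assoc, ← pullback.condition, IsIso.inv_hom_id_assoc]
  refine ⟨Over.homMk (inv (pullback.fst m.left i.left) ≫ pullback.snd m.left i.left) ?_, ?_⟩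
  · rw [← Over.w i, ← Category.assoc, h6, Over.w]
  · ext1
    exact h6

end Dim

/-- The node `OL`. -/
theorem main : K511.HT.OL.{u} := by
  classical
  intro K _ _ A _ _ _ _ g hg L _ _ O _ inc n hn hinc hsur ρ Φ hΦ
  -- the division by `n`
  choose o ho using hsur
  have ho' : ∀ (z : 𝓞 L) (y : O), inc y = n * z → y = o z := fun z y h => hinc (by rw [h, ho])
  have oadd : ∀ z z' : 𝓞 L, o (z + z') = o z + o z' := fun z z' => by
    symm; apply ho'; rw [map_add, ho, ho]; ring
  have ozero : o 0 = 0 := by symm; apply ho'; rw [map_zero, mul_zero]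
  have oone : o 1 = (n : O) := by symm; apply ho'; rw [map_natCast, _root_.mul_one]
  let oHom : 𝓞 L →+ O := ⟨⟨o, ozero⟩, oadd⟩
  have omul : ∀ x z : 𝓞 L, o z * o x = (n : O) * o (x * z) := fun x z => hinc (by
    rw [map_mul, map_mul, ho, ho, ho, map_natCast]; ring)
  -- a basis
  let b := (Module.finBasis ℤ (𝓞 L))
  let m := Module.finrank ℤ (𝓞 L)
  -- the power
  obtain ⟨P, gP, cP, pP, iP, pr, inj, pext, plift, hlift, -, -, -⟩ := K520.Prod.exists_pow A m
  obtain ⟨u, hu⟩ := hlift A (fun j => (ρ (o (b j)) : EndAV.Hom A A))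
  obtain ⟨A', gA', p, i, c1, c2, c3, c4, c5, c6, c7, c8⟩ := Img.exists_image u.toHom
  have cA' : IsCommMonObj A' := isCommMonObj_of_isProper_of_geometricallyIntegral A'
  have hmono : Mono i := (Over.forget _).mono_of_mono_map (inferInstanceAs (Mono i.left))
  have hqc : QuasiCompact p.left := Groth.Agent.Sga7.H760.FieldHom.quasiCompact_left p
  have hepi : Epi p := by
    have : Epi p.left := Flat.epi_of_flat_of_surjective _
    exact (Over.forget _).epi_of_epi_map (inferInstanceAs (Epi p.left))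
  let pH : EndAV.Hom A A' := EndAV.Hom.of p
  let iH : EndAV.Hom A' P := EndAV.Hom.of i
  have hpi : pH ≫ iH = u := EndAV.Hom.ext c5
  have pcancel : ∀ {Z : Over (Spec (CommRingCat.of K))} [GrpObj Z] [IsCommMonObj Z] {a c : EndAV.Hom A' Z},
      pH ≫ a = pH ≫ c → a = c := by
    intro Z _ _ a c h
    apply EndAV.Hom.ext
    rw [← cancel_epi p]
    exact congrArg EndAV.Hom.toHom h
  have icancel : ∀ {Z : Over (Spec (CommRingCat.of K))} [GrpObj Z] [IsCommMonObj Z] {a c : EndAV.Hom Z A'},
      (∀ j, a ≫ iH ≫ pr j = c ≫ iH ≫ pr j) → a = c := by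
    intro Z _ _ a c h
    apply EndAV.Hom.ext
    rw [← cancel_mono i]
    refine pext _ _ _ fun j => ?_
    have := congrArg EndAV.Hom.toHom (h j)
    rw [Category.assoc, Category.assoc]
    exact this
  -- the maps `A' ⟶ A`
  let lam : 𝓞 L →+ EndAV.Hom A' A :=
    { toFun z := ∑ l, (b.repr z l) • (iH ≫ pr l)
      map_zero' := by simp
      map_add' z z' := by
        rw [← Finset.sum_add_distrib]
        refine Finset.sum_congr rfl fun l _ => ?_
        rw [map_add, Finsupp.add_apply, add_smul] }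
  have hlam : ∀ z, pH ≫ lam z = (ρ (o z) : EndAV.Hom A A) := by
    intro z
    have h1 : (ρ (o z) : EndAV.Hom A A) = ∑ l, (b.repr z l) • (ρ (o (b l)) : EndAV.Hom A A) := by
      have h2 : o z = ∑ l, (b.repr z l) • o (b l) := by
        have h3 := congrArg oHom (b.sum_repr z)
        rw [map_sum] at h3
        simp only [map_zsmul] at h3
        exact h3.symm
      rw [h2, map_sum]
      exact Finset.sum_congr rfl fun l _ => map_zsmul ρ _ _
    rw [h1]
    change pH ≫ (∑ l, (b.repr z l) • (iH ≫ pr l)) = _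
    rw [Preadditive.comp_sum]
    refine Finset.sum_congr rfl fun l _ => ?_
    rw [Preadditive.comp_zsmul, ← Category.assoc, hpi, hu]
  have hlamb : ∀ j, lam (b j) = iH ≫ pr j := by
    intro j
    change ∑ l, (b.repr (b j) l) • (iH ≫ pr l) = _
    rw [Finset.sum_eq_single j]
    · rw [b.repr_self, Finsupp.single_eq_same, one_zsmul]
    · intro l _ hl
      rw [b.repr_self, Finsupp.single_eq_of_ne (by tauto), zero_zsmul]
    · intro h; exact absurd (Finset.mem_univ _) h
  have lcancel : ∀ {Z : Over (Spec (CommRingCat.of K))} [GrpObj Z] [IsCommMonObj Z] {a c : EndAV.Hom Z A'},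
      (∀ z, a ≫ lam z = c ≫ lam z) → a = c := by
    intro Z _ _ a c h
    exact icancel fun j => by rw [← hlamb]; exact h _
  -- the action
  have hex : ∀ x : 𝓞 L, ∃ r : EndAV.End A', ∀ z, (r : EndAV.Hom A' A') ≫ lam z = lam (x * z) := by
    intro x
    obtain ⟨w, hw⟩ := plift A' (fun j => (lam (x * b j)).toHom)
    have hn1 : 1 ≤ n := Nat.one_le_iff_ne_zero.2 hn
    have hsn : Surjective ((𝟙 A : A ⟶ A) ^ n).left :=
      (Groth.Agent.Grpsch.MulFinFlat.isFinite_flat_surjective K A n hn1).2.2
    have hs : Surjective (((𝟙 A : A ⟶ A) ^ n) ≫ p).left := by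
      rw [Over.comp_left]; infer_instance
    have hfac : (((𝟙 A : A ⟶ A) ^ n) ≫ p) ≫ w = ((ρ (o x)).toHom ≫ p) ≫ i := by
      refine pext _ _ _ fun j => ?_
      have h1 : (n : ℕ) • (pH ≫ lam (x * b j)) = EndAV.Hom.of (ρ (o x)).toHom ≫ u ≫ pr j := by
        rw [hlam, hu]
        have h2 : (ρ (o (b j)) * ρ (o x) : EndAV.End A) = ((n : ℕ) : EndAV.End A) * ρ (o (x * b j)) := by
          rw [← map_mul, omul, map_mul, map_natCast]
        rw [← nsmul_eq_mul] at h2
        exact h2.symm
      have h2 := congrArg EndAV.Hom.toHom h1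
      rw [EndAV.Hom.toHom_nsmul, EndAV.Hom.toHom_comp, EndAV.Hom.toHom_comp, EndAV.Hom.toHom_comp, ← c5] at h2
      rw [Category.assoc, Category.assoc, Category.assoc, hw]
      rw [Category.assoc] at h2
      rw [Category.assoc]
      refine Eq.trans ?_ h2
      rw [MonObj.pow_comp, Category.id_comp]
      rfl
    have hred : IsReduced A'.left := by
      have : IsIntegral A'.left := GeometricallyIntegral.isIntegral_of_subsingleton A'.hom
      infer_instance
    obtain ⟨r, hr⟩ := exists_fac i w _ _ hfac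
    have hrj : ∀ j, r ≫ i ≫ (pr j).toHom = (lam (x * b j)).toHom := by
      intro j
      rw [← Category.assoc, hr, hw]
    have hmon : IsMonHom r := by
      have key : ∀ {T : Over (Spec (CommRingCat.of K))} (s t : T ⟶ A'),
          (∀ j, s ≫ i ≫ (pr j).toHom = t ≫ i ≫ (pr j).toHom) → s = t := by
        intro T s t h
        rw [← cancel_mono i]
        refine pext _ _ _ fun j => ?_
        simpa only [← Category.assoc] using h j
      constructor
      · refine key _ _ fun j => ?_
        rw [Category.assoc, hrj, IsMonHom.one_hom, IsMonHom.one_hom_assoc, IsMonHom.one_hom]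
      · refine key _ _ fun j => ?_
        rw [Category.assoc, hrj, IsMonHom.mul_hom, Category.assoc, IsMonHom.mul_hom_assoc, IsMonHom.mul_hom,
          ← hrj, tensorHom_comp_tensorHom_assoc, tensorHom_comp_tensorHom_assoc, Category.assoc]
    refine ⟨EndAV.End.of r, fun z => ?_⟩
    have h1 : ∀ j, EndAV.Hom.of r ≫ iH ≫ pr j = lam (x * b j) := fun j => EndAV.Hom.ext (hrj j)
    change EndAV.Hom.of r ≫ (∑ l, (b.repr z l) • (iH ≫ pr l)) = _
    rw [Preadditive.comp_sum]
    conv_rhs => rw [← b.sum_repr z, Finset.mul_sum, map_sum]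
    refine Finset.sum_congr rfl fun l _ => ?_
    rw [Preadditive.comp_zsmul, h1, mul_smul_comm, map_zsmul]
  choose r hr using hex
  let ρ' : 𝓞 L →+* EndAV.End A' :=
    { toFun := r
      map_one' := by
        refine lcancel fun z => ?_
        rw [hr, _root_.one_mul]
        exact (Category.id_comp _).symm
      map_zero' := by
        refine lcancel fun z => ?_
        rw [hr, zero_mul, map_zero]
        exact zero_comp.symm
      map_add' := fun x y => by
        refine lcancel fun z => ?_
        rw [hr, add_mul, map_add, ← hr x, ← hr y]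
        exact (Preadditive.add_comp _ _ _ _ _ _).symm
      map_mul' := fun x y => by
        refine lcancel fun z => ?_
        rw [hr]
        change _ = (r y ≫ r x) ≫ lam z
        rw [Category.assoc, hr, hr]
        congr 1
        ring }
  -- the isogeny
  have hn1 : 1 ≤ n := Nat.one_le_iff_ne_zero.2 hn
  have hpq : pH ≫ lam 1 = (n : ℕ) • 𝟙 (CommGrp.mk A) := by
    rw [hlam, oone, map_natCast]
    change ((n : ℕ) : EndAV.End A) = (n : ℕ) • (1 : EndAV.End A)
    rw [nsmul_eq_mul, _root_.mul_one]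
  have hqp : lam 1 ≫ pH = (n : ℕ) • 𝟙 (CommGrp.mk A') := by
    apply pcancel
    rw [← Category.assoc, hpq, Preadditive.nsmul_comp, Category.id_comp, Preadditive.comp_nsmul, Category.comp_id]
  have hpq' : p ≫ (lam 1).toHom = (𝟙 A) ^ n := by
    have := congrArg EndAV.Hom.toHom hpq
    rwa [EndAV.Hom.toHom_nsmul] at this
  have hqp' : (lam 1).toHom ≫ p = (𝟙 A') ^ n := by
    have := congrArg EndAV.Hom.toHom hqp
    rwa [EndAV.Hom.toHom_nsmul] at this
  have hdim := dim_eq_of_rev p (lam 1).toHom n hn1 hpq' hqp'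
  refine ⟨A', gA', cA', c1, c2, by rw [← hdim, hg], ρ', ?_⟩
  intro φ hφ
  obtain ⟨v, hv, hv'⟩ := hΦ φ hφ
  have hnK : (n : K) ≠ 0 := Nat.cast_ne_zero.2 hn
  refine ⟨LieS.map K _ p v, ?_, ?_⟩
  · intro h1
    apply hv
    have h2 : LieS.map K (𝟙 _) (p ≫ (lam 1).toHom) v = (n : K) • v := by
      have h3 : IsMonHom ((𝟙 A : A ⟶ A) ^ n) := by rw [← hpq']; infer_instance
      have h4 : LieS.map K (𝟙 (K511.HT.Spc K)) (𝟙 A) v = v := by
        apply Subtype.ext
        change v.1 ≫ 𝟙 A = v.1
        exact Category.comp_id _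
      rw [map_congr (𝟙 _) hpq' v, map_pow (𝟙 _) (𝟙 A) ((𝟙 A : A ⟶ A) ^ n) n rfl v, h4, pow_eq]
    rw [map_comp, h1, map_one] at h2
    apply smul_cancel (𝟙 _) hnK
    rw [← h2, smul_one]
  · intro x
    have hx : pH ≫ (ρ' (n * x) : EndAV.Hom A' A') = (ρ (o x) : EndAV.Hom A A) ≫ pH := by
      refine lcancel fun z => ?_
      rw [Category.assoc, Category.assoc, hlam]
      change pH ≫ (r (n * x) ≫ lam z) = _
      rw [hr, hlam]
      change ρ (o (n * x * z)) = ρ (o z) * ρ (o x)
      rw [← map_mul, omul]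
      congr 1
      apply hinc
      rw [ho, map_mul, ho, map_natCast]
      ring
    have hx' : p ≫ (ρ' (n * x)).toHom = (ρ (o x)).toHom ≫ p := congrArg EndAV.Hom.toHom hx
    have h4 : ((ρ' (n * x)).toHom : A' ⟶ A') = (ρ' x).toHom ^ n := by
      have h5 : ρ' (n * x) = (n : ℕ) • ρ' x := by
        rw [map_mul, map_natCast, nsmul_eq_mul]
      rw [h5, EndAV.End.toHom_nsmul]
    apply smul_cancel (𝟙 _) hnK
    rw [← pow_eq, ← map_pow (𝟙 _) _ _ n h4, ← map_comp, map_congr (𝟙 _) hx', map_comp]
    rw [hv' (o x), map_smul, ← mul_smul]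
    congr 1
    change φ (inc (o x)) = _
    rw [ho, map_mul, map_natCast]

end K517.HTOL
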