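import Groth.Agent.AbVar.K511.HT.Iface2
import Mathlib.FieldTheory.Finite.GaloisField
import Mathlib.RingTheory.WittVector.DiscreteValuationRing
import Mathlib.RingTheory.WittVector.Complete
import Mathlib.Algebra.Field.ULift
import Mathlib.NumberTheory.LegendreSymbol.QuadraticChar.Basic

/-!
# The complete discrete valuation ring `W(𝔽_{r²})` (node `WIT` of the Honda–Tate project)
-/

set_option autoImplicit false
universe u

noncomputable section

namespace K517.HTWIT

/-- The node `WIT`. -/
theorem main : K511.HT.WIT.{u} := by
  intro r hr hr4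
  have : Fact r.Prime := ⟨hr⟩
  let k : Type u := ULift.{u} (GaloisField r 2)
  let _ : Field k := ULift.field
  have e : k ≃+* GaloisField r 2 := ULift.ringEquiv
  have : CharP k r := ULift.charP (GaloisField r 2) r
  have : Finite k := Finite.of_equiv _ e.symm.toEquiv
  have : Fintype k := Fintype.ofFinite k
  have hcard : Nat.card k = r ^ 2 := by
    rw [Nat.card_congr e.toEquiv, GaloisField.card r 2 two_ne_zero]
  have : PerfectRing k r := inferInstance
  have hmax : IsLocalRing.maximalIdeal (WittVector r k) = Ideal.span {(r : WittVector r k)} := by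
    exact (IsDiscreteValuationRing.irreducible_iff_uniformizer _).1 (WittVector.irreducible r)
  have hz : CharZero (WittVector r k) := by
    obtain ⟨q, hq⟩ := CharP.exists (WittVector r k)
    have hq0 : q = 0 := by
      by_contra h0
      have h1 : (q : WittVector r k) = 0 := CharP.cast_eq_zero _ _
      have h2 : (q : k) = 0 := by
        have := congrArg (WittVector.constantCoeff (p := r) (R := k)) h1
        rwa [map_natCast, map_zero] at this
      rw [CharP.cast_eq_zero_iff k r] at h2
      rcases CharP.char_is_prime_or_zero (WittVector r k) q with h3 | h3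
      · have h4 : r = q := (Nat.prime_dvd_prime_iff_eq hr h3).1 h2
        subst h4
        exact WittVector.p_nonzero r k h1
      · exact h0 h3
    subst hq0
    exact CharP.charP_to_charZero _
  have hcomp : IsAdicComplete (IsLocalRing.maximalIdeal (WittVector r k)) (WittVector r k) := by
    rw [hmax]; infer_instance
  have hres : Nat.card (IsLocalRing.ResidueField (WittVector r k)) = r ^ 2 := by
    rw [← hcard]
    exact Nat.card_congr ((Ideal.quotEquivOfEq hmax).trans (WittVector.quotientPEquiv (p := r) (k := k))).toEquiv
  have hsq : IsSquare (-1 : k) := by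
    rw [FiniteField.isSquare_neg_one_iff, ← Nat.card_eq_fintype_card, hcard]
    rw [Nat.pow_mod, hr4]; decide
  obtain ⟨z, hz⟩ := hsq
  have hr2 : r ≠ 2 := by rintro rfl; omega
  have hk2 : (2 : k) ≠ 0 := by
    intro h
    have : ((2 : ℕ) : k) = 0 := by exact_mod_cast h
    rw [CharP.cast_eq_zero_iff k r] at this
    exact hr2 ((Nat.prime_dvd_prime_iff_eq hr Nat.prime_two).1 this)
  refine ⟨WittVector r k, inferInstance, inferInstance, inferInstance, inferInstance, hcomp,
    WittVector.teichmuller r z, hmax, hres, ?_⟩
  set T := WittVector.teichmuller r (R := k) with hT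
  have h1 : (T (-1)) ^ 2 = 1 := by rw [← map_pow]; simp
  have h2 : (T z) ^ 2 = T (-1) := by rw [← map_pow, pow_two, ← hz]
  have h3 : (T (-1) - 1) * (T (-1) + 1) = 0 := by ring_nf; rw [h1]; ring
  rcases mul_eq_zero.1 h3 with h | h
  · exfalso
    have h4 : T (-1) = 1 := sub_eq_zero.1 h
    have h5 := congrArg (fun x : WittVector r k => x.coeff 0) h4
    simp only [hT, WittVector.teichmuller_coeff_zero, WittVector.one_coeff_zero] at h5
    apply hk2
    linear_combination -h5
  · rw [h2]; exact eq_neg_of_add_eq_zero_left h

end K517.HTWIT

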