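import Groth.Agent.S3673
import Groth.Agent.S3630
import Groth.Agent.S1937
import Groth.Agent.Dual.H369.HomOTens
import Groth.Agent.Dual.H377.AdjGlue
import Groth.Agent.Dual.H366.LciImm
import Groth.Agent.Dual.H366.ExtQCoh
import Groth.Agent.Dual.H339.OmegaRank
import Groth.Agent.Picfga.CurveRelDim
import Groth.Agent.Synt.K561.ConFree
import Groth.Agent.Krr.H463.DualLam
import Groth.Agent.Fdesc.LocGen
import Groth.Agent.PerfC.RHomD
import Groth.Agent.CohqA.FBCHom
import Groth.Agent.PerfC.ClosedPush
import Groth.Agent.Sga2.PnHomAdj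
import Groth.Agent.Ega2.QCohLocal

/-!
# `RHom(k(0), O_G)` for a smooth group over a field

`G` a smooth separated integral group scheme over a field `k` of dimension `g` with unit section `e`:
* `conormal_rank`: the conormal module of `e` has rank `g`;
* `main`: `H^p(RHom(e_* O, O_G)) = 0` for `p ≠ g`, and `H^g(RHom(e_* O, O_G)) ≅ e_* O`.
-/

set_option autoImplicit false

universe u

open CategoryTheory CategoryTheory.Limits MonoidalCategory CartesianMonoidalCategory MonObj AlgebraicGeometry

attribute [local instance] HasDerivedCategory.standard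

namespace K517.ExtPoint

open Groth.Agent Groth.Agent.PerfC.RHomD Groth.Agent.Krr.H495.Rank

open Groth.Agent.Fdesc.LocGen in
/-- Invertible modules on a one-point scheme are trivial. -/
theorem pic_trivial {X : Scheme.{u}} [Subsingleton X] [Nonempty X] (L : X.Modules)
    (hL : PicF.IsInvertible L) : Nonempty (L ≅ Coh.structureModule X) := by
  obtain ⟨x⟩ := ‹Nonempty X›
  obtain ⟨U, e, hxU, he⟩ := (isInvertible_iff L).1 hL x
  obtain rfl : U = ⊤ := by
    ext y
    simpa [Subsingleton.elim y x] using hxU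
  have h1 : IsIso (homOf e) := by
    rw [isIso_iff_isGen]
    simpa using he
  exact ⟨(asIso (homOf e)).symm⟩

variable {k : Type u} [Field k] (G : Over (Spec (CommRingCat.of k))) [GrpObj G]

theorem unit_comp : η[G].left ≫ G.hom = 𝟙 (Spec (CommRingCat.of k)) := Over.w (η[G])

instance isClosedImmersion_unit [IsSeparated G.hom] : IsClosedImmersion η[G].left := by
  have : IsClosedImmersion (η[G].left ≫ G.hom) := by
    rw [unit_comp]
    exact inferInstanceAs (IsClosedImmersion (𝟙 (Spec (CommRingCat.of k))))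
  exact IsClosedImmersion.of_comp η[G].left G.hom

theorem isKoszulRegularImmersion_unit [IsSeparated G.hom] [Smooth G.hom] :
    Dual3.IsKoszulRegularImmersion η[G].left := by
  refine ⟨inferInstance, fun V => ?_⟩
  refine Dual.H366.LciImm.isKoszulRegularIdeal η[G].left G.hom ?_ (isAffineOpen_top _) V (by simp)
  rw [unit_comp, Dual.H375.LciLocus.isLCIMor_iff]
  exact K561.LciDict.LM_id _

theorem conormal_rank [IsSeparated G.hom] [Smooth G.hom] [IsIntegral G.left] (g : ℕ)
    (hg : topologicalKrullDim ↥G.left = g) :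
    FlatMod.IsFinLocFreeOfRank g (Omega.conormal η[G].left) := by
  have hC := K561.ConFree.isFinLocFree_conormal η[G].left (isKoszulRegularImmersion_unit G)
  have hsm : SmoothOfRelativeDimension g G.hom :=
    Picfga.CurveRelDim.smoothOfRelativeDimension_of_topologicalKrullDim_eq k G.left G.hom g hg
  have hO := Dual.H339.OmegaRank.isFinLocFreeOfRank_omega g G.hom
  obtain ⟨⟨e⟩, -⟩ := S1937.result (Spec (CommRingCat.of k)) G
  rw [isFinLocFreeOfRank_iff]
  refine ⟨hC, fun x => ?_⟩
  have hx : G.hom (η[G].left x) = x := by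
    rw [← Scheme.Hom.comp_apply, unit_comp]
    rfl
  have h1 := K561.ConFree.rk_pullback G.hom hC (η[G].left x)
  rw [hx] at h1
  rw [← h1, ← rk_iso e (isFinLocFree_of_rank hO)]
  exact rk_of_rank hO _

theorem main [IsSeparated G.hom] [Smooth G.hom] [IsIntegral G.left] (g : ℕ)
    (hg : topologicalKrullDim ↥G.left = g) :
    (∀ p : ℤ, p ≠ (g : ℤ) → IsZero (DCoh.HD ((RH (DCoh.inD G.left ((Scheme.Modules.pushforward η[G].left).obj
      (Coh.structureModule (Spec (CommRingCat.of k)))))).obj (DCoh.inD G.left (Coh.structureModule G.left))) p)) ∧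
    Nonempty (DCoh.HD ((RH (DCoh.inD G.left ((Scheme.Modules.pushforward η[G].left).obj
      (Coh.structureModule (Spec (CommRingCat.of k)))))).obj (DCoh.inD G.left (Coh.structureModule G.left))) (g : ℤ) ≅
      (Scheme.Modules.pushforward η[G].left).obj (Coh.structureModule (Spec (CommRingCat.of k)))) := by
  let i : Spec (CommRingCat.of k) ⟶ G.left := η[G].left
  have hi : Dual3.IsKoszulRegularImmersion i := isKoszulRegularImmersion_unit G
  have hC : FlatMod.IsFinLocFreeOfRank g (Omega.conormal i) := conormal_rank G g hg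
  have h1 : DCoh.HasSheafHom (Omega.conormal i) := Sga2.PnHomAdj.hasSheafHom _
  have h2 : Dual3.HasHomO i := S3630.result _ _ i
  have h3 : EnoughInjectives G.left.Modules := Dcoh.DerSch.enoughInjectives _
  have h4 : PreservesFiniteLimits (Scheme.Modules.pushforward i) :=
    CohqA.FBCHom.preservesFiniteLimits_pushforward i
  have h5 : PreservesFiniteColimits (Scheme.Modules.pushforward i) := PerfC.ClosedPush.preservesFiniteColimits i
  have hN := Krr.H463.DualLam.isFinLocFreeOfRank_dual hC
  obtain ⟨L, hL⟩ := Dual.H366.ExtQCoh.exists_isExtPow g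
    (Ega2.QCohLocal.isQCoh_of_isFinLocFree (isFinLocFree_of_rank hN))
  have hL1 := Krr.H463.DualLam.isFinLocFreeOfRank_top hN hL
  have hs1 : Subsingleton (Spec (CommRingCat.of k)) := inferInstanceAs (Subsingleton (PrimeSpectrum k))
  have hs2 : Nonempty (Spec (CommRingCat.of k)) := inferInstanceAs (Nonempty (PrimeSpectrum k))
  obtain ⟨eL⟩ := pic_trivial L (Ega2.QCohLocal.isFinLocFreeOfRank_one_iff.1 hL1)
  let O := Dual.H377.AdjGlue.plusO G.left
  obtain ⟨hz, ⟨ez⟩⟩ := S3673.result _ _ i hi g hC L hL O ⟨Iso.refl _⟩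
  let M : G.left.Modules := (Scheme.Modules.pushforward i).obj (Coh.structureModule (Spec (CommRingCat.of k)))
  let E : CochainComplex G.left.Modules ℤ := (HomologicalComplex.single G.left.Modules (ComplexShape.up ℤ) 0).obj M
  have h6 : DCoh.HasLTensorCx E := Dcoh.ModTens.hasLTensorCx E
  have h7 : DCoh.HasRSheafHom E := hasRSheafHom E
  let e : DCoh.toD G.left E ≅ DCoh.inD G.left M :=
    (DerivedCategory.singleFunctorIsoCompQ G.left.Modules 0).symm.app M
  let e1 : (Dual3.pushD i).obj ((Dual3.RHomOPlus i).obj O).obj ≅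
      (RH (DCoh.inD G.left M)).obj (DCoh.inD G.left (Coh.structureModule G.left)) :=
    (Dual.H369.HomOTens.plusPushIso i E e).app O ≪≫
      (rsIso E).app (DCoh.inD G.left (Coh.structureModule G.left)) ≪≫
      (rhIso e (DCoh.inD G.left (Coh.structureModule G.left))).symm
  let e2 : ∀ p : ℤ, DCoh.HD ((RH (DCoh.inD G.left M)).obj (DCoh.inD G.left (Coh.structureModule G.left))) p ≅
      (Scheme.Modules.pushforward i).obj (DCoh.HD ((Dual3.RHomOPlus i).obj O).obj p) := fun p =>
    (DerivedCategory.homologyFunctor _ p).mapIso e1.symm ≪≫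
      (PerfA.ExactD.mapHomology (Scheme.Modules.pushforward i) p).app _
  refine ⟨fun p hp => ?_, ⟨e2 g ≪≫ (Scheme.Modules.pushforward i).mapIso (ez ≪≫ eL)⟩⟩
  exact (Functor.map_isZero _ (hz p hp)).of_iso (e2 p)

end K517.ExtPoint
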