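import Groth.Agent.Ega3B.AcycNbhd
import Groth.Agent.Ega3B.ChiFib
import Groth.Agent.Dix.InterNum
import Groth.Agent.PerfA.CohSerre
import Groth.Agent.Ega2.QCohLocal

/-!
# Cohomology of a flat family over a one-point scheme

`T` a finite one-point scheme over a field `k` with a rational point `t`, `w : Z ⟶ T` proper flat with fibre
`A` over `t`, `M` an invertible module on `Z` whose restriction to `A` has no higher cohomology: then
`M` has no higher cohomology, and `h⁰(M) = dim Γ(T) · h⁰(M|_A)`.
-/

set_option autoImplicit false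

universe u

open CategoryTheory CategoryTheory.Limits AlgebraicGeometry Opposite TopologicalSpace TensorProduct

namespace K517.AcycPt

open Groth.Agent Groth.Agent.Ega3B Groth.Agent.Ega3B.AcycNbhd Groth.Agent.Ega3B.AcyclicBC
open Groth.Agent.Ega3B.CechBC Groth.Agent.VarietyB.FlatH0 Groth.Agent.VarietyB.BCAlg
open Groth.Agent.Dix.InterNum

section alg

universe v v'

theorem finrank_congr {k : Type u} [Field k] {V : Type v} [AddCommGroup V] (m1 m2 : Module k V)
    (h : ∀ (c : k) (v : V), (haveI := m1; c • v) = (haveI := m2; c • v)) :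
    @Module.finrank k V _ _ m1 = @Module.finrank k V _ _ m2 := by
  rw [Module.ext' m1 m2 h]

variable {k R R' : Type u} [Field k] [CommRing R] [CommRing R'] [Algebra R R']
  {M : Type v} [AddCommGroup M] [Module R M] {M' : Type v'} [AddCommGroup M'] [Module R' M']

theorem finrank_compHom (β : k →+* R') (hβ : Function.Bijective β) :
    @Module.finrank k M' _ _ (Module.compHom M' β) = Module.finrank R' M' := by
  let _ : Module k M' := Module.compHom M' β
  unfold Module.finrank
  rw [rank_eq_of_equiv_equiv β (AddEquiv.refl M') hβ (fun _ _ => rfl)]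

theorem finrank_eq (α : k →+* R) (hb : Function.Bijective ((algebraMap R R').comp α)) [IsLocalRing R]
    [Module.Finite R M] [Module.Flat R M] (s : M →ₛₗ[algebraMap R R'] M') (hs : Function.Bijective (bc s)) :
    @Module.finrank k M _ _ (Module.compHom M α) =
      @Module.finrank k R _ _ (Module.compHom R α) *
        @Module.finrank k M' _ _ (Module.compHom M' ((algebraMap R R').comp α)) := by
  rw [finrank_compHom _ hb]
  have h1 : Module.Free R M := Module.free_of_flat_of_isLocalRing
  have h2 : Nontrivial R' := hb.1.nontrivial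
  have h3 : Module.finrank R' M' = Module.finrank R M := by
    rw [← (LinearEquiv.ofBijective (bc s) hs).finrank_eq, Module.finrank_baseChange]
  rw [h3]
  let _ : Algebra k R := α.toAlgebra
  let _ : Module k M := Module.compHom M α
  have h4 : IsScalarTower k R M := ⟨fun a b c => by rw [Algebra.smul_def, mul_smul]; rfl⟩
  exact (Module.finrank_mul_finrank k R M).symm

end alg

theorem isLocalRing_of_subsingleton (T : Scheme.{u}) [IsAffine T] [Subsingleton T] [Nonempty T] :
    IsLocalRing Γ(T, ⊤) := by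
  have h1 : Nonempty (PrimeSpectrum Γ(T, ⊤)) := ⟨T.isoSpec.hom (Classical.arbitrary T)⟩
  have h2 : Subsingleton (PrimeSpectrum Γ(T, ⊤)) := by
    have h : Subsingleton (Spec Γ(T, ⊤)) :=
      (Scheme.homeoOfIso T.isoSpec).symm.injective.subsingleton
    exact h
  have h3 : Subsingleton (MaximalSpectrum Γ(T, ⊤)) :=
    MaximalSpectrum.toPrimeSpectrum_injective.subsingleton
  have h4 : Nontrivial Γ(T, ⊤) := PrimeSpectrum.nonempty_iff_nontrivial.mp h1
  exact IsLocalRing.of_singleton_maximalSpectrum

variable {k : Type u} [Field k]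

/-- The dimension of the space of global sections. -/
noncomputable abbrev hz (k : Type u) [Field k] {X : Scheme.{u}} (a : X ⟶ Spec (CommRingCat.of k)) (M : X.Modules) : ℕ :=
  @Module.finrank k Γ(M, ⊤) _ _ (Module.compHom Γ(M, ⊤) (glo a))

theorem main {T Z A : Scheme.{u}} [Subsingleton T] [Nonempty T] (s : T ⟶ Spec (CommRingCat.of k)) [IsFinite s]
    (t : Spec (CommRingCat.of k) ⟶ T) (hts : t ≫ s = 𝟙 _) (w : Z ⟶ T) [IsProper w] [Flat w]
    (i : A ⟶ Z) (a : A ⟶ Spec (CommRingCat.of k)) (H : IsPullback i a w t) (M : Z.Modules)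
    (hM : PicF.IsInvertible M) (hv : ∀ p, Subsingleton (Coh.HH A ((Scheme.Modules.pullback i).obj M) (p + 1))) :
    (∀ p, Subsingleton (Coh.HH Z M (p + 1))) ∧
    hz k (w ≫ s) M = h0 s *
      hz k a ((Scheme.Modules.pullback i).obj M) := by
  have h1 : IsAffine T := isAffine_of_isAffineHom s
  have h2 : IsLocallyNoetherian T := LocallyOfFiniteType.isLocallyNoetherian s
  have hfl := Ega3B.ChiFib.isFlatOver_of_isInvertible w hM
  have hcoh : Coh.IsCoh M := PerfA.CohSerre.isCoh_of_isFinLocFree
    (Ega2.QCohLocal.isFinLocFree_of_rank (Ega2.QCohLocal.isFinLocFreeOfRank_one_iff.2 hM))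
  obtain ⟨V, hV, hxV, hvan⟩ := exists_nbhd_vanish w M hcoh hfl t i a H hv
    (show Spec (CommRingCat.of k) from (⊥ : PrimeSpectrum k))
  have hVt : V = ⊤ := by
    ext y
    simpa [Subsingleton.elim y (t (show Spec (CommRingCat.of k) from (⊥ : PrimeSpectrum k)))] using hxV
  subst hVt
  have hi : IsIso (⊤ : T.Opens).ι := isIso_of_isOpenImmersion_of_opensRange_eq_top _ (by simp)
  have hZ : ∀ p, Subsingleton (Coh.HH Z M (p + 1)) := by
    intro p
    have h3 : IsPullback (𝟙 Z) (w ≫ inv (⊤ : T.Opens).ι) w (⊤ : T.Opens).ι :=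
      IsPullback.of_horiz_isIso ⟨by simp⟩
    exact subsingleton_HH_of_iso ((Scheme.Modules.pullbackId Z).app M) _ (hvan Z (𝟙 Z) _ h3 p)
  refine ⟨hZ, ?_⟩
  obtain ⟨-, h5, h6⟩ := acyclicBC H M hcoh.1 hfl hZ
  have h7 := finite_sections w M hcoh
  have h8 := isLocalRing_of_subsingleton T
  let _ := algOver t (US := ⊤) (UT := ⊤) le_top
  let _ := modV w M ⊤
  let _ := modV a ((Scheme.Modules.pullback i).obj M) ⊤
  have h9 : (algebraMap Γ(T, ⊤) Γ(Spec (CommRingCat.of k), ⊤)).comp (glo s) =
      glo (𝟙 (Spec (CommRingCat.of k))) := by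
    ext c
    rw [← hts, glo_comp, ← appLE_top]
    rfl
  have h10 : Function.Bijective (glo (𝟙 (Spec (CommRingCat.of k)))) := by
    have h : (glo (𝟙 (Spec (CommRingCat.of k)))) =
        ((Scheme.ΓSpecIso (CommRingCat.of k)).inv ≫ (𝟙 (Spec (CommRingCat.of k)) : _ ⟶ _).appTop).hom := rfl
    rw [h, Scheme.Hom.id_appTop, Category.comp_id]
    exact ConcreteCategory.bijective_of_isIso (Scheme.ΓSpecIso (CommRingCat.of k)).inv
  have h11 := finrank_eq (k := k) (glo s) (by rw [h9]; exact h10) _ h5
  have h12 : hz k (w ≫ s) M = @Module.finrank k Γ(M, ⊤) _ _ (Module.compHom Γ(M, ⊤) (glo s)) := by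
    refine finrank_congr _ _ fun c v => ?_
    change glo (w ≫ s) c • v = (w.appLE ⊤ ⊤ le_top (glo s c)) • v
    rw [glo_comp, ← appLE_top]
  have h13 : hz k a ((Scheme.Modules.pullback i).obj M) =
      @Module.finrank k Γ((Scheme.Modules.pullback i).obj M, ⊤) _ _
        (Module.compHom Γ((Scheme.Modules.pullback i).obj M, ⊤)
          ((algebraMap Γ(T, ⊤) Γ(Spec (CommRingCat.of k), ⊤)).comp (glo s))) := by
    refine finrank_congr _ _ fun c v => ?_
    rw [h9]
    change glo a c • v = (a.appLE ⊤ ⊤ le_top (glo (𝟙 _) c)) • v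
    conv_lhs => rw [← Category.comp_id a, glo_comp, ← appLE_top]
  rw [h12, h13, h11]
  rfl

end K517.AcycPt
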