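import Mathlib.RingTheory.Artinian.Module
import Mathlib.RingTheory.SimpleModule.Basic
import Mathlib.RingTheory.IntegralClosure.IsIntegral.Basic
import Mathlib.Algebra.Algebra.Subalgebra.Lattice

/-!
# The algebra generated by a central integral element of a semisimple algebra is semisimple
-/

set_option autoImplicit false

namespace K517.AdjCentral

open Submodule

/-- Central nilpotent elements of a semisimple ring vanish. -/
theorem eq_zero_of_isNilpotent {R : Type*} [Ring R] [IsSemisimpleRing R] (y : R)
    (hc : ∀ z, z * y = y * z) (hy : IsNilpotent y) : y = 0 := by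
  obtain ⟨J, hJ⟩ := exists_isCompl (span R {y})
  obtain ⟨u, hu, j, hj, h1⟩ := Submodule.mem_sup.1 (show (1 : R) ∈ span R {y} ⊔ J by
    rw [hJ.sup_eq_top]; trivial)
  obtain ⟨a, rfl⟩ := mem_span_singleton.1 hu
  have h2 : y * j = 0 := by
    have m1 : y * j ∈ J := J.smul_mem y hj
    have m2 : y * j ∈ span R {y} := by
      rw [← hc j]
      exact smul_mem _ j (mem_span_singleton_self y)
    exact (Submodule.disjoint_def.1 hJ.disjoint) _ m2 m1
  have h3 : y = (y * a) * y := by
    calc y = y * 1 := (mul_one y).symm
      _ = y * (a • y + j) := by rw [h1]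
      _ = (y * a) * y := by rw [mul_add, h2, add_zero, smul_eq_mul, mul_assoc]
  have h4 : ∀ n : ℕ, y = (y * a) ^ n * y := by
    intro n
    induction n with
    | zero => rw [pow_zero, one_mul]
    | succ n ih => rw [pow_succ, mul_assoc, ← h3]; exact ih
  have hcomm : Commute y a := (hc a).symm
  obtain ⟨n, hn⟩ := hy
  rw [h4 n, hcomm.mul_pow, hn, zero_mul, zero_mul]

theorem isSemisimpleRing_adjoin {F R : Type*} [Field F] [Ring R] [Algebra F R] [IsSemisimpleRing R]
    (x : R) (hc : ∀ z, z * x = x * z) (hx : IsIntegral F x) :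
    IsSemisimpleRing (Algebra.adjoin F {x}) := by
  have hcen : ∀ y ∈ Algebra.adjoin F {x}, ∀ z : R, z * y = y * z := by
    intro y hy z
    induction hy using Algebra.adjoin_induction with
    | mem w hw =>
      rw [Set.mem_singleton_iff.1 hw]
      exact hc z
    | algebraMap r => exact (Algebra.commutes r z).symm
    | add a b _ _ ha hb => rw [mul_add, add_mul, ha, hb]
    | mul a b _ _ ha hb => rw [← mul_assoc, ha, mul_assoc, hb, ← mul_assoc]
  let _ : CommRing (Algebra.adjoin F {x}) := Algebra.adjoinCommRingOfComm F (by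
    rintro a ha b hb
    rw [Set.mem_singleton_iff.1 ha, Set.mem_singleton_iff.1 hb])
  have hfin : Module.Finite F (Algebra.adjoin F {x}) := by
    have := hx.fg_adjoin_singleton
    exact Module.Finite.iff_fg.2 this
  have hart : IsArtinianRing (Algebra.adjoin F {x}) := IsArtinianRing.of_finite F _
  have hred : IsReduced (Algebra.adjoin F {x}) := by
    refine ⟨fun y hy => ?_⟩
    apply Subtype.ext
    refine eq_zero_of_isNilpotent (y : R) (fun z => hcen y y.2 z) ?_
    obtain ⟨n, hn⟩ := hy
    exact ⟨n, congrArg Subtype.val hn⟩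
  exact IsArtinianRing.isSemisimpleRing_of_isReduced _

end K517.AdjCentral
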