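import Mathlib.LinearAlgebra.ExteriorPower.Basic
import Mathlib.LinearAlgebra.Alternating.Uncurry.Fin
import Mathlib.LinearAlgebra.TensorProduct.Basic
import Mathlib.LinearAlgebra.Determinant
import Mathlib.LinearAlgebra.Basis.VectorSpace

/-!
# Cramer's rule as a relation in `M ⊗ Λ^r M`

* `cramer`: for `M` free of rank `r` and `s : Fin (r + 1) → M`,
  `∑ (-1)^i s_i ⊗ (s_0 ∧ … ŝ_i … ∧ s_r) = 0` in `M ⊗ Λ^r M`;
* `sum_ne_zero`: a criterion for the nonvanishing of such a sum;
* `exists_ιMulti_ne_zero`: a spanning family of a free module of rank `r` has a nonzero `r`-fold wedge product;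
* `exists_form`: linear forms over a field (as a commutative ring with `IsField`).
-/

set_option autoImplicit false

namespace K517.CramerAlg

open scoped TensorProduct

section

variable {R : Type*} [CommRing R] {M : Type*} [AddCommGroup M] [Module R M]

/-- `m ↦ (v ↦ m ⊗ v_1 ∧ … ∧ v_r)`. -/
noncomputable def pre (r : ℕ) : M →ₗ[R] M [⋀^Fin r]→ₗ[R] (M ⊗[R] ⋀[R]^r M) where
  toFun m := (TensorProduct.mk R M (⋀[R]^r M) m).compAlternatingMap (exteriorPower.ιMulti R r)
  map_add' m m' := by
    ext v
    simp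
  map_smul' c m := by
    ext v
    simp

theorem pre_apply (r : ℕ) (m : M) (v : Fin r → M) :
    pre (R := R) r m v = m ⊗ₜ[R] exteriorPower.ιMulti R r v := rfl

theorem cramer {r : ℕ} (b : Module.Basis (Fin r) R M) (s : Fin (r + 1) → M) :
    ∑ i : Fin (r + 1), (-1) ^ (i : ℕ) • (s i ⊗ₜ[R] exteriorPower.ιMulti R r (i.removeNth s) :
      M ⊗[R] ⋀[R]^r M) = 0 := by
  have h : AlternatingMap.alternatizeUncurryFin (pre (R := R) (M := M) r) = 0 := by
    refine b.ext_alternating fun v hv => ?_
    have := Fintype.card_le_of_injective v hv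
    simp at this
  have h2 := congrArg (fun t : M [⋀^Fin (r + 1)]→ₗ[R] (M ⊗[R] ⋀[R]^r M) => t s) h
  simpa [AlternatingMap.alternatizeUncurryFin_apply, pre_apply] using h2

/-- A linear form on `M` equal to `1` on `s 0` and vanishing on the other `s i` shows that the relation is
nontrivial. -/
theorem sum_ne_zero {N : Type*} [AddCommGroup N] [Module R N] {r : ℕ} (s : Fin (r + 1) → M) (f : M →ₗ[R] R)
    (h0 : f (s 0) = 1) (h : ∀ i : Fin r, f (s i.succ) = 0) (n : Fin (r + 1) → N) (hn : n 0 ≠ 0) :
    ∑ i : Fin (r + 1), (-1) ^ (i : ℕ) • (s i ⊗ₜ[R] n i : M ⊗[R] N) ≠ 0 := by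
  intro h1
  have h2 := congrArg (TensorProduct.lift (LinearMap.mk₂ R (fun (m : M) (y : N) => f m • y)
    (by intros; rw [map_add, add_smul]) (by intros; rw [map_smul, smul_assoc])
    (by intros; rw [smul_add]) (by intros; rw [smul_comm]))) h1
  rw [map_sum, map_zero, Fin.sum_univ_succ] at h2
  simp only [map_zsmul, TensorProduct.lift.tmul, LinearMap.mk₂_apply, h, zero_smul, smul_zero,
    Finset.sum_const_zero, add_zero, Fin.val_zero, pow_zero, one_smul, h0] at h2
  exact hn h2

/-- A spanning family of a free module of rank `r` has a nonzero `r`-fold wedge product. -/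
theorem exists_ιMulti_ne_zero [Nontrivial R] {r : ℕ} (b : Module.Basis (Fin r) R M) {ι : Type*} (s : ι → M)
    (hs : Submodule.span R (Set.range s) = ⊤) :
    ∃ t : Fin r → ι, exteriorPower.ιMulti R r (fun i => s (t i)) ≠ 0 := by
  by_contra hne
  push Not at hne
  have h1 := exteriorPower.ιMulti_span_of_span R r M hs
  have h2 : Submodule.span R (exteriorPower.ιMulti R r '' {a : Fin r → M | Set.range a ⊆ Set.range s}) = ⊥ := by
    rw [Submodule.span_eq_bot]
    rintro _ ⟨a, ha, rfl⟩
    choose t ht using fun i => ha (Set.mem_range_self i)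
    rw [← hne t]
    congr 1
    funext i
    exact (ht i).symm
  rw [h2] at h1
  have h3 : exteriorPower.ιMulti R r b ∈ (⊥ : Submodule R (⋀[R]^r M)) := by rw [h1]; trivial
  rw [Submodule.mem_bot] at h3
  have h4 := exteriorPower.alternatingMapLinearEquiv_apply_ιMulti (b.det) b
  rw [h3, map_zero, b.det_self] at h4
  exact zero_ne_one h4

end

/-- Linear forms over a field, for a commutative ring which is a field. -/
theorem exists_form {R : Type*} [CommRing R] (hR : IsField R) {M : Type*} [AddCommGroup M] [Module R M]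
    (p : Submodule R M) {x : M} (hx : x ∉ p) : ∃ f : M →ₗ[R] R, f x = 1 ∧ ∀ y ∈ p, f y = 0 := by
  let _ : Field R := hR.toField
  obtain ⟨f, hfx, hf⟩ := Submodule.exists_le_ker_of_notMem (p := p) hx
  refine ⟨(f x)⁻¹ • f, ?_, ?_⟩
  · rw [LinearMap.smul_apply, smul_eq_mul, inv_mul_cancel₀ hfx]
  · intro y hy
    have : f y = 0 := hf hy
    rw [LinearMap.smul_apply, this, smul_zero]

end K517.CramerAlg
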