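import Groth.Agent.AbVar.K517.Simple

/-!
# Decomposition of an abelian variety into simple ones, up to isogeny

`Retr k` : every abelian subvariety `i : B ⟶ A` over `k` has a quasi-retraction `p`, `i ≫ p = n_B` with `n ≥ 1`.

* `exists_split` : the quasi-complement;
* `exists_decomp` : the decomposition into simple abelian varieties;
* `isSemisimpleRing_end0` : `End⁰(A)` is semisimple.
-/

set_option autoImplicit false
universe u

open CategoryTheory MonoidalCategory CartesianMonoidalCategory MonObj GrpObj AlgebraicGeometry Limits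

namespace K517.Decomp

open K517.Isog

variable {k : Type u} [Field k]

/-- The weak form of Poincaré's reducibility theorem. -/
def Retr (k : Type u) [Field k] : Prop :=
  ∀ (A B : Over (Spec (CommRingCat.of k))) [GrpObj A] [IsProper A.hom] [GeometricallyIntegral A.hom]
    [GrpObj B] [IsProper B.hom] [GeometricallyIntegral B.hom] (i : B ⟶ A) [IsMonHom i]
    [IsClosedImmersion i.left], ∃ (n : ℕ) (p : A ⟶ B), 1 ≤ n ∧ IsMonHom p ∧ i ≫ p = (𝟙 B) ^ n

/-- Multiplication by `n ≥ 1` is trivial only on the trivial abelian variety. -/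
theorem subsingleton_of_pow {B : Over (Spec (CommRingCat.of k))} [GrpObj B] [IsProper B.hom]
    [GeometricallyIntegral B.hom] (n : ℕ) (hn : 1 ≤ n) (h : (𝟙 B : B ⟶ B) ^ n = 1) :
    Subsingleton B.left := by
  have hS : Subsingleton (Spec (CommRingCat.of k)) :=
    inferInstanceAs (Subsingleton (PrimeSpectrum k))
  have h1 : Surjective ((𝟙 B : B ⟶ B) ^ n).left :=
    (Groth.Agent.Grpsch.MulFinFlat.isFinite_flat_surjective k B n hn).2.2
  have h2 : ((𝟙 B : B ⟶ B) ^ n).left = B.hom ≫ (η[B] : 𝟙_ (Over (Spec (CommRingCat.of k))) ⟶ B).left := by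
    rw [h]
    rfl
  have h3 : ∀ y : B.left, y = (η[B] : 𝟙_ (Over (Spec (CommRingCat.of k))) ⟶ B).left
      (IsLocalRing.closedPoint k : Spec (CommRingCat.of k)) := by
    intro y
    obtain ⟨x, rfl⟩ := h1.surj y
    rw [h2, Scheme.Hom.comp_apply]
    congr 1
    exact @Subsingleton.elim _ hS _ _
  exact ⟨fun a b => (h3 a).trans (h3 b).symm⟩

/-- The quasi-complement of an abelian subvariety. -/
theorem exists_split (hP : Retr k) {A B : Over (Spec (CommRingCat.of k))} [GrpObj A] [IsProper A.hom]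
    [GeometricallyIntegral A.hom] [GrpObj B] [IsProper B.hom] [GeometricallyIntegral B.hom]
    (i : B ⟶ A) [IsMonHom i] [IsClosedImmersion i.left] :
    ∃ (n : ℕ) (C : Over (Spec (CommRingCat.of k))) (_ : GrpObj C) (j : C ⟶ A) (q : A ⟶ B) (p : A ⟶ C),
      1 ≤ n ∧ IsProper C.hom ∧ GeometricallyIntegral C.hom ∧ IsMonHom j ∧ IsClosedImmersion j.left ∧
      IsMonHom q ∧ IsMonHom p ∧ i ≫ q = (𝟙 B) ^ n ∧ j ≫ p = (𝟙 C) ^ n ∧ i ≫ p = 1 ∧ j ≫ q = 1 ∧
      (q ≫ i) * (p ≫ j) = (𝟙 A) ^ n := by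
  have hA : IsCommMonObj A := isCommMonObj_of_isProper_of_geometricallyIntegral A
  have hB : IsCommMonObj B := isCommMonObj_of_isProper_of_geometricallyIntegral B
  obtain ⟨n, q, hn, hq, hiq⟩ := hP A B i
  let f : EndAV.Hom A A := (n : ℕ) • (𝟙 (CommGrp.mk A)) - (EndAV.Hom.of q ≫ EndAV.Hom.of i)
  have hf : (q ≫ i) * f.toHom = (𝟙 A) ^ n := by
    have h1 : (EndAV.Hom.of q ≫ EndAV.Hom.of i) + f = (n : ℕ) • (𝟙 (CommGrp.mk A)) := by
      simp only [f]; abel
    have h2 := congrArg EndAV.Hom.toHom h1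
    rw [EndAV.Hom.toHom_add, EndAV.Hom.toHom_nsmul] at h2
    exact h2
  have hif : i ≫ f.toHom = 1 := by
    have h1 : EndAV.Hom.of i ≫ f = 0 := by
      have h3 : EndAV.Hom.of i ≫ EndAV.Hom.of q = (n : ℕ) • 𝟙 (CommGrp.mk B) := by
        apply EndAV.Hom.ext
        rw [EndAV.Hom.toHom_nsmul]
        exact hiq
      simp only [f]
      rw [Preadditive.comp_sub, ← Category.assoc, h3, Preadditive.comp_nsmul, Preadditive.nsmul_comp,
        Category.comp_id, Category.id_comp, sub_self]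
    exact congrArg EndAV.Hom.toHom h1
  have hfq : f.toHom ≫ q = 1 := by
    have h1 : f ≫ EndAV.Hom.of q = 0 := by
      have h3 : EndAV.Hom.of i ≫ EndAV.Hom.of q = (n : ℕ) • 𝟙 (CommGrp.mk B) := by
        apply EndAV.Hom.ext
        rw [EndAV.Hom.toHom_nsmul]
        exact hiq
      simp only [f]
      rw [Preadditive.sub_comp, Category.assoc, h3, Preadditive.comp_nsmul, Preadditive.nsmul_comp,
        Category.comp_id, Category.id_comp, sub_self]
    exact congrArg EndAV.Hom.toHom h1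
  obtain ⟨C, gC, p, j, c1, c2, c3, c4, c5, c6, c7, c8⟩ := Img.exists_image f.toHom
  have hC : IsCommMonObj C := isCommMonObj_of_isProper_of_geometricallyIntegral C
  have hmono : Mono j := (Over.forget _).mono_of_mono_map (inferInstanceAs (Mono j.left))
  have hqc : QuasiCompact p.left := Groth.Agent.Sga7.H760.FieldHom.quasiCompact_left p
  have hepi : Epi p := by
    have : Epi p.left := Flat.epi_of_flat_of_surjective _
    exact (Over.forget _).epi_of_epi_map (inferInstanceAs (Epi p.left))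
  have hjq : j ≫ q = 1 := by
    rw [← cancel_epi p, ← Category.assoc, c5, hfq, MonObj.comp_one]
  have hip : i ≫ p = 1 := by
    rw [← cancel_mono j, Category.assoc, c5, hif, MonObj.one_comp]
  refine ⟨n, C, gC, j, q, p, hn, c1, c2, c4, c8, hq, c3, hiq, ?_, hip, hjq, by rw [c5]; exact hf⟩
  rw [← cancel_mono j, Category.assoc, c5]
  have h1 : j ≫ ((q ≫ i) * f.toHom) = j ≫ (𝟙 A) ^ n := by rw [hf]
  rw [MonObj.comp_mul, ← Category.assoc, hjq, MonObj.one_comp, _root_.one_mul, MonObj.comp_pow,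
    Category.comp_id] at h1
  rw [h1, MonObj.pow_comp, Category.id_comp]

/-- A decomposition, up to isogeny, of the abelian variety `A` into simple ones. -/
structure Dec (A : Over (Spec (CommRingCat.of k))) [GrpObj A] [IsCommMonObj A] where
  J : Type
  fin : Fintype J
  S : J → CommGrp (Over (Spec (CommRingCat.of k)))
  a : ∀ j, S j ⟶ CommGrp.mk A
  b : ∀ j, CommGrp.mk A ⟶ S j
  n : ℕ
  one_le : 1 ≤ n
  proper : ∀ j, IsProper (S j).X.hom
  geomInt : ∀ j, GeometricallyIntegral (S j).X.hom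
  simple : ∀ j, IsSimple (S j).X
  nontriv : ∀ j, ¬ Subsingleton (S j).X.left
  comp_self : ∀ j, a j ≫ b j = n • 𝟙 _
  comp_ne : ∀ i j, i ≠ j → a i ≫ b j = 0
  sum_eq : ∑ j, b j ≫ a j = n • 𝟙 _

attribute [instance] Dec.fin Dec.proper Dec.geomInt

section

variable {C : Type*} [Category C] [Preadditive C] {A B D : C} (i : B ⟶ A) (q : A ⟶ B) (j : D ⟶ A) (p : A ⟶ D) (n : ℕ)
  (hiq : i ≫ q = n • 𝟙 B) (hjp : j ≫ p = n • 𝟙 D) (hip : i ≫ p = 0) (hjq : j ≫ q = 0)
  (hsum : q ≫ i + p ≫ j = n • 𝟙 A)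
  {J₁ J₂ : Type} [Fintype J₁] [Fintype J₂] (S₁ : J₁ → C) (S₂ : J₂ → C)
  (a₁ : ∀ x, S₁ x ⟶ B) (b₁ : ∀ x, B ⟶ S₁ x) (n₁ : ℕ) (a₂ : ∀ x, S₂ x ⟶ D) (b₂ : ∀ x, D ⟶ S₂ x) (n₂ : ℕ)
  (h₁ : ∀ x, a₁ x ≫ b₁ x = n₁ • 𝟙 _) (h₂ : ∀ x, a₂ x ≫ b₂ x = n₂ • 𝟙 _)
  (k₁ : ∀ x y, x ≠ y → a₁ x ≫ b₁ y = 0) (k₂ : ∀ x y, x ≠ y → a₂ x ≫ b₂ y = 0)
  (s₁ : ∑ x, b₁ x ≫ a₁ x = n₁ • 𝟙 _) (s₂ : ∑ x, b₂ x ≫ a₂ x = n₂ • 𝟙 _)

/-- The maps into `A` of the sum of two decompositions. -/
def inMap : ∀ t : J₁ ⊕ J₂, Sum.elim S₁ S₂ t ⟶ A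
  | .inl x => a₁ x ≫ i
  | .inr y => a₂ y ≫ j

/-- The maps out of `A` of the sum of two decompositions. -/
def outMap : ∀ t : J₁ ⊕ J₂, A ⟶ Sum.elim S₁ S₂ t
  | .inl x => n₂ • (q ≫ b₁ x)
  | .inr y => n₁ • (p ≫ b₂ y)

include hiq hjp h₁ h₂ in
omit [Fintype J₁] [Fintype J₂] in
theorem in_out (t : J₁ ⊕ J₂) : inMap i j S₁ S₂ a₁ a₂ t ≫ outMap q p S₁ S₂ b₁ n₁ b₂ n₂ t =
    (n * n₁ * n₂) • 𝟙 _ := by
  rcases t with x | y
  · change (a₁ x ≫ i) ≫ (n₂ • (q ≫ b₁ x)) = (n * n₁ * n₂) • 𝟙 (S₁ x)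
    rw [Preadditive.comp_nsmul, Category.assoc, ← Category.assoc i, hiq, Preadditive.nsmul_comp,
      Category.id_comp, Preadditive.comp_nsmul, h₁, smul_smul, smul_smul]
    congr 1; ring
  · change (a₂ y ≫ j) ≫ (n₁ • (p ≫ b₂ y)) = (n * n₁ * n₂) • 𝟙 (S₂ y)
    rw [Preadditive.comp_nsmul, Category.assoc, ← Category.assoc j, hjp, Preadditive.nsmul_comp,
      Category.id_comp, Preadditive.comp_nsmul, h₂, smul_smul, smul_smul]
    congr 1; ring

include hiq hjp hip hjq k₁ k₂ in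
omit [Fintype J₁] [Fintype J₂] in
theorem in_out_ne (s t : J₁ ⊕ J₂) (hst : s ≠ t) :
    inMap i j S₁ S₂ a₁ a₂ s ≫ outMap q p S₁ S₂ b₁ n₁ b₂ n₂ t = 0 := by
  rcases s with x | y <;> rcases t with x' | y'
  · change (a₁ x ≫ i) ≫ (n₂ • (q ≫ b₁ x')) = 0
    rw [Preadditive.comp_nsmul, Category.assoc, ← Category.assoc i, hiq, Preadditive.nsmul_comp,
      Category.id_comp, Preadditive.comp_nsmul, k₁ x x' (fun h => hst (by rw [h])), smul_zero, smul_zero]
  · change (a₁ x ≫ i) ≫ (n₁ • (p ≫ b₂ y')) = 0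
    rw [Preadditive.comp_nsmul, Category.assoc, ← Category.assoc i, hip, zero_comp, comp_zero, smul_zero]
  · change (a₂ y ≫ j) ≫ (n₂ • (q ≫ b₁ x')) = 0
    rw [Preadditive.comp_nsmul, Category.assoc, ← Category.assoc j, hjq, zero_comp, comp_zero, smul_zero]
  · change (a₂ y ≫ j) ≫ (n₁ • (p ≫ b₂ y')) = 0
    rw [Preadditive.comp_nsmul, Category.assoc, ← Category.assoc j, hjp, Preadditive.nsmul_comp,
      Category.id_comp, Preadditive.comp_nsmul, k₂ y y' (fun h => hst (by rw [h])), smul_zero, smul_zero]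

include hsum s₁ s₂ in
theorem sum_out_in : ∑ t, outMap q p S₁ S₂ b₁ n₁ b₂ n₂ t ≫ inMap i j S₁ S₂ a₁ a₂ t =
    (n * n₁ * n₂) • 𝟙 A := by
  rw [Fintype.sum_sum_type]
  have e1 : ∑ x, outMap q p S₁ S₂ b₁ n₁ b₂ n₂ (.inl x) ≫ inMap i j S₁ S₂ a₁ a₂ (.inl x) =
      (n₁ * n₂) • (q ≫ i) := by
    have : ∀ x, outMap q p S₁ S₂ b₁ n₁ b₂ n₂ (.inl x) ≫ inMap i j S₁ S₂ a₁ a₂ (.inl x) =
        n₂ • (q ≫ (b₁ x ≫ a₁ x) ≫ i) := by
      intro x
      change (n₂ • (q ≫ b₁ x)) ≫ (a₁ x ≫ i) = _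
      rw [Preadditive.nsmul_comp]
      simp only [Category.assoc]
    simp only [this]
    rw [← Finset.smul_sum, ← Preadditive.comp_sum, ← Preadditive.sum_comp, s₁, Preadditive.nsmul_comp,
      Category.id_comp, Preadditive.comp_nsmul, smul_smul, Nat.mul_comm]
  have e2 : ∑ x, outMap q p S₁ S₂ b₁ n₁ b₂ n₂ (.inr x) ≫ inMap i j S₁ S₂ a₁ a₂ (.inr x) =
      (n₁ * n₂) • (p ≫ j) := by
    have : ∀ x, outMap q p S₁ S₂ b₁ n₁ b₂ n₂ (.inr x) ≫ inMap i j S₁ S₂ a₁ a₂ (.inr x) =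
        n₁ • (p ≫ (b₂ x ≫ a₂ x) ≫ j) := by
      intro x
      change (n₁ • (p ≫ b₂ x)) ≫ (a₂ x ≫ j) = _
      rw [Preadditive.nsmul_comp]
      simp only [Category.assoc]
    simp only [this]
    rw [← Finset.smul_sum, ← Preadditive.comp_sum, ← Preadditive.sum_comp, s₂, Preadditive.nsmul_comp,
      Category.id_comp, Preadditive.comp_nsmul, smul_smul]
  rw [e1, e2, ← smul_add, hsum, smul_smul]
  congr 1; ring

end

theorem exists_dec (hP : Retr k) (d : ℕ) : ∀ (A : Over (Spec (CommRingCat.of k))) [GrpObj A]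
    [IsCommMonObj A] [IsProper A.hom] [GeometricallyIntegral A.hom],
    topologicalKrullDim A.left = d → Nonempty (Dec A) := by
  induction d using Nat.strong_induction_on with
  | _ d ih =>
  intro A _ _ _ _ hd
  by_cases hA : IsSimple A
  · by_cases hsub : Subsingleton A.left
    · refine ⟨{
        J := Empty,
        fin := inferInstance,
        S := fun x => x.elim,
        a := fun x => x.elim,
        b := fun x => x.elim,
        n := 1,
        one_le := le_rfl,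
        proper := fun x => x.elim,
        geomInt := fun x => x.elim,
        simple := fun x => x.elim,
        nontriv := fun x => x.elim,
        comp_self := fun x => x.elim,
        comp_ne := fun x => x.elim,
        sum_eq := ?_ }⟩
      rw [Fintype.sum_empty, one_smul]
      apply EndAV.Hom.ext
      exact (Img.eq_one_of_subsingleton hsub (𝟙 A)).symm
    · refine ⟨{
        J := Unit,
        fin := inferInstance,
        S := fun _ => CommGrp.mk A,
        a := fun _ => (𝟙 (CommGrp.mk A)),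
        b := fun _ => (𝟙 (CommGrp.mk A)),
        n := 1,
        one_le := le_rfl,
        proper := fun _ => ‹_›,
        geomInt := fun _ => ‹_›,
        simple := fun _ => hA,
        nontriv := fun _ => hsub,
        comp_self := fun _ => ?_,
        comp_ne := fun _ _ h => (h rfl).elim,
        sum_eq := ?_ }⟩
      · rw [Category.comp_id, one_smul]
      · rw [Fintype.sum_unique, Category.comp_id, one_smul]
  · unfold IsSimple at hA
    push Not at hA
    obtain ⟨B, gB, hBgi, i, hi, hic, hns, hni⟩ := hA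
    have hBp : IsProper B.hom := by rw [← Over.w i]; infer_instance
    have hBc : IsCommMonObj B := isCommMonObj_of_isProper_of_geometricallyIntegral B
    obtain ⟨n, D, gD, j, q, p, hn, hDp, hDg, hj, hjc, hq, hp, e1, e2, e3, e4, e5⟩ := exists_split hP i
    have hDc : IsCommMonObj D := isCommMonObj_of_isProper_of_geometricallyIntegral D
    have hnj : ¬ IsIso j := by
      intro h
      refine not_subsingleton_iff_nontrivial.2 hns (subsingleton_of_pow n hn ?_)
      have h1 : q = 1 := by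
        calc q = inv j ≫ j ≫ q := by rw [IsIso.inv_hom_id_assoc]
          _ = 1 := by rw [e4, MonObj.comp_one]
      rw [← e1, h1, MonObj.comp_one]
    obtain ⟨dB, hdB⟩ := Img.exists_dim B
    obtain ⟨dD, hdD⟩ := Img.exists_dim D
    have hB := Simple.dim_lt i hni
    have hD := Simple.dim_lt j hnj
    rw [hd, hdB] at hB
    rw [hd, hdD] at hD
    obtain ⟨DB⟩ := ih dB (by exact_mod_cast hB) B hdB
    obtain ⟨DD⟩ := ih dD (by exact_mod_cast hD) D hdD
    have f1 : EndAV.Hom.of i ≫ EndAV.Hom.of q = n • 𝟙 (CommGrp.mk B) := by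
      apply EndAV.Hom.ext; rw [EndAV.Hom.toHom_nsmul]; exact e1
    have f2 : EndAV.Hom.of j ≫ EndAV.Hom.of p = n • 𝟙 (CommGrp.mk D) := by
      apply EndAV.Hom.ext; rw [EndAV.Hom.toHom_nsmul]; exact e2
    have f3 : EndAV.Hom.of i ≫ EndAV.Hom.of p = 0 := EndAV.Hom.ext e3
    have f4 : EndAV.Hom.of j ≫ EndAV.Hom.of q = 0 := EndAV.Hom.ext e4
    have f5 : EndAV.Hom.of q ≫ EndAV.Hom.of i + EndAV.Hom.of p ≫ EndAV.Hom.of j =
        n • 𝟙 (CommGrp.mk A) := by
      apply EndAV.Hom.ext; rw [EndAV.Hom.toHom_nsmul]; exact e5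
    refine ⟨{
        J := DB.J ⊕ DD.J,
        fin := inferInstance,
        S := Sum.elim DB.S DD.S,
        a := inMap (EndAV.Hom.of i) (EndAV.Hom.of j) DB.S DD.S DB.a DD.a,
        b := outMap (EndAV.Hom.of q) (EndAV.Hom.of p) DB.S DD.S DB.b DB.n DD.b DD.n,
        n := n * DB.n * DD.n,
        one_le := Nat.mul_pos (Nat.mul_pos hn DB.one_le) DD.one_le,
        proper := ?_,
        geomInt := ?_,
        simple := ?_,
        nontriv := ?_,
        comp_self := ?_,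
        comp_ne := ?_,
        sum_eq := ?_ }⟩
    · rintro (x | x)
      exacts [DB.proper x, DD.proper x]
    · rintro (x | x)
      exacts [DB.geomInt x, DD.geomInt x]
    · rintro (x | x)
      exacts [DB.simple x, DD.simple x]
    · rintro (x | x)
      exacts [DB.nontriv x, DD.nontriv x]
    · exact in_out _ _ _ _ n f1 f2 _ _ _ _ _ _ _ _ DB.comp_self DD.comp_self
    · exact in_out_ne _ _ _ _ n f1 f2 f3 f4 _ _ _ _ _ _ _ _ DB.comp_ne DD.comp_ne
    · exact sum_out_in _ _ _ _ n f5 _ _ _ _ _ _ _ _ DB.sum_eq DD.sum_eq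

/-- The rational endomorphism algebra of an abelian variety is semisimple. -/
theorem isSemisimpleRing_end0 (hP : Retr k) (A : Over (Spec (CommRingCat.of k))) [GrpObj A]
    [IsCommMonObj A] [IsProper A.hom] [GeometricallyIntegral A.hom] :
    IsSemisimpleRing (EndAV.End0 A) := by
  obtain ⟨d, hd⟩ := Img.exists_dim A
  obtain ⟨D⟩ := exists_dec hP d A hd
  refine SemiCat.isSemisimpleRing_end0 A D.S D.a D.b D.n D.one_le D.sum_eq fun i j f hf => ?_
  have hf' : EndAV.Hom.toHom f ≠ 1 := fun h => hf (EndAV.Hom.ext h)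
  obtain ⟨m, g, hm, hg, h1, -⟩ := Simple.exists_rev_of_isSimple (D.simple i) (D.simple j)
    (EndAV.Hom.toHom f) hf'
  refine ⟨m, EndAV.Hom.of g, hm, ?_⟩
  apply EndAV.Hom.ext
  rw [EndAV.Hom.toHom_nsmul]
  exact h1

end K517.Decomp
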