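import Groth.Agent.AbVar.K516.HyperSupp

/-!
# Hypercohomology of an object whose cohomology sheaves have small support

`K` in `D(X)`, bounded above, `X` Noetherian of dimension `≤ D`, `g` an integer such that `dim supp H^j(K) ≤ g - j`
for all `j`: then `H^m(X, K) = 0` for `m > g`.
-/

set_option autoImplicit false
universe u

open CategoryTheory CategoryTheory.Limits AlgebraicGeometry Opposite TopologicalSpace Pretriangulated
open Groth.Agent.PerfA.ExtZero Groth.Agent.PerfA.Hyp1

attribute [local instance] HasDerivedCategory.standard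

namespace K517.HyperCodim

open Groth.Agent Groth.Agent.CohqB.DevSupport K516.HyperH

variable {X : Scheme.{u}}

/-- `S` is contained in a closed set of dimension `≤ c` (`c` an integer; empty if `c < 0`). -/
def Small (S : Set X) (c : ℤ) : Prop :=
  ∃ Z : Set X, IsClosed Z ∧ S ⊆ Z ∧ (c < 0 → Z = ∅) ∧ topologicalKrullDim Z ≤ (c.toNat : ℕ)

theorem Small.mono {S S' : Set X} {c c' : ℤ} (h : Small S c) (hS : S' ⊆ S) (hc : c ≤ c') : Small S' c' := by
  obtain ⟨Z, h1, h2, h3, h4⟩ := h
  refine ⟨Z, h1, hS.trans h2, fun h => h3 (by lia), h4.trans ?_⟩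
  have : c.toNat ≤ c'.toNat := Int.toNat_le_toNat hc
  exact_mod_cast this

theorem van_of_codim [NoetherianSpace X] (D : ℕ) (hD : topologicalKrullDim X ≤ D) (g : ℤ) (n : ℕ) :
    ∀ (K : DCoh.D X) (a : ℤ) (_ : K.IsLE a) (_ : a + D ≤ g + n)
      (_ : ∀ j, Small (CohB1.support (DCoh.HD K j)) (g - j)) (m : ℤ) (_ : g < m), Van K m := by
  induction n with
  | zero =>
    intro K a hK ha hs m hm
    exact van_of_support D hD Set.univ isClosed_univ D
      ((Topology.IsInducing.subtypeVal.topologicalKrullDim_le (Y := (Set.univ : Set X))).trans hD) 2 K a hK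
      (fun _ => Set.subset_univ _) m (by lia) (by push_cast; lia)
  | succ n ih =>
    intro K a hK ha hs m hm
    obtain ⟨A, hA, B, f, g', h, hT, ⟨eB⟩, hsA⟩ := exists_top K a
    have h1 : Van A m := ih A (a - 1) hA (by push_cast at ha; lia) (fun j => (hs j).mono (hsA j) le_rfl) m hm
    refine Van.two hT h1 ?_
    obtain ⟨Z, hZ, hKZ, hZ0, hZd⟩ := hs a
    have hBZ : CohB1.support B ⊆ Z := by
      rw [support_congr eB]
      exact hKZ
    by_cases hag : g < a
    · -- `B = 0`
      have h2 : IsZero B := by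
        apply isZero_of_support_eq_empty
        rw [hZ0 (by lia)] at hBZ
        exact Set.subset_empty_iff.mp hBZ
      exact van_of_isZero ((DerivedCategory.singleFunctor X.Modules a).map_isZero h2) m
    · obtain ⟨p, hp⟩ : ∃ p : ℕ, a + p = m := ⟨(m - a).toNat, by lia⟩
      exact van_single B p (subsingleton_HH_of_support Z hZ _ hZd B hBZ p (by lia)) a m hp

/-- **Vanishing**: `dim supp H^j(K) ≤ g - j` implies `H^m(X, K) = 0` for `m > g`. -/
theorem van [NoetherianSpace X] (D : ℕ) (hD : topologicalKrullDim X ≤ D) (g : ℤ) (K : DCoh.D X) (a : ℤ)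
    (hK : K.IsLE a) (hs : ∀ j, Small (CohB1.support (DCoh.HD K j)) (g - j)) (m : ℤ) (hm : g < m) : Van K m :=
  van_of_codim D hD g (a + D - g).toNat K a hK (by lia) hs m hm

end K517.HyperCodim
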