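import Groth.Agent.CycA.IntLocal
import Groth.Agent.AbVar.K517.HyperCodim
import Mathlib.Topology.KrullDimension
import Mathlib.Topology.Sober

/-!
# Dimensions of closed subsets from codimensions
-/

set_option autoImplicit false

universe u

open CategoryTheory CategoryTheory.Limits AlgebraicGeometry TopologicalSpace

namespace K517.DimClos

open Groth.Agent K517.HyperCodim

/-- The dimension of a closed subset is bounded by the dimensions of the closures of its points. -/
theorem dim_le_of_closure {X : Type*} [TopologicalSpace X] [QuasiSober X] {Z : Set X} (hZ : IsClosed Z)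
    (c : WithBot ℕ∞) (h : ∀ y ∈ Z, topologicalKrullDim (closure ({y} : Set X)) ≤ c) :
    topologicalKrullDim Z ≤ c := by
  have hs : QuasiSober Z := hZ.isClosedEmbedding_subtypeVal.quasiSober
  refine iSup_le fun p => ?_
  have hgen : ∀ C : IrreducibleCloseds Z, ∃ z : Z, closure {z} = (C : Set Z) := fun C =>
    QuasiSober.sober C.isIrreducible C.isClosed
  choose z hz using hgen
  have hle : ∀ {C D : IrreducibleCloseds Z}, C ≤ D ↔ (z D).1 ⤳ (z C).1 := by
    intro C D
    rw [← subtype_specializes_iff, specializes_iff_closure_subset, hz, hz]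
    rfl
  let y : X := (z p.last).1
  have hmem : ∀ i, (z (p i)).1 ∈ closure {y} := fun i => by
    have h1 : p i ≤ p.last := p.monotone (Fin.le_last i)
    exact (hle.1 h1).mem_closure
  let w : Fin (p.length + 1) → IrreducibleCloseds (closure {y} : Set X) := fun i =>
    ⟨closure {⟨(z (p i)).1, hmem i⟩}, isIrreducible_singleton.closure, isClosed_closure⟩
  have hw : ∀ i j, w i ≤ w j ↔ p i ≤ p j := by
    intro i j
    rw [hle]
    change closure {(⟨(z (p i)).1, hmem i⟩ : (closure {y} : Set X))} ⊆
      closure {(⟨(z (p j)).1, hmem j⟩ : (closure {y} : Set X))} ↔ _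
    rw [← specializes_iff_closure_subset, subtype_specializes_iff]
  let q : LTSeries (IrreducibleCloseds (closure {y} : Set X)) :=
    { length := p.length
      toFun := w
      step := fun i => by
        have h1 : p i.castSucc < p i.succ := p.step i
        exact lt_of_le_not_ge ((hw _ _).2 h1.le) fun h2 => h1.not_ge ((hw _ _).1 h2) }
  exact (le_iSup (fun q : LTSeries (IrreducibleCloseds (closure {y} : Set X)) => (q.length : WithBot ℕ∞)) q).trans
    (h y (z p.last).2)

theorem nat_le {a b : ℕ} (h : (a : WithBot ℕ∞) ≤ b) : a ≤ b := by exact_mod_cast h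

section codim

variable {k : Type u} [Field k] {Y : Scheme.{u}}

/-- Codimension `≥ j` at all the points implies dimension `≤ g - j`. -/
theorem small_of_codim (f : Y ⟶ Spec (CommRingCat.of k)) [LocallyOfFiniteType f] [IsIntegral Y] {g : ℕ}
    (hg : topologicalKrullDim Y ≤ g) {S : Set Y} (hS : IsClosed S) (j : ℤ)
    (h : ∀ i : ℕ, (i : ℤ) = j → ∀ y ∈ S, (i : WithBot ℕ∞) ≤ ringKrullDim (Y.presheaf.stalk y)) :
    Small S (g - j) := by
  rcases lt_or_ge j 0 with hj | hj
  · refine ⟨Set.univ, isClosed_univ, Set.subset_univ _, fun h0 => absurd h0 (by lia), ?_⟩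
    refine ((Topology.IsInducing.subtypeVal.topologicalKrullDim_le (Y := (Set.univ : Set Y))).trans hg).trans ?_
    have : g ≤ (g - j).toNat := by lia
    exact_mod_cast this
  · lift j to ℕ using hj
    have h' := h j rfl
    have key : ∀ y ∈ S, ∃ a t : ℕ, topologicalKrullDim (closure {y} : Set Y) = t ∧ j ≤ a ∧ a + t ≤ g := by
      intro y hy
      obtain ⟨a, t, n, h1, h2, h3, h4, h5⟩ := CycA.IntLocal.exists_dims f y
      have h6 := h' y hy
      rw [h1] at h6
      rw [h4] at hg
      exact ⟨a, t, h3, nat_le h6, h5.le.trans (nat_le hg)⟩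
    refine ⟨S, hS, subset_rfl, fun h0 => ?_, ?_⟩
    · rw [Set.eq_empty_iff_forall_notMem]
      intro y hy
      obtain ⟨a, t, h1, h2, h3⟩ := key y hy
      lia
    · refine dim_le_of_closure hS _ fun y hy => ?_
      obtain ⟨a, t, h1, h2, h3⟩ := key y hy
      rw [h1]
      have : t ≤ ((g : ℤ) - j).toNat := by lia
      exact_mod_cast this

end codim

section dim

variable {Y : Type*} [TopologicalSpace Y]

theorem small_of_dim {Y : Scheme.{u}} {g : ℕ} (hg : topologicalKrullDim Y ≤ g) {S T : Set Y} (hT : IsClosed T)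
    (hST : S ⊆ T) (i : ℕ) (h : topologicalKrullDim T + (i : WithBot ℕ∞) ≤ topologicalKrullDim Y) :
    Small S ((g : ℤ) - i) := by
  have h1 := h.trans hg
  refine ⟨T, hT, hST, fun h0 => ?_, ?_⟩
  · by_contra hne
    obtain ⟨y, hy⟩ := Set.nonempty_iff_ne_empty.2 hne
    have : Nonempty T := ⟨⟨y, hy⟩⟩
    have h2 : (0 : WithBot ℕ∞) ≤ topologicalKrullDim T := by
      have : Nonempty (IrreducibleCloseds T) :=
        ⟨⟨closure {⟨y, hy⟩}, isIrreducible_singleton.closure, isClosed_closure⟩⟩
      exact Order.krullDim_nonneg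
    have h3 : (i : WithBot ℕ∞) ≤ g := by
      refine le_trans ?_ h1
      calc (i : WithBot ℕ∞) = 0 + i := (zero_add _).symm
        _ ≤ _ := by gcongr
    have := nat_le h3
    lia
  · generalize topologicalKrullDim T = d at h1 ⊢
    induction d using WithBot.recBotCoe with
    | bot => exact bot_le
    | coe d =>
      have h4 : d + (i : ℕ∞) ≤ (g : ℕ∞) := by exact_mod_cast h1
      induction d using ENat.recTopCoe with
      | top => simp at h4
      | coe n =>
        have h5 : n + i ≤ g := by exact_mod_cast h4
        have h6 : n ≤ ((g : ℤ) - i).toNat := by lia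
        exact_mod_cast h6

end dim

end K517.DimClos
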