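import Groth.Agent.AbDual.K732.Lam
import Groth.Agent.AbVar.K517.Img
import Groth.Agent.Grpsch.AmpGroup

/-!
# `dim A^t ≤ dim A`
-/

set_option autoImplicit false
universe u

open CategoryTheory CategoryTheory.Limits MonoidalCategory CartesianMonoidalCategory MonObj GrpObj
  AlgebraicGeometry

namespace K517.DimDual

open Groth.Agent Groth.Agent.Grpsch.PicGrp

variable {k : Type u} [Field k] [IsAlgClosed k]

theorem dim_le_of_surjective {A B : Over (Spec (CommRingCat.of k))} [GrpObj A] [GrpObj B]
    [LocallyOfFiniteType A.hom] [LocallyOfFiniteType B.hom] (u : A ⟶ B) [IsMonHom u]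
    [QuasiCompact u.left] [Surjective u.left] :
    topologicalKrullDim B.left ≤ topologicalKrullDim A.left := by
  have hi : AlgGrp.IsKernel (pullback.fst u (η[B] : 𝟙_ (Over (Spec (CommRingCat.of k))) ⟶ B)) u := by
    have h := IsPullback.of_hasPullback u (η[B] : 𝟙_ (Over (Spec (CommRingCat.of k))) ⟶ B)
    rwa [toUnit_unique (pullback.snd u (η[B] : 𝟙_ (Over (Spec (CommRingCat.of k))) ⟶ B)) (toUnit _)] at h
  have h := Img.dim_eq u _ hi
  rw [h]
  let N := pullback u (η[B] : 𝟙_ (Over (Spec (CommRingCat.of k))) ⟶ B)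
  let s : 𝟙_ (Over (Spec (CommRingCat.of k))) ⟶ N := pullback.lift η[A] (𝟙 _) (by
    rw [IsMonHom.one_hom, Category.id_comp])
  have hne : Nonempty N.left := ⟨s.left (IsLocalRing.closedPoint k)⟩
  have h2 : (0 : WithBot ℕ∞) ≤ topologicalKrullDim N.left := by
    obtain ⟨y⟩ := hne
    have : Nonempty (TopologicalSpace.IrreducibleCloseds N.left) :=
      ⟨⟨closure {y}, isIrreducible_singleton.closure, isClosed_closure⟩⟩
    exact Order.krullDim_nonneg
  calc topologicalKrullDim B.left = topologicalKrullDim B.left + 0 := (add_zero _).symm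
    _ ≤ _ := by gcongr

variable {X Xt : Over (Spec (CommRingCat.of k))} [GrpObj X] [GrpObj Xt]
  [IsProper X.hom] [Smooth X.hom] [GeometricallyConnected X.hom]
  {φ : ∀ T : Over (Spec (CommRingCat.of k)), PicF.Cl (PicF.XT X.hom T) → (T ⟶ Xt)}
  (hD : AbDual.IsDualAV Scheme.fppfPrecoverage X Xt φ)
  [IsProper Xt.hom] [Smooth Xt.hom] [GeometricallyConnected Xt.hom]

include hD in
theorem dim_le : topologicalKrullDim Xt.left ≤ topologicalKrullDim X.left := by
  have g := K732.AV.geomInt X
  have hint : IsIntegral X.left := GeometricallyIntegral.isIntegral_of_subsingleton X.hom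
  obtain ⟨L, hL⟩ := Grpsch.AmpGroup.exists_isAmple_of_irreducible k X
  have h1 := K732.Lam.surjective_lam hD hL
  have h2 := K732.Lam.isMonHom_lam hD (mk L hL.1)
  have hq : QuasiCompact (K732.Lam.lam φ (mk L hL.1)).left := by
    have h1 : QuasiCompact ((K732.Lam.lam φ (mk L hL.1)).left ≫ Xt.hom) := by rw [Over.w]; infer_instance
    exact QuasiCompact.of_comp _ Xt.hom
  exact dim_le_of_surjective (K732.Lam.lam φ (mk L hL.1))

end K517.DimDual
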