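import Groth.Agent.AbVar.K520.Noeth
import Groth.Agent.Sga3B.RedIdComp
import Groth.Agent.Sga3.H830.AlgGrpAb
import Groth.Agent.Sga7.H756.RevIsog
import Groth.Agent.AbVar.K517.Img
import Groth.Agent.S2535

/-!
# Divisible images of commutative algebraic groups are smooth

* `exists_pow_factor` : over an algebraically closed field some `[n]_G` factors through a reduced scheme;
* `isReduced_of_factor` : a scheme which is the target of a flat surjective morphism factoring through a
  reduced scheme is reduced;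
* `exists_divisible` : a commutative algebraic group `N` over a field has a closed subgroup `H`, image of
  some `[m]_N`, on which all `[n]_H`, `n ≥ 1`, are flat and surjective;
* `geometricallyReduced_of_divisible`.
-/

set_option autoImplicit false
universe u

open CategoryTheory MonoidalCategory CartesianMonoidalCategory MonObj GrpObj AlgebraicGeometry Limits

namespace K517.DivRed

open Groth.Agent.Sga3.H830

theorem isReduced_of_factor {X Z Y : Scheme.{u}} (r : X ⟶ Z) (d : Z ⟶ Y) [Flat (r ≫ d)]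
    [Surjective (r ≫ d)] [IsReduced Z] : IsReduced Y := by
  have : ∀ y : Y, _root_.IsReduced (Y.presheaf.stalk y) := by
    intro y
    obtain ⟨z, rfl⟩ := (r ≫ d).surjective y
    have hinj : Function.Injective ((r ≫ d).stalkMap z).hom := by
      algebraize [((r ≫ d).stalkMap z).hom]
      have : Module.FaithfullyFlat (Y.presheaf.stalk ((r ≫ d) z)) (X.presheaf.stalk z) :=
        @Module.FaithfullyFlat.of_flat_of_isLocalHom _ _ _ _ _ _ _
          (Flat.stalkMap (r ≫ d) z) (inferInstanceAs (IsLocalHom ((r ≫ d).stalkMap z).hom))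
      exact FaithfulSMul.algebraMap_injective _ _
    have hinj2 : Function.Injective (d.stalkMap (r z)).hom := by
      intro a b hab
      apply hinj
      have h1 : ∀ c, ((r ≫ d).stalkMap z).hom c = (r.stalkMap z).hom ((d.stalkMap (r z)).hom c) := by
        intro c
        rw [Scheme.Hom.stalkMap_comp]
        rfl
      exact (h1 a).trans ((congrArg _ hab).trans (h1 b).symm)
    exact isReduced_of_injective (d.stalkMap (r z)).hom hinj2
  exact isReduced_of_isReduced_stalk Y

theorem subsingleton_spec {k : Type u} [Field k] : Subsingleton (Spec (CommRingCat.of k)) :=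
  inferInstanceAs (Subsingleton (PrimeSpectrum k))

theorem isFinite_of_subsingleton {k : Type u} [Field k] (Q : Over (Spec (CommRingCat.of k)))
    [LocallyOfFiniteType Q.hom] [QuasiCompact Q.hom] (h : Subsingleton Q.left) : IsFinite Q.hom := by
  have : DiscreteTopology Q.left := inferInstance
  exact Img.isFinite_of_dim Q (topologicalKrullDim_zero_of_discreteTopology _)

theorem exists_pow_factor {k : Type u} [Field k] [IsAlgClosed k] (G : Over (Spec (CommRingCat.of k)))
    [GrpObj G] [IsCommMonObj G] [LocallyOfFiniteType G.hom] [QuasiCompact G.hom] :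
    ∃ (n : ℕ) (D : Over (Spec (CommRingCat.of k))) (d : D ⟶ G) (r : G ⟶ D),
      1 ≤ n ∧ IsReduced D.left ∧ r ≫ d = (𝟙 G) ^ n := by
  have hS : Subsingleton (Spec (CommRingCat.of k)) := subsingleton_spec
  obtain ⟨D, gD, d, hd1, hd2, hd3, hd4⟩ := Groth.Agent.Sga3B.RedIdComp.exists_reduced G
  have hmono : Mono d := (Over.forget _).mono_of_mono_map (inferInstanceAs (Mono d.left))
  have hG : AlgGrpAb.IsAlg G := ⟨‹_›, ‹_›⟩
  have hD := AlgGrpAb.isAlg_of_isClosedImmersion d hG
  obtain ⟨Q, gQ, p, hp1, ⟨hp2, hp3, hp4⟩, hp5, hQ1, hQ2⟩ := AlgGrpAb.exists_quotient hD hG d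
  have hsub : Subsingleton Q.left := by
    have h1 : ∀ y : Q.left, y = (η[Q] : 𝟙_ (Over (Spec (CommRingCat.of k))) ⟶ Q).left
        (IsLocalRing.closedPoint k : Spec (CommRingCat.of k)) := by
      intro y
      obtain ⟨x, rfl⟩ := p.left.surjective y
      obtain ⟨z, rfl⟩ := d.left.surjective x
      have h2 : d ≫ p = toUnit D ≫ η[Q] := hp5.w
      have h3 : d.left ≫ p.left = (toUnit D).left ≫ (η[Q] : 𝟙_ (Over (Spec (CommRingCat.of k))) ⟶ Q).left := by
        rw [← Over.comp_left, h2, Over.comp_left]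
      rw [← Scheme.Hom.comp_apply, h3, Scheme.Hom.comp_apply]
      congr 1
      exact @Subsingleton.elim _ hS _ _
    exact ⟨fun a b => (h1 a).trans (h1 b).symm⟩
  have hfin : IsFinite Q.hom := isFinite_of_subsingleton Q hsub
  obtain ⟨n, hn, hpow⟩ := Groth.Agent.Sga7.H756.RevIsog.exists_pow_eq_one k Q
  have h4 : ((𝟙 G) ^ n) ≫ p = toUnit G ≫ η[Q] := by
    have h5 : ((𝟙 G) ^ n) ≫ p = p ≫ (𝟙 Q) ^ n := by
      rw [MonObj.pow_comp, MonObj.comp_pow, Category.id_comp, Category.comp_id]
    rw [h5, hpow, MonObj.comp_one]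
    rfl
  exact ⟨n, D, d, hp5.lift _ _ h4, hn, hd4, hp5.lift_fst _ _ _⟩

/-- A divisible commutative algebraic group over an algebraically closed field is reduced. -/
theorem isReduced_of_divisible {k : Type u} [Field k] [IsAlgClosed k]
    (G : Over (Spec (CommRingCat.of k))) [GrpObj G] [IsCommMonObj G] [LocallyOfFiniteType G.hom]
    [QuasiCompact G.hom] (h : ∀ n : ℕ, 1 ≤ n → Flat ((𝟙 G : G ⟶ G) ^ n).left ∧
      Surjective ((𝟙 G : G ⟶ G) ^ n).left) : IsReduced G.left := by
  obtain ⟨n, D, d, r, hn, hD, hrd⟩ := exists_pow_factor G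
  obtain ⟨h1, h2⟩ := h n hn
  have e : r.left ≫ d.left = ((𝟙 G : G ⟶ G) ^ n).left := by rw [← hrd, Over.comp_left]
  rw [← e] at h1 h2
  exact isReduced_of_factor r.left d.left

variable {k : Type u} [Field k]

/-- The divisible part. -/
theorem exists_divisible (N : Over (Spec (CommRingCat.of k))) [GrpObj N] [IsCommMonObj N]
    [LocallyOfFiniteType N.hom] [QuasiCompact N.hom] :
    ∃ (H : Over (Spec (CommRingCat.of k))) (_ : GrpObj H) (p : N ⟶ H) (i : H ⟶ N) (m : ℕ),
      1 ≤ m ∧ IsMonHom p ∧ IsMonHom i ∧ p ≫ i = (𝟙 N) ^ m ∧ Flat p.left ∧ Surjective p.left ∧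
      IsClosedImmersion i.left ∧
      ∀ n : ℕ, 1 ≤ n → Flat ((𝟙 H : H ⟶ H) ^ n).left ∧ Surjective ((𝟙 H : H ⟶ H) ^ n).left := by
  have hNoeth : IsNoetherian N.left := by
    have h1 : IsLocallyNoetherian N.left := LocallyOfFiniteType.isLocallyNoetherian N.hom
    have h2 : CompactSpace N.left := QuasiCompact.compactSpace_of_compactSpace N.hom
    exact {}
  have := K520.Noeth.wellFoundedGT N.left
  let P : N.left.IdealSheafData → Prop := fun I =>
    ∃ (H : Over (Spec (CommRingCat.of k))) (_ : GrpObj H) (p : N ⟶ H) (i : H ⟶ N) (m : ℕ),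
      1 ≤ m ∧ IsMonHom p ∧ IsMonHom i ∧ p ≫ i = (𝟙 N) ^ m ∧ Flat p.left ∧ Surjective p.left ∧
      IsClosedImmersion i.left ∧ i.left.ker = I
  have hne : ∃ I, P I := ⟨(𝟙 N : N ⟶ N).left.ker, N, inferInstance, 𝟙 N, 𝟙 N, 1, le_rfl, inferInstance,
    inferInstance, by rw [Category.id_comp, pow_one], inferInstanceAs (Flat (𝟙 N.left)),
    inferInstanceAs (Surjective (𝟙 N.left)), inferInstanceAs (IsClosedImmersion (𝟙 N.left)), rfl⟩
  obtain ⟨I, hIP, hImax⟩ :=
    WellFounded.has_min (wellFounded_gt (α := N.left.IdealSheafData)) {I | P I} hne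
  obtain ⟨H, gH, p, i, m, hm, hp, hi, hpi, hfl, hsurj, hcl, hker⟩ := hIP
  refine ⟨H, gH, p, i, m, hm, hp, hi, hpi, hfl, hsurj, hcl, fun n hn => ?_⟩
  have hmono : Mono i := (Over.forget _).mono_of_mono_map (inferInstanceAs (Mono i.left))
  have hcomm : IsCommMonObj H := Groth.Agent.Sga3.H830.CommAux.isCommMonObj_of_mono i
  have hlft : LocallyOfFiniteType H.hom := by rw [← Over.w i]; infer_instance
  have hqc : QuasiCompact H.hom := by rw [← Over.w i]; infer_instance
  have hmon : IsMonHom ((𝟙 H : H ⟶ H) ^ n) := Groth.Agent.Grpsch.KerMul.isMonHom_id_pow n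
  have hqc2 : QuasiCompact ((𝟙 H : H ⟶ H) ^ n).left :=
    Groth.Agent.Sga7.H760.FieldHom.quasiCompact_left _
  obtain ⟨H', gH', q, j, hq, hj, hqj, hqf, hqs, -, hjc, -, -⟩ :=
    Groth.Agent.Sga7.H760.FieldHom.exists_fact ((𝟙 H : H ⟶ H) ^ n)
  have h1 : (p ≫ q) ≫ (j ≫ i) = (𝟙 N) ^ (m * n) := by
    have e1 : (p ≫ q) ≫ (j ≫ i) = p ≫ ((q ≫ j) ≫ i) := by simp only [Category.assoc]
    rw [e1, hqj, MonObj.pow_comp, Category.id_comp, MonObj.comp_pow, hpi, ← pow_mul]
  have h2 : P (j ≫ i).left.ker := ⟨H', gH', p ≫ q, j ≫ i, m * n, Nat.mul_pos hm hn, inferInstance,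
    inferInstance, h1, by rw [Over.comp_left]; infer_instance, by rw [Over.comp_left]; infer_instance,
    by rw [Over.comp_left]; infer_instance, rfl⟩
  have h3 : i.left.ker ≤ (j ≫ i).left.ker := by
    rw [Over.comp_left]
    exact Scheme.Hom.le_ker_comp _ _
  have h4 : (j ≫ i).left.ker = i.left.ker := by
    by_contra hne'
    exact hImax _ h2 (hker ▸ lt_of_le_of_ne h3 (fun h => hne' h.symm))
  have hjic : IsClosedImmersion (j ≫ i).left := by rw [Over.comp_left]; infer_instance
  let w : H.left ⟶ H'.left := IsClosedImmersion.lift (j ≫ i).left i.left h4.le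
  have hw : w ≫ (j ≫ i).left = i.left := IsClosedImmersion.lift_fac _ _ _
  rw [Over.comp_left] at hw
  have h5 : w ≫ j.left = 𝟙 _ := by rw [← cancel_mono i.left, Category.assoc, hw, Category.id_comp]
  have h6 : j.left ≫ w = 𝟙 _ := by
    rw [← cancel_mono j.left, Category.assoc, h5, Category.comp_id, Category.id_comp]
  have h7 : IsIso j.left := ⟨w, h6, h5⟩
  rw [← hqj, Over.comp_left]
  exact ⟨inferInstance, inferInstance⟩

end K517.DivRed
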