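import Groth.Agent.DEquiv.K353.Conv
import Groth.Agent.FMK.K884.RGam

/-!
# The exchange isomorphism for kernel functors on `D_QCoh`

`RΓ(X, Rp_*(Lq^* V ⊗ K) ⊗ F) ≅ RΓ(Y, Rq_*(Lp^* F ⊗ K) ⊗ V)` for `p : W ⟶ X`, `q : W ⟶ Y` quasi-compact and
quasi-separated, and objects with quasi-coherent cohomology.
-/

set_option autoImplicit false

universe u

open CategoryTheory CategoryTheory.Limits AlgebraicGeometry MonoidalCategory

attribute [local instance] HasDerivedCategory.standard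

open scoped Groth.Agent.Dcoh.MonCat Groth.Agent.Dcoh.ModD

namespace K517.Exch

open K353.OnSub K353.Calc K353.Conv

variable {X Y W : Scheme.{u}}

/-- The exchange isomorphism. -/
theorem exch (p : W ⟶ X) (q : W ⟶ Y) [QuasiCompact p] [QuasiSeparated p] [QuasiCompact q] [QuasiSeparated q]
    [DCoh.HasLpull p] [DCoh.HasLpull q] [DCoh.HasRpush p] [DCoh.HasRpush q] [DCoh.HasRΓ X] [DCoh.HasRΓ Y]
    {K : DCoh.D W} (hK : qc W K) {V : DCoh.D Y} (hV : qc Y V) {F : DCoh.D X} (hF : qc X F) :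
    Nonempty ((DCoh.RΓ X).obj ((fm q p K).obj V ⊗ F) ≅ (DCoh.RΓ Y).obj ((fm p q K).obj F ⊗ V)) := by
  have hW := K884.RGam.hasRΓ W
  have h1 : qc W ((DCoh.Lpull q).obj V ⊗ K) := qc_tensor _ _ (qc_lpull q V hV) hK
  have h2 : qc W ((DCoh.Lpull p).obj F ⊗ K) := qc_tensor _ _ (qc_lpull p F hF) hK
  obtain ⟨a⟩ := (proj_right p F hF).app h1
  obtain ⟨b⟩ := (proj_right q V hV).app h2
  obtain ⟨c⟩ := K884.RGam.nonempty_rpush_RΓ p
  obtain ⟨d⟩ := K884.RGam.nonempty_rpush_RΓ q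
  obtain ⟨s1⟩ := braid ((DCoh.Lpull p).obj F)
  obtain ⟨s2⟩ := braid K
  exact ⟨(DCoh.RΓ X).mapIso a ≪≫ c.app _ ≪≫ (DCoh.RΓ W).mapIso
    (s1.app _ ≪≫ whiskerLeftIso _ (s2.app _) ≪≫ (α_ _ _ _).symm) ≪≫ (d.app _).symm ≪≫
    (DCoh.RΓ Y).mapIso b.symm⟩

end K517.Exch
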