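import Groth.Agent.DEquiv.K353.Conv
import Groth.Agent.AbVar.K512.FMIso
import Groth.Agent.FMK.K884.RGam
import Groth.Agent.FMK.K884.HypG

/-!
# Fibres of a Fourier–Mukai transform

For a cartesian square `i : X ⟶ W`, `a : X ⟶ T`, `q : W ⟶ Y`, `y : T ⟶ Y` with `i ≫ p = 𝟙` and `q` flat:
`Ly^* Φ_K(F) ≅ Ra_* (F ⊗ Li^* K)`, hence for `T` affine `H^n(Ly^* Φ_K(F)) = 0` iff `H^n(RΓ(X, F ⊗ Li^* K)) = 0`.
-/

set_option autoImplicit false

universe u

open CategoryTheory CategoryTheory.Limits AlgebraicGeometry MonoidalCategory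

attribute [local instance] HasDerivedCategory.standard

open scoped Groth.Agent.Dcoh.MonCat Groth.Agent.Dcoh.ModD

namespace K517.FMFib

open K353.OnSub K353.Calc K353.Conv

variable {X Y W T : Scheme.{u}}

theorem fib (p : W ⟶ X) (q : W ⟶ Y) (a : X ⟶ T) (y : T ⟶ Y) (i : X ⟶ W) (sq : IsPullback i a q y)
    (hp : i ≫ p = 𝟙 X) [Flat q] [QuasiCompact q] [QuasiSeparated q] [DCoh.HasLpull p] [DCoh.HasRpush q]
    [DCoh.HasLpull y] [DCoh.HasRpush a] [DCoh.HasLpull i] {K : DCoh.D W} (hK : qc W K) {F : DCoh.D X}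
    (hF : qc X F) :
    Nonempty ((DCoh.Lpull y).obj ((fm p q K).obj F) ≅ (DCoh.Rpush a).obj (F ⊗ (DCoh.Lpull i).obj K)) := by
  have h1 := hasLpull (𝟙 X)
  have h2 := fm_bc (p' := 𝟙 X) (q' := a) (π := 𝟙 X) (ϖ := y) (h := i) (p := p) (q := q)
    (by rw [hp, Category.comp_id]) sq (Or.inl inferInstance) K hK
  obtain ⟨e⟩ := h2.app hF
  let f : (DCoh.Lpull (𝟙 X)).obj ((DCoh.Lpull (𝟙 X)).obj F) ≅ F :=
    (DCoh.Lpull (𝟙 X)).mapIso (K512.FMIso.pullId.app F) ≪≫ K512.FMIso.pullId.app F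
  exact ⟨e.symm ≪≫ (DCoh.Rpush a).mapIso ((tensorRight ((DCoh.Lpull i).obj K)).mapIso f)⟩

theorem isZero_iff (p : W ⟶ X) (q : W ⟶ Y) (a : X ⟶ T) (y : T ⟶ Y) (i : X ⟶ W) (sq : IsPullback i a q y)
    (hp : i ≫ p = 𝟙 X) [Flat q] [QuasiCompact q] [QuasiSeparated q] [DCoh.HasLpull p] [DCoh.HasRpush q]
    [DCoh.HasLpull y] [DCoh.HasLpull i] [IsAffine T] [DCoh.HasRΓ X] {K : DCoh.D W} (hK : qc W K)
    {F : DCoh.D X} (hF : qc X F) (n : ℤ) :
    IsZero (DCoh.HD ((DCoh.Lpull y).obj ((fm p q K).obj F)) n) ↔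
      IsZero ((DerivedCategory.homologyFunctor AddCommGrpCat.{u} n).obj
        ((DCoh.RΓ X).obj (F ⊗ (DCoh.Lpull i).obj K))) := by
  have h1 := hasRpush a
  have h2 := K884.RGam.hasRΓ T
  have ha : QuasiCompact a := MorphismProperty.of_isPullback sq inferInstance
  have ha' : QuasiSeparated a := MorphismProperty.of_isPullback sq inferInstance
  obtain ⟨e⟩ := fib p q a y i sq hp hK hF
  obtain ⟨r⟩ := K884.RGam.nonempty_rpush_RΓ a
  have hq : qc T ((DCoh.Rpush a).obj (F ⊗ (DCoh.Lpull i).obj K)) :=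
    qc_rpush a _ (qc_tensor _ _ hF (qc_lpull i K hK))
  rw [((DerivedCategory.homologyFunctor _ n).mapIso e).isZero_iff,
    ((DerivedCategory.homologyFunctor _ n).mapIso (r.app (F ⊗ (DCoh.Lpull i).obj K))).symm.isZero_iff]
  exact (K884.HypG.isZero_RΓ_iff_HD _ hq n).symm

end K517.FMFib
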