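import Groth.Agent.AbVar.K232.FMInv
import Groth.Agent.Cohder.RelPCMon
import Groth.Agent.Dcoh.ModTens

/-!
# Fourier–Mukai functors: exchange of the factors, tensor products with modules
-/

set_option autoImplicit false

universe u

open CategoryTheory CategoryTheory.Limits MonoidalCategory AlgebraicGeometry

attribute [local instance] HasDerivedCategory.standard

open scoped Groth.Agent.Dcoh.MonCat Groth.Agent.Dcoh.ModD

namespace K517.FMSwap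

open Groth.Agent K353.OnSub K353.Calc K353.Conv K232

variable {X Y W W' : Scheme.{u}}

/-- `Rs_* (s^* P) = P` for `s` an isomorphism. -/
theorem rpush_iso (s : W' ⟶ W) (t : W ⟶ W') (hst : s ≫ t = 𝟙 _) (hts : t ≫ s = 𝟙 _) [DCoh.HasRpush s]
    {P : W.Modules} (hP : PicF.IsInvertible P) :
    Nonempty ((DCoh.Rpush s).obj (DCoh.inD _ ((Scheme.Modules.pullback s).obj P)) ≅ DCoh.inD _ P) := by
  have := hasLpull s
  have := hasLpull t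
  have := hasLpull (𝟙 W)
  obtain ⟨e2⟩ := FMInv.nonempty_lpull s hP
  have e3 : DCoh.Lpull s ⋙ DCoh.Rpush s ≅ 𝟭 _ :=
    Functor.isoWhiskerLeft _ (K512.FMIso.pushIso s t hst hts) ≪≫
      K512.FMIso.pullCompOf t s (𝟙 _) hts ≪≫ K512.FMIso.pullId
  exact ⟨(DCoh.Rpush s).mapIso e2.symm ≪≫ e3.app _⟩

/-- Transport of a Fourier–Mukai functor along an isomorphism of the ambient schemes. -/
theorem fm_iso (s : W' ⟶ W) (t : W ⟶ W') (hst : s ≫ t = 𝟙 _) (hts : t ≫ s = 𝟙 _)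
    (p : W ⟶ X) (q : W ⟶ Y) (p' : W' ⟶ X) (q' : W' ⟶ Y) (hp : s ≫ p = p') (hq : s ≫ q = q')
    [DCoh.HasLpull p] [DCoh.HasRpush q] [DCoh.HasLpull p'] [DCoh.HasRpush q']
    {P : W.Modules} (hP : PicF.IsInvertible P) :
    IsoOn (qc X) (fm p q (DCoh.inD W P)) (fm p' q' (DCoh.inD W' ((Scheme.Modules.pullback s).obj P))) := by
  have := hasRpush s
  have hs : IsIso s := ⟨t, hst, hts⟩
  obtain ⟨e⟩ := rpush_iso s t hst hts hP
  obtain ⟨f⟩ := fm_congr p q e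
  exact (IsoOn.of_iso f.symm).trans (fm_push s p q p' q' hp hq _
    (FMInv.qc_inD (Fdesc.LocGen.isInvertible_pullback s hP)))

/-- Inversion in terms of the functors of one product. -/
theorem inv_of {p : W ⟶ X} {q : W ⟶ Y} {p' : W' ⟶ Y} {q' : W' ⟶ X} (s : W' ⟶ W) (t : W ⟶ W')
    (hst : s ≫ t = 𝟙 _) (hts : t ≫ s = 𝟙 _) (hp : s ≫ q = p') (hq : s ≫ p = q')
    [QuasiCompact q] [QuasiSeparated q]
    [DCoh.HasLpull p] [DCoh.HasRpush q] [DCoh.HasLpull q] [DCoh.HasRpush p] [DCoh.HasLpull p']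
    [DCoh.HasRpush q'] {P : W.Modules} (hP : PicF.IsInvertible P)
    [DCoh.HasLTensorMod P] [DCoh.HasLTensorMod ((Scheme.Modules.pullback s).obj P)]
    (T : DCoh.D X ⥤ DCoh.D X)
    (h : Nonempty (ObjectProperty.ι (DCoh.IsQCohD (X := X)) ⋙
      (DCoh.Lpull p ⋙ DCoh.LTensorMod P ⋙ DCoh.Rpush q) ⋙
      (DCoh.Lpull p' ⋙ DCoh.LTensorMod ((Scheme.Modules.pullback s).obj P) ⋙ DCoh.Rpush q') ≅
      ObjectProperty.ι (DCoh.IsQCohD (X := X)) ⋙ T)) {K : DCoh.D X} (hK : qc X K) :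
    Nonempty ((fm q p (DCoh.inD W P)).obj ((fm p q (DCoh.inD W P)).obj K) ≅ T.obj K) := by
  obtain ⟨h⟩ := h
  obtain ⟨a⟩ := FMInv.fm_mod p q hP
  obtain ⟨b⟩ := FMInv.fm_mod p' q' (Fdesc.LocGen.isInvertible_pullback s hP)
  have hq' : qc Y ((fm p q (DCoh.inD W P)).obj K) :=
    qc_rpush q _ (qc_tensor _ _ (qc_lpull p K hK) (FMInv.qc_inD hP))
  obtain ⟨c⟩ := (fm_iso s t hst hts q p p' q' hp hq hP).app hq'
  exact ⟨c ≪≫ (b.app _).symm ≪≫ (DCoh.Lpull p' ⋙ DCoh.LTensorMod ((Scheme.Modules.pullback s).obj P) ⋙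
    DCoh.Rpush q').mapIso (a.app K).symm ≪≫ h.app ⟨K, hK⟩⟩

/-- `- ⊗ᴸ L` is `- ⊗ L[0]`, on objects. -/
theorem ltMod_obj (L : X.Modules) [DCoh.HasLTensorMod L] (R : DCoh.D X) :
    Nonempty ((DCoh.LTensorMod L).obj R ≅ R ⊗ DCoh.inD X L) := by
  have h1 := Dcoh.ModTens.hasLTensorCx (Cohder.RelPCMon.sgl L)
  obtain ⟨a⟩ := Cohder.RelPCMon.nonempty_mod L R
  obtain ⟨b⟩ := ltensorCx (Cohder.RelPCMon.sgl L)
  exact ⟨a ≪≫ b.app R ≪≫
    (tensorLeft R).mapIso ((DerivedCategory.singleFunctorIsoCompQ X.Modules 0).app L).symm⟩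

/-- `K⟦n⟧ ⊗ F ≅ (F ⊗ K)⟦n⟧`. -/
theorem shift_tensor (K F : DCoh.D X) (n : ℤ) : Nonempty (K⟦n⟧ ⊗ F ≅ (F ⊗ K)⟦n⟧) := by
  obtain ⟨e⟩ := FMInv.nonempty_unit_shift (X := X) n
  obtain ⟨b⟩ := braid F
  exact ⟨b.app (K⟦n⟧) ≪≫ (tensorLeft F).mapIso (e.app K).symm ≪≫ (α_ F K _).symm ≪≫ e.app (F ⊗ K)⟩

end K517.FMSwap
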