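import Groth.Agent.FMK.K884.Fib
import Groth.Agent.PerfB.FibreZero
import Groth.Agent.PerfB.FlatPull
import Groth.Agent.S0914
import Groth.Agent.S1006
import Groth.Agent.S0911
import Groth.Agent.FormalA.Support
import Groth.Agent.CohqB.DevSupport

/-!
# Perfect objects with prescribed fibres at the closed points

`Y` Noetherian, `V` perfect on `Y`.
* `isZero_HD`: if `H^i(V ⊗ κ(y)) = 0` for the closed points `y` then `H^i(V) = 0`;
* `exists_vb`: if this holds for all `i ≠ 0` then `V` is a vector bundle in degree `0`;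
* `fibZero_iff`: at a rational point `β : Spec k ⟶ Y` the fibre may be computed with `Lβ^*`.
-/

set_option autoImplicit false

universe u

open CategoryTheory CategoryTheory.Limits AlgebraicGeometry

attribute [local instance] HasDerivedCategory.standard

namespace K517.FibVB

open K884.Fib Groth.Agent Groth.Agent.CohqB.DevSupport

variable {Y : Scheme.{u}}

section noeth

variable [IsNoetherian Y]

theorem isClosed_support {V : DCoh.D Y} (hV : DCoh.IsPerfect V) (i : ℤ) :
    IsClosed (CohB1.support (DCoh.HD V i)) :=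
  FormalA.Support.isClosed_support _ ((S1006.result Y V hV).1 i).2

/-- The support of `H^i(V)` is contained in every closed set containing the closed points `y` with
`H^i(V ⊗ κ(y)) ≠ 0`. -/
theorem support_subset {V : DCoh.D Y} (hV : DCoh.IsPerfect V) (i : ℤ) (S : Set Y)
    (h : ∀ y : Y, IsClosed ({y} : Set Y) → ¬ FibZero V y i → y ∈ S)
    (hj : ∀ Z : Set Y, IsClosed Z → Z ⊆ closure {y ∈ Z | IsClosed ({y} : Set Y)}) :
    CohB1.support (DCoh.HD V i) ⊆ closure S := by
  refine (hj _ (isClosed_support hV i)).trans (closure_mono ?_)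
  rintro y ⟨hy, hyc⟩
  exact h y hyc (not_fibZero_of_mem hV y i hy)

theorem isZero_HD {V : DCoh.D Y} (hV : DCoh.IsPerfect V) (i : ℤ)
    (h : ∀ y : Y, IsClosed ({y} : Set Y) → FibZero V y i) : IsZero (DCoh.HD V i) := by
  refine isZero_of_support_eq_empty ?_
  by_contra hne
  obtain ⟨y, hy, hyc⟩ := (isClosed_support hV i).exists_closed_singleton (Set.nonempty_iff_ne_empty.2 hne)
  exact not_fibZero_of_mem hV y i hy (h y hyc)

theorem exists_vb {V : DCoh.D Y} (hV : DCoh.IsPerfect V)
    (h : ∀ y : Y, IsClosed ({y} : Set Y) → ∀ i : ℤ, i ≠ 0 → FibZero V y i) :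
    ∃ M : Y.Modules, FlatMod.IsFinLocFree M ∧ Nonempty (V ≅ DCoh.inD Y M) := by
  have h1 : ∀ i : ℤ, i ≠ 0 → IsZero (DCoh.HD V i) := fun i hi => isZero_HD hV i fun y hy => h y hy i hi
  have hge : V.IsGE 0 := by
    rw [DerivedCategory.isGE_iff]
    exact fun i hi => h1 i (by lia)
  have hle : V.IsLE 0 := by
    rw [DerivedCategory.isLE_iff]
    exact fun i hi => h1 i (by lia)
  obtain ⟨M, ⟨e⟩⟩ := DerivedCategory.exists_iso_singleFunctor_obj_of_isGE_of_isLE V 0
  have e' : V ≅ DCoh.inD Y M := e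
  refine ⟨M, ?_, ⟨e'⟩⟩
  have hM : DCoh.IsPerfect (DCoh.inD Y M) := Dcoh.LocalD.isPerfect_of_iso e' hV
  have hL : ∀ x : Y, DCoh.HasLpull (Y.fromSpecResidueField x) := fun x => Dcoh.DerPull.hasLpull _
  refine PerfB.FibreZero.isFinLocFree_of_betti M hM fun x j hj => ?_
  have hop := PerfB.Betti.isOpen_betti_lt (DCoh.inD Y M) ((S0914.result _).1 hM).1 j 1
  by_contra hx
  have hcl : IsClosed {x : Y | PerfD.betti (DCoh.inD Y M) x j < 1}ᶜ := isClosed_compl_iff.2 hop
  obtain ⟨y, hy, hyc⟩ := hcl.exists_closed_singleton ⟨x, fun hx' => hx (Nat.lt_one_iff.1 hx')⟩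
  refine hy ?_
  have h2 : FibZero (DCoh.inD Y M) y j := (h y hyc j hj).of_iso e'
  change PerfD.betti (DCoh.inD Y M) y j < 1
  rw [PerfB.FibreZero.betti_eq_zero _ _ _ ((fibZero_iff _ _ _).1 h2)]
  exact Nat.zero_lt_one

end noeth

section rational

variable {k : Type u} [Field k]

/-- A rational point factors through the spectrum of the residue field by an isomorphism. -/
theorem exists_iso (β : Spec (CommRingCat.of k) ⟶ Y) (π : Y ⟶ Spec (CommRingCat.of k)) (h : β ≫ π = 𝟙 _) :
    ∃ e : Spec (CommRingCat.of k) ⟶ Spec (Y.residueField (β (IsLocalRing.closedPoint k))), IsIso e ∧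
      e ≫ Y.fromSpecResidueField _ = β := by
  let φ := Scheme.descResidueField (Scheme.stalkClosedPointTo β)
  have h1 : Spec.map φ ≫ Y.fromSpecResidueField _ = β :=
    Scheme.descResidueField_stalkClosedPointTo_fromSpecResidueField k Y β
  let ψ : CommRingCat.of k ⟶ Y.residueField (β (IsLocalRing.closedPoint k)) :=
    Spec.preimage (Y.fromSpecResidueField _ ≫ π)
  have h2 : ψ ≫ φ = 𝟙 _ := by
    apply Spec.map_injective
    rw [Spec.map_comp, Spec.map_id, Spec.map_preimage, ← Category.assoc, h1, h]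
  have h3 : Function.Bijective φ.hom := by
    refine ⟨φ.hom.injective, fun x => ⟨ψ.hom x, ?_⟩⟩
    exact congrArg (fun f : CommRingCat.of k ⟶ CommRingCat.of k => f.hom x) h2
  have h4 : IsIso φ := (ConcreteCategory.isIso_iff_bijective φ).2 h3
  exact ⟨Spec.map φ, inferInstance, h1⟩

theorem lpull_comp {X Z : Scheme.{u}} (f : X ⟶ Y) (g : Y ⟶ Z) [DCoh.HasLpull f] [DCoh.HasLpull g] (h : X ⟶ Z)
    [DCoh.HasLpull h] (e : f ≫ g = h) : Nonempty (DCoh.Lpull g ⋙ DCoh.Lpull f ≅ DCoh.Lpull h) := by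
  subst e
  exact S0911.result f g

theorem isZero_pullback_iff {X : Scheme.{u}} (e : X ⟶ Y) [IsIso e] (M : Y.Modules) :
    IsZero ((Scheme.Modules.pullback e).obj M) ↔ IsZero M := by
  constructor
  · intro hz
    refine ((Scheme.Modules.pullback (inv e)).map_isZero hz).of_iso ?_
    exact ((Scheme.Modules.pullbackId _).app _).symm ≪≫
      ((Scheme.Modules.pullbackCongr (IsIso.inv_hom_id e).symm).app _) ≪≫
      ((Scheme.Modules.pullbackComp (inv e) e).app _).symm
  · intro hz
    exact (Scheme.Modules.pullback e).map_isZero hz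

theorem fibZero_iff' (V : DCoh.D Y) (β : Spec (CommRingCat.of k) ⟶ Y) (π : Y ⟶ Spec (CommRingCat.of k))
    (h : β ≫ π = 𝟙 _) [DCoh.HasLpull β] (i : ℤ) :
    FibZero V (β (IsLocalRing.closedPoint k)) i ↔ IsZero (DCoh.HD ((DCoh.Lpull β).obj V) i) := by
  obtain ⟨e, he, h1⟩ := exists_iso β π h
  have h2 := Dcoh.DerPull.hasLpull (Y.fromSpecResidueField (β (IsLocalRing.closedPoint k)))
  have h3 := Dcoh.DerPull.hasLpull e
  obtain ⟨c⟩ := lpull_comp e _ β h1
  have c' : DCoh.HD ((DCoh.Lpull e).obj ((DCoh.Lpull (Y.fromSpecResidueField _)).obj V)) i ≅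
      DCoh.HD ((DCoh.Lpull β).obj V) i :=
    (DerivedCategory.homologyFunctor _ i).mapIso (c.app V)
  rw [fibZero_iff, ← c'.isZero_iff, (PerfB.FlatPull.HDLpull e _ i).isZero_iff, isZero_pullback_iff]

end rational

end K517.FibVB
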