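import Groth.Agent.AbVar.K512.PoincId

/-!
# The classes `P_α` : `P_α ⊗ [-1]^* P_β ≅ P_{α β⁻¹}`
-/

set_option autoImplicit false
universe u

open CategoryTheory CategoryTheory.Limits MonoidalCategory CartesianMonoidalCategory MonObj GrpObj
  AlgebraicGeometry

namespace K517.PoincSig

open Groth.Agent Groth.Agent.Grpsch.PicGrp Groth.Agent.Fga.RigGrp K732.Cov K732.PicZero K732.RigSheaf K732.Dual
open K732.CubeSec K732.Transp K732.Prim Groth.Agent.Fdesc.LocGen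

variable {k : Type u} [Field k] {A At : Over (Spec (CommRingCat.of k))} [GrpObj A] [GrpObj At]
  [IsProper A.hom] [GeometricallyIntegral A.hom] [LocallyOfFiniteType At.hom] [GeometricallyConnected At.hom]
  {φ : ∀ T : Over (Spec (CommRingCat.of k)), PicF.Cl (PicF.XT A.hom T) → (T ⟶ At)}
  (hφ : AbDual.IsDualAV Scheme.fppfPrecoverage A At φ)

section cls

variable {ξ : Pic (PicF.XT A.hom At)} (h1 : ξ ∈ pz A.hom At) (h2 : ξ ∈ rg A At) (h3 : cm φ ξ = 𝟙 At)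

include hφ h1 h2 h3

theorem sig_eq (β : 𝟙_ (Over (Spec (CommRingCat.of k))) ⟶ At) :
    pull ((𝟙 A)⁻¹).left (ev (𝟙 A) (toUnit A ≫ β) ξ) = (ev (𝟙 A) (toUnit A ≫ β) ξ)⁻¹ := by
  have e1 : pull ((𝟙 A)⁻¹).left (ev (𝟙 A) (toUnit A ≫ β) ξ) = ev (𝟙 A)⁻¹ (toUnit A ≫ β) ξ := by
    rw [pull_ev, Category.comp_id, ← Category.assoc, toUnit_unique ((𝟙 A)⁻¹ ≫ toUnit A) (toUnit A)]
  have e2 := poinc_mul hφ h1 h2 h3 (𝟙 A)⁻¹ (𝟙 A) (toUnit A ≫ β)
  rw [inv_mul_cancel, ev_one_of_mem h2] at e2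
  rw [e1]
  exact eq_inv_of_mul_eq_one_left e2.symm

omit [LocallyOfFiniteType At.hom] [GeometricallyConnected At.hom] in
theorem mul_inv_eq (α β : 𝟙_ (Over (Spec (CommRingCat.of k))) ⟶ At) :
    ev (𝟙 A) (toUnit A ≫ (α * β⁻¹)) ξ =
      ev (𝟙 A) (toUnit A ≫ α) ξ * (ev (𝟙 A) (toUnit A ≫ β) ξ)⁻¹ := by
  have e := K512.PoincId.ev_mul_right hφ h1 h2 h3 (𝟙 A) (toUnit A ≫ (α * β⁻¹)) (toUnit A ≫ β)
  rw [← MonObj.comp_mul, inv_mul_cancel_right] at e
  rw [e, mul_inv_cancel_right]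

end cls

variable {P : (pullback A.hom At.hom).Modules} (hP : PicF.IsInvertible P)
  (hPξ : AbDual.IsPoincareCl A At φ (PicF.cl P))

/-- The restriction of `P` to `A × {α}`. -/
noncomputable abbrev Pα (P : (pullback A.hom At.hom).Modules) (α : 𝟙_ (Over (Spec (CommRingCat.of k))) ⟶ At) :
    A.left.Modules :=
  (Scheme.Modules.pullback (CartesianMonoidalCategory.lift (𝟙 A) (toUnit A ≫ α)).left).obj P

omit [GrpObj A] [GrpObj At] [IsProper A.hom] [GeometricallyIntegral A.hom] [LocallyOfFiniteType At.hom]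
  [GeometricallyConnected At.hom] in
include hP in
theorem isInvertible_Pα (α : 𝟙_ (Over (Spec (CommRingCat.of k))) ⟶ At) : PicF.IsInvertible (Pα P α) :=
  isInvertible_pullback _ hP

include hφ hP hPξ in
theorem nonempty_sig (α β : 𝟙_ (Over (Spec (CommRingCat.of k))) ⟶ At) :
    Nonempty (CohB1.tensorMod (Pα P α) ((Scheme.Modules.pullback ((𝟙 A)⁻¹).left).obj (Pα P β)) ≅
      Pα P (α * β⁻¹)) := by
  obtain ⟨ζ, h1, h2, h3, h4⟩ := K732.AV.exists_of_isPoincareCl hPξ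
  have e : ζ = mk P hP := toCl_injective h4
  subst e
  refine (mk_eq_iff (isInvertible_tensorMod (isInvertible_Pα hP α)
    (isInvertible_pullback _ (isInvertible_Pα hP β))) (isInvertible_Pα hP _)).1 ?_
  have h5 := sig_eq hφ h1 h2 h3 β
  have h6 := mul_inv_eq hφ h1 h2 h3 α β
  rw [← h5] at h6
  exact h6.symm

end K517.PoincSig
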