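import Groth.Agent.AbVar.K517.FMSwap
import Groth.Agent.AbVar.K517.FMFib
import Groth.Agent.AbVar.K517.FibVB
import Groth.Agent.AbVar.K517.PoincSig
import Groth.Agent.AbVar.K516.HyperTens
import Groth.Agent.AbVar.K512.Pts
import Groth.Agent.S2231
import Groth.Agent.PerfA.PerfLocal

/-!
# The Fourier–Mukai transform of an `IT₀` sheaf is a vector bundle in degree `0`
-/

set_option autoImplicit false

universe u

open CategoryTheory CategoryTheory.Limits MonoidalCategory CartesianMonoidalCategory AlgebraicGeometry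

attribute [local instance] HasDerivedCategory.standard

open scoped Groth.Agent.Dcoh.MonCat Groth.Agent.Dcoh.ModD

namespace K517.FMVB

open Groth.Agent K353.OnSub K353.Calc K353.Conv K232 K884.Fib K517.PoincSig K516.HyperH

section Sec

variable {S : Scheme.{u}} (A At : Over S) (x : 𝟙_ (Over S) ⟶ At)

/-- The inclusion of the fibre `A = A × {x}`. -/
noncomputable abbrev sec : A.left ⟶ pullback A.hom At.hom :=
  (CartesianMonoidalCategory.lift (𝟙 A) (toUnit A ≫ x)).left

theorem sec_fst : sec A At x ≫ pullback.fst A.hom At.hom = 𝟙 _ :=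
  congrArg Over.Hom.left (lift_fst (𝟙 A) (toUnit A ≫ x))

theorem sec_snd : sec A At x ≫ pullback.snd A.hom At.hom = A.hom ≫ x.left :=
  congrArg Over.Hom.left (lift_snd (𝟙 A) (toUnit A ≫ x))

theorem isPullback_sec : IsPullback (sec A At x) A.hom (pullback.snd A.hom At.hom) x.left := by
  refine IsPullback.of_right (h₁₂ := pullback.fst A.hom At.hom) (h₂₂ := At.hom) (v₁₃ := A.hom) ?_
    (sec_snd A At x) (IsPullback.of_hasPullback A.hom At.hom)
  have h2 : x.left ≫ At.hom = 𝟙 S := Over.w x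
  rw [sec_fst, h2]
  exact IsPullback.of_id_fst

end Sec

variable {k : Type u} [Field k] {A At : Over (Spec (CommRingCat.of k))}
  {P : (pullback A.hom At.hom).Modules} (hP : PicF.IsInvertible P)
  [DCoh.HasLpull (pullback.fst A.hom At.hom)] [DCoh.HasRpush (pullback.snd A.hom At.hom)]

theorem isPerfect_inD {X : Scheme.{u}} {L : X.Modules} (hL : PicF.IsInvertible L) : DCoh.IsPerfect (DCoh.inD X L) :=
  PerfA.PerfLocal.isPerfect_inD_of_isFinLocFree (FMInv.isFinLocFree_of_isInvertible hL)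

include hP in
/-- `Φ_P` preserves perfect objects. -/
theorem isPerfect_fm [IsProper A.hom] {K : DCoh.D A.left} (hK : DCoh.IsPerfect K) :
    DCoh.IsPerfect ((fm (pullback.fst A.hom At.hom) (pullback.snd A.hom At.hom)
      (DCoh.inD (pullback A.hom At.hom) P)).obj K) := by
  have h1 := Dcoh.ModTens.hasLTensorCx (Cohder.RelPCMon.sgl P)
  have h2 : LocallyOfFinitePresentation A.hom :=
    LocallyOfFinitePresentation.iff_locallyOfFiniteType.2 inferInstance
  let e : DCoh.inD (pullback A.hom At.hom) P ≅ DCoh.toD (pullback A.hom At.hom) (Cohder.RelPCMon.sgl P) :=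
    (DerivedCategory.singleFunctorIsoCompQ _ 0).app P
  obtain ⟨a⟩ := fm_cx (pullback.fst A.hom At.hom) (pullback.snd A.hom At.hom) (Cohder.RelPCMon.sgl P)
  obtain ⟨b⟩ := fm_congr (pullback.fst A.hom At.hom) (pullback.snd A.hom At.hom) e
  refine Dcoh.LocalD.isPerfect_of_iso ((b ≪≫ a.symm).app K).symm ?_
  exact S2231.result A.hom At.hom (Cohder.RelPCMon.sgl P) (Dcoh.LocalD.isPerfect_of_iso e (isPerfect_inD hP)) K hK

omit [DCoh.HasLpull (pullback.fst A.hom At.hom)] [DCoh.HasRpush (pullback.snd A.hom At.hom)] in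
include hP in
/-- `K ⊗ P|_{A × x}`. -/
theorem nonempty_tw (x : 𝟙_ (Over (Spec (CommRingCat.of k))) ⟶ At) [DCoh.HasLpull (sec A At x)]
    [DCoh.HasLTensorMod (Pα P x)] (K : DCoh.D A.left) :
    Nonempty (K ⊗ (DCoh.Lpull (sec A At x)).obj (DCoh.inD (pullback A.hom At.hom) P) ≅
      (DCoh.LTensorMod (Pα P x)).obj K) := by
  obtain ⟨a⟩ := FMInv.nonempty_lpull (sec A At x) hP
  obtain ⟨b⟩ := FMSwap.ltMod_obj (Pα P x) K
  exact ⟨(tensorLeft K).mapIso a ≪≫ b.symm⟩

include hP in
/-- Fibres of `Φ_P(K)` at the rational points. -/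
theorem fib_iff [IsProper A.hom] [DCoh.HasRΓ A.left] {K : DCoh.D A.left} (hK : qc A.left K)
    (x : 𝟙_ (Over (Spec (CommRingCat.of k))) ⟶ At) [DCoh.HasLTensorMod (Pα P x)] (i : ℤ) :
    FibZero ((fm (pullback.fst A.hom At.hom) (pullback.snd A.hom At.hom)
      (DCoh.inD (pullback A.hom At.hom) P)).obj K) (x.left (IsLocalRing.closedPoint k)) i ↔
      Van ((DCoh.LTensorMod (Pα P x)).obj K) i := by
  have h1 := hasLpull (sec A At x)
  have h2 := hasLpull x.left
  have h3 : x.left ≫ At.hom = 𝟙 _ := Over.w x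
  obtain ⟨e⟩ := nonempty_tw hP x K
  rw [← van_congr e, ← isZero_RΓ_iff]
  refine (FibVB.fibZero_iff' _ x.left At.hom h3 i).trans ?_
  exact FMFib.isZero_iff (pullback.fst A.hom At.hom) (pullback.snd A.hom At.hom) A.hom x.left (sec A At x)
    (isPullback_sec A At x) (sec_fst A At x) (FMInv.qc_inD hP) hK i

include hP in
/-- **`IT₀`**: the transform is a vector bundle in degree `0`. -/
theorem exists_vb [IsAlgClosed k] [IsProper A.hom] [LocallyOfFiniteType At.hom] [CompactSpace At.left]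
    {M : A.left.Modules} (hM : DCoh.IsPerfect (DCoh.inD A.left M)) (hMq : Coh.IsQCoh M)
    (h : ∀ (β : 𝟙_ (Over (Spec (CommRingCat.of k))) ⟶ At) (i : ℕ), 1 ≤ i →
      Subsingleton (Coh.HH A.left (CohB1.tensorMod M (Pα P β)) i)) :
    ∃ V : At.left.Modules, FlatMod.IsFinLocFree V ∧
      Nonempty ((fm (pullback.fst A.hom At.hom) (pullback.snd A.hom At.hom)
        (DCoh.inD (pullback A.hom At.hom) P)).obj (DCoh.inD A.left M) ≅ DCoh.inD At.left V) := by
  have hln : IsLocallyNoetherian At.left := LocallyOfFiniteType.isLocallyNoetherian At.hom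
  have hn : IsNoetherian At.left := {}
  have hR := K884.RGam.hasRΓ A.left
  refine FibVB.exists_vb (isPerfect_fm hP hM) fun y hy i hi => ?_
  obtain ⟨β, rfl⟩ := K512.Pts.exists_pt y hy
  have hinv := isInvertible_Pα hP β
  have h1 := Dcoh.LTMod.hasLTensorMod (Pα P β)
  rw [fib_iff hP (PerfB.StructFlat.isQCohD_inD hMq)]
  obtain ⟨e⟩ := K516.HyperTens.nonempty_single (Pα P β) (PerfB.TensInv.isFlat_of_isInvertible hinv) M 0
  refine Van.of_iso e.symm ?_
  change Van (DCoh.inD A.left (CohB1.tensorMod M (Pα P β))) i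
  rcases lt_or_gt_of_ne hi with h2 | h2
  · exact van_inD_neg _ i h2
  · lift i to ℕ using h2.le
    exact (van_inD_iff _ i).2 (h β i (by exact_mod_cast h2))

end K517.FMVB
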