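import Groth.Agent.AbVar.K517.PoincSig
import Groth.Agent.CohqB.PullTwist471
import Groth.Agent.Flat2H.ThickFibre
import Groth.Agent.Ega3B.AcycNbhd
import Groth.Agent.Ega2.TensMon
import Groth.Agent.Ega3B.CohTensor

/-!
# `IT₀` for `[-1]^*(H ⊗ P_α)`
-/

set_option autoImplicit false
universe u

open CategoryTheory CategoryTheory.Limits MonoidalCategory CartesianMonoidalCategory MonObj GrpObj
  AlgebraicGeometry

namespace K517.SigIT

open Groth.Agent Groth.Agent.Grpsch.PicGrp Groth.Agent.Ega2.Tens Groth.Agent.Fdesc.LocGen K517.PoincSig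

theorem inv_comp_inv {k : Type u} [Field k] (A : Over (Spec (CommRingCat.of k))) [GrpObj A] :
    ((𝟙 A)⁻¹).left ≫ ((𝟙 A)⁻¹).left = 𝟙 A.left := by
  have h : (𝟙 A)⁻¹ ≫ (𝟙 A)⁻¹ = 𝟙 A := by rw [comp_inv, Category.comp_id, _root_.inv_inv]
  rw [← Over.comp_left, h]
  rfl

instance isIso_inv {k : Type u} [Field k] (A : Over (Spec (CommRingCat.of k))) [GrpObj A] :
    IsIso ((𝟙 A)⁻¹).left := ⟨((𝟙 A)⁻¹).left, inv_comp_inv A, inv_comp_inv A⟩

theorem hasBases {X : Scheme.{u}} {L : X.Modules} (hL : PicF.IsInvertible L) : VarietyB.TensCoh.HasBases L :=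
  VarietyB.TensCoh.HasBases.of_isFinLocFree
    (Ega2.QCohLocal.isFinLocFree_of_rank (Ega2.QCohLocal.isFinLocFreeOfRank_one_iff.2 hL))

variable {k : Type u} [Field k] {A At : Over (Spec (CommRingCat.of k))} [GrpObj A] [GrpObj At]
  [IsProper A.hom] [GeometricallyIntegral A.hom] [LocallyOfFiniteType At.hom] [GeometricallyConnected At.hom]
  {φ : ∀ T : Over (Spec (CommRingCat.of k)), PicF.Cl (PicF.XT A.hom T) → (T ⟶ At)}
  (hφ : AbDual.IsDualAV Scheme.fppfPrecoverage A At φ)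
  {P : (pullback A.hom At.hom).Modules} (hP : PicF.IsInvertible P)
  (hPξ : AbDual.IsPoincareCl A At φ (PicF.cl P))

include hφ hP hPξ in
/-- `IT₀` for `[-1]^*(H ⊗ P_α)`. -/
theorem main {H : A.left.Modules} (hH : Coh.IsCoh H)
    (hH0 : ∀ (α : 𝟙_ (Over (Spec (CommRingCat.of k))) ⟶ At) (i : ℕ), 1 ≤ i →
      Subsingleton (Coh.HH A.left (CohB1.tensorMod H (Pα P α)) i))
    (α β : 𝟙_ (Over (Spec (CommRingCat.of k))) ⟶ At) (i : ℕ) (hi : 1 ≤ i) :
    Subsingleton (Coh.HH A.left (CohB1.tensorMod ((Scheme.Modules.pullback ((𝟙 A)⁻¹).left).obj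
      (CohB1.tensorMod H (Pα P α))) (Pα P β)) i) := by
  let σ : A.left ⟶ A.left := ((𝟙 A)⁻¹).left
  have hσ : σ ≫ σ = 𝟙 _ := inv_comp_inv A
  let N : A.left.Modules := CohB1.tensorMod (CohB1.tensorMod H (Pα P α)) ((Scheme.Modules.pullback σ).obj (Pα P β))
  obtain ⟨e0⟩ := nonempty_sig hφ hP hPξ α β
  let e1 : N ≅ CohB1.tensorMod H (Pα P (α * β⁻¹)) := assoc _ _ _ ≪≫ mapTIso (Iso.refl H) e0
  have h1 : Subsingleton (Coh.HH A.left N i) :=
    Ega3B.AcycNbhd.subsingleton_HH_of_iso e1.symm i (hH0 _ i hi)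
  have h2 : Coh.IsQCoh N := (Ega3B.CohTensor.isCoh_tensor (Ega3B.CohTensor.isCoh_tensor hH (isInvertible_Pα hP α))
    (isInvertible_pullback σ (isInvertible_Pα hP β))).1
  have h3 := (Flat2H.ThickFibre.subsingleton_HH_pullback_iff σ N h2 i).2 h1
  let e2 : (Scheme.Modules.pullback σ).obj ((Scheme.Modules.pullback σ).obj (Pα P β)) ≅ Pα P β :=
    Ega3B.AcycNbhd.compIso σ σ (𝟙 _) hσ _ ≪≫ (Scheme.Modules.pullbackId _).app _
  refine Ega3B.AcycNbhd.subsingleton_HH_of_iso ?_ i h3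
  exact CohqB.PullTwist471.pullTensorIsoRight σ (hasBases (isInvertible_pullback σ (isInvertible_Pα hP β))) _ ≪≫
    mapTIso (Iso.refl _) e2

end K517.SigIT
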