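import Groth.Agent.AbVar.K517.Exch
import Groth.Agent.AbVar.K517.FMVB
import Groth.Agent.AbVar.K517.SigIT
import Groth.Agent.AbVar.K517.HyperCodim
import Groth.Agent.FormalA.PullbackQC
import Groth.Agent.S1005
import Groth.Agent.S1006
import Groth.Agent.S1535

/-!
# Vanishing of the hypercohomology of `F ⊗ H`, `F` a GV object and `H` an `IT₀` sheaf

`main`: `dim supp H^j(Φ_P F) ≤ g - j` for all `j` implies `H^i(A, F ⊗ H ⊗ P_α) = 0` for `i ≥ 1`.
-/

set_option autoImplicit false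

universe u

open CategoryTheory CategoryTheory.Limits MonoidalCategory CartesianMonoidalCategory MonObj GrpObj AlgebraicGeometry

attribute [local instance] HasDerivedCategory.standard

open scoped Groth.Agent.Dcoh.MonCat Groth.Agent.Dcoh.ModD

namespace K517.FMVan

open Groth.Agent K353.OnSub K353.Calc K353.Conv K232 K517.PoincSig K516.HyperH K517.HyperCodim

/-- `Lf^*(M[0]) = (f^* M)[0]` for `f` flat. -/
theorem nonempty_lpull_inD {X Y : Scheme.{u}} (f : X ⟶ Y) [Flat f] [DCoh.HasLpull f] (M : Y.Modules) :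
    Nonempty ((DCoh.Lpull f).obj (DCoh.inD Y M) ≅ DCoh.inD X ((Scheme.Modules.pullback f).obj M)) := by
  have := PerfB.FlatPull.preservesFiniteLimits_pullback f
  exact ⟨(PerfB.FlatPull.lpullIso f).app _ ≪≫ ((Scheme.Modules.pullback f).mapDerivedCategorySingleFunctor 0).app M⟩

/-- `M[0] ⊗ L[0] = (M ⊗ L)[0]` for `L` invertible. -/
theorem nonempty_inD_tensor {X : Scheme.{u}} (M : X.Modules) {L : X.Modules} (hL : PicF.IsInvertible L) :
    Nonempty (DCoh.inD X M ⊗ DCoh.inD X L ≅ DCoh.inD X (CohB1.tensorMod M L)) := by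
  have h1 := Dcoh.LTMod.hasLTensorMod L
  obtain ⟨a⟩ := FMSwap.ltMod_obj L (DCoh.inD X M)
  obtain ⟨b⟩ := K516.HyperTens.nonempty_single L (PerfB.TensInv.isFlat_of_isInvertible hL) M 0
  exact ⟨a.symm ≪≫ b⟩

section van

variable {Y : Scheme.{u}} [IsNoetherian Y]

/-- Vanishing for a perfect object with small supports, tensored with a vector bundle. -/
theorem van_tensor (g : ℕ) (hg : topologicalKrullDim Y ≤ g) {K : DCoh.D Y} (hK : DCoh.IsPerfect K)
    (hs : ∀ j : ℤ, Small (CohB1.support (DCoh.HD K j)) (g - j)) {V : Y.Modules} (hV : FlatMod.IsFinLocFree V)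
    {R : DCoh.D Y} (e : R ≅ DCoh.inD Y V) (m : ℤ) (hm : (g : ℤ) < m) : Van (K ⊗ R) m := by
  have h1 := Dcoh.LTMod.hasLTensorMod V
  obtain ⟨a⟩ := FMSwap.ltMod_obj V K
  obtain ⟨-, b, -, hb⟩ := (S1006.result Y K hK).2
  have hfl : FlatMod.IsFlat V := Dcoh.Spread.isFlat_of_isFinLocFree hV
  have h2 := K516.HyperTens.isLE V hfl K b
  refine Van.of_iso (a ≪≫ (tensorLeft K).mapIso e.symm) ?_
  exact van g hg g _ b h2 (fun j => (hs j).mono (K516.HyperTens.support_HD V hfl K j) le_rfl) m hm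

end van

section core

variable {X Y W : Scheme.{u}}

/-- The exchange argument. -/
theorem core (p : W ⟶ X) (q : W ⟶ Y) [QuasiCompact p] [QuasiSeparated p] [QuasiCompact q] [QuasiSeparated q]
    [DCoh.HasLpull p] [DCoh.HasLpull q] [DCoh.HasRpush p] [DCoh.HasRpush q]
    {K : DCoh.D W} (hK : qc W K) (g : ℤ) {N : DCoh.D X} {R : DCoh.D Y} (hR : qc Y R)
    (e : (fm q p K).obj R ≅ N⟦-g⟧) {F : DCoh.D X} (hF : qc X F)
    (h : ∀ m : ℤ, g < m → Van ((fm p q K).obj F ⊗ R) m) (i : ℤ) (hi : 1 ≤ i) : Van (F ⊗ N) i := by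
  have hR1 := K884.RGam.hasRΓ X
  have hR2 := K884.RGam.hasRΓ Y
  obtain ⟨e3⟩ := Exch.exch p q hK hR hF
  obtain ⟨e4⟩ := FMSwap.shift_tensor N F (-g)
  have h6 : Van ((F ⊗ N)⟦-g⟧) (i + g) := by
    have h7 := h (i + g) (by lia)
    rw [← isZero_RΓ_iff] at h7 ⊢
    refine h7.of_iso ((DerivedCategory.homologyFunctor _ _).mapIso ?_)
    exact (DCoh.RΓ X).mapIso (e4.symm ≪≫ (tensorRight F).mapIso e.symm) ≪≫ e3
  have h9 := van_shift g h6
  exact h9.of_iso ((shiftFunctorCompIsoId (DCoh.D X) (-g) g (by lia)).app _)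

/-- The object `F ⊗ H ⊗ L`. -/
theorem van_of_tensor {H L : X.Modules} (hL : PicF.IsInvertible L) [DCoh.HasLTensorMod L] [DCoh.HasLTensorMod H]
    {F : DCoh.D X} {i : ℤ} (h : Van (F ⊗ DCoh.inD X (CohB1.tensorMod H L)) i) :
    Van ((DCoh.LTensorMod L).obj ((DCoh.LTensorMod H).obj F)) i := by
  obtain ⟨a⟩ := FMSwap.ltMod_obj L ((DCoh.LTensorMod H).obj F)
  obtain ⟨b⟩ := FMSwap.ltMod_obj H F
  obtain ⟨c⟩ := nonempty_inD_tensor H hL
  exact h.of_iso ((tensorLeft F).mapIso c.symm ≪≫ (α_ _ _ _).symm ≪≫ (tensorRight _).mapIso b.symm ≪≫ a.symm)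

/-- `Lσ^*(σ^* M) = M` for an involution `σ`. -/
theorem lpull_inv (σ : X ⟶ X) (hσ : σ ≫ σ = 𝟙 _) [DCoh.HasLpull σ] (M : X.Modules) :
    Nonempty ((DCoh.Lpull σ).obj (DCoh.inD X ((Scheme.Modules.pullback σ).obj M)) ≅ DCoh.inD X M) := by
  have hσi : IsIso σ := ⟨σ, hσ, hσ⟩
  obtain ⟨a⟩ := nonempty_lpull_inD σ ((Scheme.Modules.pullback σ).obj M)
  exact ⟨a ≪≫ (DerivedCategory.singleFunctor X.Modules 0).mapIso
      (Ega3B.AcycNbhd.compIso σ σ (𝟙 _) hσ M ≪≫ (Scheme.Modules.pullbackId _).app M)⟩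

end core

variable {k : Type u} [Field k] {A At : Over (Spec (CommRingCat.of k))} [GrpObj A] [GrpObj At]
  [IsProper A.hom] [GeometricallyIntegral A.hom] [Smooth A.hom] [LocallyOfFiniteType At.hom] [GeometricallyConnected At.hom]
  {φ : ∀ T : Over (Spec (CommRingCat.of k)), PicF.Cl (PicF.XT A.hom T) → (T ⟶ At)}
  (hφ : AbDual.IsDualAV Scheme.fppfPrecoverage A At φ)
  {P : (pullback A.hom At.hom).Modules} (hP : PicF.IsInvertible P)
  (hPξ : AbDual.IsPoincareCl A At φ (PicF.cl P))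

theorem isPerfect_inD {X : Scheme.{u}} [IsLocallyNoetherian X] (hX : ∀ x : X, IsRegularLocalRing (X.presheaf.stalk x))
    {M : X.Modules} (hM : Coh.IsCoh M) : DCoh.IsPerfect (DCoh.inD X M) := by
  have h1 : (DCoh.inD X M).IsGE 0 := inferInstance
  have h2 : (DCoh.inD X M).IsLE 0 := inferInstance
  exact S1005.result X hX (DCoh.inD X M) 0 0 (PerfA.QCohD.isCohD_inD M hM)

include hφ hP hPξ in
/-- The vanishing theorem. -/
theorem main [IsAlgClosed k] [CompactSpace At.left] (g : ℕ) (hg : topologicalKrullDim At.left ≤ g)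
    [DCoh.HasLpull (pullback.fst A.hom At.hom)] [DCoh.HasRpush (pullback.snd A.hom At.hom)]
    [DCoh.HasLpull (pullback.snd A.hom At.hom)] [DCoh.HasRpush (pullback.fst A.hom At.hom)]
    [DCoh.HasLpull ((𝟙 A)⁻¹).left]
    (hinv : ∀ K : DCoh.D A.left, qc A.left K → Nonempty
      ((fm (pullback.snd A.hom At.hom) (pullback.fst A.hom At.hom) (DCoh.inD (pullback A.hom At.hom) P)).obj
        ((fm (pullback.fst A.hom At.hom) (pullback.snd A.hom At.hom) (DCoh.inD (pullback A.hom At.hom) P)).obj K) ≅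
        ((DCoh.Lpull ((𝟙 A)⁻¹).left).obj K)⟦-(g : ℤ)⟧))
    {H : A.left.Modules} (hH : Coh.IsCoh H)
    (hH0 : ∀ (α : 𝟙_ (Over (Spec (CommRingCat.of k))) ⟶ At) (i : ℕ), 1 ≤ i →
      Subsingleton (Coh.HH A.left (CohB1.tensorMod H (Pα P α)) i))
    {F : DCoh.D A.left} (hF : DCoh.IsPerfect F)
    (hs : ∀ j : ℤ, Small (CohB1.support (DCoh.HD ((fm (pullback.fst A.hom At.hom) (pullback.snd A.hom At.hom)
      (DCoh.inD (pullback A.hom At.hom) P)).obj F) j)) (g - j))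
    (α : 𝟙_ (Over (Spec (CommRingCat.of k))) ⟶ At) (i : ℤ) (hi : 1 ≤ i)
    [DCoh.HasLTensorMod (Pα P α)] [DCoh.HasLTensorMod H] :
    Van ((DCoh.LTensorMod (Pα P α)).obj ((DCoh.LTensorMod H).obj F)) i := by
  have hln : IsLocallyNoetherian A.left := LocallyOfFiniteType.isLocallyNoetherian A.hom
  have hcA : CompactSpace A.left := QuasiCompact.compactSpace_of_compactSpace A.hom
  have hnA : IsNoetherian A.left := {}
  have hln' : IsLocallyNoetherian At.left := LocallyOfFiniteType.isLocallyNoetherian At.hom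
  have hn' : IsNoetherian At.left := {}
  have hreg : ∀ x : A.left, IsRegularLocalRing (A.left.presheaf.stalk x) := fun x => by
    let _ : A.left.Over (Spec (CommRingCat.of k)) := ⟨A.hom⟩
    have : Smooth (A.left ↘ Spec (CommRingCat.of k)) := ‹Smooth A.hom›
    exact S1535.result k A.left x
  have hFq : qc A.left F := fun j => ((S1006.result _ F hF).1 j).1
  let σ : A.left ⟶ A.left := ((𝟙 A)⁻¹).left
  have hσ : σ ≫ σ = 𝟙 _ := SigIT.inv_comp_inv A
  have hPa := isInvertible_Pα hP α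
  let Ha : A.left.Modules := CohB1.tensorMod H (Pα P α)
  have hHa : Coh.IsCoh Ha := Ega3B.CohTensor.isCoh_tensor hH hPa
  have hM : Coh.IsCoh ((Scheme.Modules.pullback σ).obj Ha) := FormalA.PullbackQC.isCoh_pullback σ Ha hHa
  have hMq : qc A.left (DCoh.inD A.left ((Scheme.Modules.pullback σ).obj Ha)) := PerfB.StructFlat.isQCohD_inD hM.1
  have hVan := FMVB.exists_vb hP (isPerfect_inD hreg hM) hM.1 (SigIT.main hφ hP hPξ hH hH0 α)
  have hPh := FMVB.isPerfect_fm hP hF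
  have hinv' := hinv _ hMq
  refine van_of_tensor hPa ?_
  have hPq := FMInv.qc_inD hP
  obtain ⟨V, hV, ⟨eV⟩⟩ := hVan
  obtain ⟨e1⟩ := hinv'
  obtain ⟨e2⟩ := lpull_inv σ hσ Ha
  have hVq := qc_rpush (pullback.snd A.hom At.hom) _
    (qc_tensor _ _ (qc_lpull (pullback.fst A.hom At.hom) _ hMq) hPq)
  refine core (pullback.fst A.hom At.hom) (pullback.snd A.hom At.hom) hPq g hVq
    (e1 ≪≫ (shiftFunctor _ (-(g : ℤ))).mapIso e2) hFq (fun m hm => ?_) i hi
  exact van_tensor g hg hPh hs hV eV m hm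

end K517.FMVan
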