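import Mathlib.RingTheory.Localization.Algebra
import Mathlib.RingTheory.Localization.FractionRing
import Mathlib.RingTheory.Localization.LocalizationLocalization
import Mathlib.Algebra.MvPolynomial.Equiv
import Mathlib.RingTheory.MvPolynomial.Basic

/-!
# Fraction fields of polynomial rings in several variables, one variable at a time
-/

set_option autoImplicit false
universe u

open Polynomial

namespace K517.FracPoly

/-- If `K` is a fraction field of `F[t_1, ..., t_{n+1}]`, there is a subextension `E` of `K` over `F` which is a
fraction field of `F[t_1, ..., t_n]` and such that `K` is a fraction field of `E[t]`. -/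
theorem exists_tower (F : Type u) [Field F] (n : ℕ) (K : Type u) [Field K] [Algebra F K]
    [Algebra (MvPolynomial (Fin (n + 1)) F) K] [IsScalarTower F (MvPolynomial (Fin (n + 1)) F) K]
    [IsFractionRing (MvPolynomial (Fin (n + 1)) F) K] :
    ∃ (E : Type u) (_ : Field E) (_ : Algebra F E) (_ : Algebra (MvPolynomial (Fin n) F) E)
      (_ : IsScalarTower F (MvPolynomial (Fin n) F) E) (_ : IsFractionRing (MvPolynomial (Fin n) F) E)
      (_ : Algebra E K) (_ : IsScalarTower F E K) (_ : Algebra E[X] K) (_ : IsScalarTower E E[X] K),
      IsFractionRing E[X] K := by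
  let S := MvPolynomial (Fin n) F
  let E := FractionRing S
  let e : MvPolynomial (Fin (n + 1)) F ≃ₐ[F] S[X] := MvPolynomial.finSuccEquiv F n
  let a1 : Algebra S[X] K := ((algebraMap (MvPolynomial (Fin (n + 1)) F) K).comp
    e.symm.toRingEquiv.toRingHom).toAlgebra
  have hfr : IsFractionRing S[X] K := by
    have h := IsLocalization.isLocalization_of_base_ringEquiv
      (nonZeroDivisors (MvPolynomial (Fin (n + 1)) F)) K e.toRingEquiv
    have h2 : Submonoid.map (e.toRingEquiv : MvPolynomial (Fin (n + 1)) F ≃+* S[X])
        (nonZeroDivisors (MvPolynomial (Fin (n + 1)) F)) = nonZeroDivisors S[X] :=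
      MulEquivClass.map_nonZeroDivisors e.toRingEquiv
    have h3 : ((algebraMap (MvPolynomial (Fin (n + 1)) F) K).comp
      e.toRingEquiv.symm.toRingHom).toAlgebra = a1 := rfl
    rw [h2] at h
    exact h
  have hinj : Function.Injective (algebraMap S[X] K) := IsFractionRing.injective S[X] K
  have hinj2 : Function.Injective ((algebraMap S[X] K).comp (C : S →+* S[X])) :=
    hinj.comp C_injective
  let φ : E →+* K := IsFractionRing.lift hinj2
  have hφ : ∀ s : S, φ (algebraMap S E s) = algebraMap S[X] K (C s) := fun s =>
    IsFractionRing.lift_algebraMap hinj2 s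
  let a2 : Algebra E K := φ.toAlgebra
  let t : K := algebraMap S[X] K X
  let a3 : Algebra E[X] K := (eval₂RingHom φ t).toAlgebra
  have hEX : ∀ p : E[X], algebraMap E[X] K p = eval₂ φ t p := fun p => rfl
  let a4 : Algebra S[X] E[X] := Polynomial.algebra S E
  have h4 : ∀ p : S[X], algebraMap S[X] E[X] p = p.map (algebraMap S E) := fun p => rfl
  have htower : IsScalarTower S[X] E[X] K := by
    refine IsScalarTower.of_algebraMap_eq' ?_
    refine Polynomial.ringHom_ext (fun s => ?_) ?_
    · rw [RingHom.comp_apply, h4, hEX, map_C, eval₂_C, hφ]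
    · rw [RingHom.comp_apply, h4, hEX, map_X, eval₂_X]
  have hloc : IsLocalization ((nonZeroDivisors S).map (C : S →+* S[X])) E[X] :=
    Polynomial.isLocalization (nonZeroDivisors S) E
  have hres : IsFractionRing E[X] K :=
    IsFractionRing.isFractionRing_of_isDomain_of_isLocalization
      ((nonZeroDivisors S).map (C : S →+* S[X])) E[X] K
  have hF : IsScalarTower F E K := by
    refine IsScalarTower.of_algebraMap_eq' ?_
    ext r
    have h5 : algebraMap F E r = algebraMap S E (algebraMap F S r) :=
      IsScalarTower.algebraMap_apply F S E r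
    have h6 : algebraMap E K (algebraMap F E r) = algebraMap S[X] K (C (algebraMap F S r)) := by
      rw [h5]
      exact hφ _
    rw [RingHom.comp_apply, h6, IsScalarTower.algebraMap_apply F (MvPolynomial (Fin (n + 1)) F) K]
    change _ = algebraMap (MvPolynomial (Fin (n + 1)) F) K (e.symm (C (algebraMap F S r)))
    congr 1
    rw [AlgEquiv.eq_symm_apply]
    exact (e.commutes r).trans rfl
  have hE : IsScalarTower E E[X] K := by
    refine IsScalarTower.of_algebraMap_eq' ?_
    ext r
    rw [RingHom.comp_apply, hEX, Polynomial.algebraMap_eq, eval₂_C]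
    rfl
  exact ⟨E, inferInstance, inferInstance, inferInstance, inferInstance, inferInstance, a2, hF, a3, hE, hres⟩

end K517.FracPoly
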