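import Groth.Agent.AbVar.K517.FMVan
import Groth.Agent.AbVar.K517.DimClos
import Groth.Agent.AbVar.K517.DimDual

/-!
# Preservation of vanishing on abelian varieties, from the inversion theorem
-/

set_option autoImplicit false

universe u

open CategoryTheory CategoryTheory.Limits MonoidalCategory CartesianMonoidalCategory MonObj GrpObj AlgebraicGeometry

attribute [local instance] HasDerivedCategory.standard

open scoped Groth.Agent.Dcoh.MonCat Groth.Agent.Dcoh.ModD

namespace K517.GVRow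

open Groth.Agent K353.OnSub K353.Calc K353.Conv K232 K517.PoincSig K516.HyperH K517.HyperCodim

variable {k : Type u} [Field k]

/-- The statement of the inversion theorem (S14125). -/
def Inversion (A At : Over (Spec (CommRingCat.of k))) [GrpObj A] (P : (pullback A.hom At.hom).Modules) (g : ℕ) :
    Prop :=
  ∀ [DCoh.HasLpull (pullback.fst A.hom At.hom)] [DCoh.HasLTensorMod P] [DCoh.HasRpush (pullback.snd A.hom At.hom)]
    [DCoh.HasLpull (pullback.fst At.hom A.hom)]
    [DCoh.HasLTensorMod ((Scheme.Modules.pullback (pullbackSymmetry At.hom A.hom).hom).obj P)]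
    [DCoh.HasRpush (pullback.snd At.hom A.hom)] [DCoh.HasLpull ((𝟙 A)⁻¹).left],
    Nonempty (ObjectProperty.ι (DCoh.IsQCohD (X := A.left)) ⋙ (DCoh.Lpull (pullback.fst A.hom At.hom) ⋙ DCoh.LTensorMod P ⋙ DCoh.Rpush (pullback.snd A.hom At.hom)) ⋙
        (DCoh.Lpull (pullback.fst At.hom A.hom) ⋙
          DCoh.LTensorMod ((Scheme.Modules.pullback (pullbackSymmetry At.hom A.hom).hom).obj P) ⋙
          DCoh.Rpush (pullback.snd At.hom A.hom)) ≅
      ObjectProperty.ι (DCoh.IsQCohD (X := A.left)) ⋙ DCoh.Lpull ((𝟙 A)⁻¹).left ⋙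
        shiftFunctor (DCoh.D A.left) (-(g : ℤ)))

section inv

variable {A At : Over (Spec (CommRingCat.of k))} [GrpObj A] [QuasiCompact A.hom] [QuasiSeparated A.hom]
  {P : (pullback A.hom At.hom).Modules} (hP : PicF.IsInvertible P)
  [DCoh.HasLpull (pullback.fst A.hom At.hom)] [DCoh.HasRpush (pullback.snd A.hom At.hom)]
  [DCoh.HasLpull (pullback.snd A.hom At.hom)] [DCoh.HasRpush (pullback.fst A.hom At.hom)]
  [DCoh.HasLpull ((𝟙 A)⁻¹).left] [DCoh.HasLTensorMod P]

include hP in
theorem inversion {g : ℕ} (h : Inversion A At P g) (K : DCoh.D A.left) (hK : qc A.left K) :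
    Nonempty
      ((fm (pullback.snd A.hom At.hom) (pullback.fst A.hom At.hom) (DCoh.inD (pullback A.hom At.hom) P)).obj
        ((fm (pullback.fst A.hom At.hom) (pullback.snd A.hom At.hom) (DCoh.inD (pullback A.hom At.hom) P)).obj K) ≅
        ((DCoh.Lpull ((𝟙 A)⁻¹).left).obj K)⟦-(g : ℤ)⟧) := by
  have h1 := hasLpull (pullback.fst At.hom A.hom)
  have h2 := hasRpush (pullback.snd At.hom A.hom)
  have h3 := Dcoh.LTMod.hasLTensorMod ((Scheme.Modules.pullback (pullbackSymmetry At.hom A.hom).hom).obj P)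
  exact FMSwap.inv_of (p := pullback.fst A.hom At.hom) (q := pullback.snd A.hom At.hom)
    (p' := pullback.fst At.hom A.hom) (q' := pullback.snd At.hom A.hom)
    (pullbackSymmetry At.hom A.hom).hom (pullbackSymmetry At.hom A.hom).inv
    (pullbackSymmetry At.hom A.hom).hom_inv_id (pullbackSymmetry At.hom A.hom).inv_hom_id
    (pullbackSymmetry_hom_comp_snd _ _) (pullbackSymmetry_hom_comp_fst _ _) hP
    (DCoh.Lpull ((𝟙 A)⁻¹).left ⋙ shiftFunctor (DCoh.D A.left) (-(g : ℤ))) h hK

end inv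

variable [IsAlgClosed k] {A At : Over (Spec (CommRingCat.of k))} [GrpObj A] [GrpObj At]
  [IsProper A.hom] [Smooth A.hom] [GeometricallyConnected A.hom]
  [IsProper At.hom] [Smooth At.hom] [GeometricallyConnected At.hom]
  {φ : ∀ T : Over (Spec (CommRingCat.of k)), PicF.Cl (PicF.XT A.hom T) → (T ⟶ At)}
  (hφ : AbDual.IsDualAV Scheme.fppfPrecoverage A At φ)
  {P : (pullback A.hom At.hom).Modules} (hP : PicF.IsInvertible P)
  (hPξ : AbDual.IsPoincareCl A At φ (PicF.cl P))
  (hinv : ∀ g : ℕ, topologicalKrullDim A.left = g → Inversion A At P g)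

include hφ hP hPξ hinv in
/-- Preservation of vanishing. -/
theorem main (g : ℕ) (hg : topologicalKrullDim A.left = g)
    [DCoh.HasLpull (pullback.fst A.hom At.hom)] [DCoh.HasRpush (pullback.snd A.hom At.hom)]
    {H : A.left.Modules} (hH : Coh.IsCoh H)
    (hH0 : ∀ (α : 𝟙_ (Over (Spec (CommRingCat.of k))) ⟶ At) (i : ℕ), 1 ≤ i →
      Subsingleton (Coh.HH A.left (CohB1.tensorMod H (Pα P α)) i))
    {F : DCoh.D A.left} (hF : DCoh.IsPerfect F)
    (hs : ∀ j : ℤ, Small (CohB1.support (DCoh.HD ((fm (pullback.fst A.hom At.hom) (pullback.snd A.hom At.hom)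
      (DCoh.inD (pullback A.hom At.hom) P)).obj F) j)) (g - j))
    (α : 𝟙_ (Over (Spec (CommRingCat.of k))) ⟶ At) (i : ℤ) (hi : 1 ≤ i)
    [DCoh.HasLTensorMod (Pα P α)] [DCoh.HasLTensorMod H] :
    Van ((DCoh.LTensorMod (Pα P α)).obj ((DCoh.LTensorMod H).obj F)) i := by
  have g1 := K732.AV.geomInt A
  have h1 := hasLpull (pullback.snd A.hom At.hom)
  have h2 := hasRpush (pullback.fst A.hom At.hom)
  have h3 := hasLpull ((𝟙 A)⁻¹).left
  have h4 := Dcoh.LTMod.hasLTensorMod P
  have hc : CompactSpace At.left := QuasiCompact.compactSpace_of_compactSpace At.hom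
  exact FMVan.main hφ hP hPξ g ((DimDual.dim_le hφ).trans hg.le)
    (fun K hK => inversion hP (hinv g hg) K hK) hH hH0 hF hs α i hi

omit [IsAlgClosed k] [IsProper A.hom] [Smooth A.hom] [GeometricallyConnected A.hom] [GrpObj At]
  [IsProper At.hom] [Smooth At.hom] [GeometricallyConnected At.hom] [GrpObj A] in
include hP in
/-- The Fourier–Mukai functor of the statements. -/
theorem nonempty_fm [DCoh.HasLpull (pullback.fst A.hom At.hom)] [DCoh.HasLTensorMod P]
    [DCoh.HasRpush (pullback.snd A.hom At.hom)] (F : DCoh.D A.left) (j : ℤ) :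
    Nonempty (DCoh.HD ((DCoh.Lpull (pullback.fst A.hom At.hom) ⋙ DCoh.LTensorMod P ⋙
      DCoh.Rpush (pullback.snd A.hom At.hom)).obj F) j ≅
      DCoh.HD ((fm (pullback.fst A.hom At.hom) (pullback.snd A.hom At.hom)
        (DCoh.inD (pullback A.hom At.hom) P)).obj F) j) := by
  obtain ⟨a⟩ := FMInv.fm_mod (pullback.fst A.hom At.hom) (pullback.snd A.hom At.hom) hP
  exact ⟨(DerivedCategory.homologyFunctor _ j).mapIso (a.app F)⟩

theorem isPerfect_of_coh {F : DCoh.D A.left} (hF : DCoh.IsCohD F) (m n : ℤ) (hm : DerivedCategory.IsGE F m)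
    (hn : DerivedCategory.IsLE F n) : DCoh.IsPerfect F := by
  have hln : IsLocallyNoetherian A.left := LocallyOfFiniteType.isLocallyNoetherian A.hom
  have hreg : ∀ x : A.left, IsRegularLocalRing (A.left.presheaf.stalk x) := fun x => by
    let _ : A.left.Over (Spec (CommRingCat.of k)) := ⟨A.hom⟩
    have : Smooth (A.left ↘ Spec (CommRingCat.of k)) := ‹Smooth A.hom›
    exact S1535.result k A.left x
  exact S1005.result A.left hreg F m n hF

include hφ hP hPξ hinv in
/-- The row S16385. -/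
theorem row16385 [DCoh.HasLpull (pullback.fst A.hom At.hom)] [DCoh.HasLTensorMod P]
    [DCoh.HasRpush (pullback.snd A.hom At.hom)]
    (H : A.left.Modules) (hH : Coh.IsCoh H)
    (hH0 : ∀ (α : 𝟙_ (Over (Spec (CommRingCat.of k))) ⟶ At) (i : ℕ), 1 ≤ i →
      Subsingleton (Coh.HH A.left (CohB1.tensorMod H (Pα P α)) i))
    (F : DCoh.D A.left) (hF : DCoh.IsCohD F) (m n : ℤ) (hFm : DerivedCategory.IsGE F m) (hFn : DerivedCategory.IsLE F n)
    (hcodim : ∀ (i : ℕ) (y : ↥At.left), y ∈ CohB1.support (DCoh.HD ((DCoh.Lpull (pullback.fst A.hom At.hom) ⋙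
      DCoh.LTensorMod P ⋙ DCoh.Rpush (pullback.snd A.hom At.hom)).obj F) (i : ℤ)) →
      (i : WithBot ℕ∞) ≤ ringKrullDim ↑(At.left.presheaf.stalk y))
    (α : 𝟙_ (Over (Spec (CommRingCat.of k))) ⟶ At) (i : ℤ) (hi : 1 ≤ i)
    [DCoh.HasLTensorMod (Pα P α)] [DCoh.HasLTensorMod H] :
    Van ((DCoh.LTensorMod (Pα P α)).obj ((DCoh.LTensorMod H).obj F)) i := by
  obtain ⟨g, hg⟩ := Img.exists_dim A
  have hFp := isPerfect_of_coh hF m n hFm hFn
  have g2 := K732.AV.geomInt At
  have hint : IsIntegral At.left := GeometricallyIntegral.isIntegral_of_subsingleton At.hom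
  have hln' : IsLocallyNoetherian At.left := LocallyOfFiniteType.isLocallyNoetherian At.hom
  have hc : CompactSpace At.left := QuasiCompact.compactSpace_of_compactSpace At.hom
  have hn' : IsNoetherian At.left := {}
  refine main hφ hP hPξ hinv g hg hH hH0 hFp (fun j => ?_) α i hi
  refine DimClos.small_of_codim At.hom ((DimDual.dim_le hφ).trans hg.le)
    (FibVB.isClosed_support (FMVB.isPerfect_fm hP hFp) j) j fun i hi y hy => ?_
  subst hi
  obtain ⟨e⟩ := nonempty_fm (A := A) hP F (i : ℤ)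
  refine hcodim i y ?_
  rwa [CohqB.DevSupport.support_congr e]

include hφ hP hPξ hinv in
/-- The row S15395. -/
theorem row15395 (E : A.left.Modules) (hE : Coh.IsCoh E)
    (hE0 : ∀ (α : 𝟙_ (Over (Spec (CommRingCat.of k))) ⟶ At) (i : ℕ), 1 ≤ i →
      Subsingleton (Coh.HH A.left (CohB1.tensorMod E (Pα P α)) i))
    (F : DCoh.D A.left) (hF : DCoh.IsCohD F) (m n : ℤ) (hFm : DerivedCategory.IsGE F m) (hFn : DerivedCategory.IsLE F n)
    [DCoh.HasLTensorMod E] [∀ α : 𝟙_ (Over (Spec (CommRingCat.of k))) ⟶ At, DCoh.HasLTensorMod (Pα P α)]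
    [DCoh.HasRΓ A.left]
    (hGV : ∀ i : ℕ, topologicalKrullDim ↥(closure {y : ↥At.left | ∃ α : 𝟙_ (Over (Spec (CommRingCat.of k))) ⟶ At,
      (∃ p : ↥(𝟙_ (Over (Spec (CommRingCat.of k)))).left, α.left p = y) ∧
      ¬ IsZero ((DerivedCategory.homologyFunctor AddCommGrpCat.{u} (i : ℤ)).obj ((DCoh.RΓ A.left).obj
        ((DCoh.LTensorMod (Pα P α)).obj F)))}) + (i : WithBot ℕ∞) ≤ topologicalKrullDim ↥At.left)
    (α : 𝟙_ (Over (Spec (CommRingCat.of k))) ⟶ At) (i : ℤ) (hi : 1 ≤ i) :
    Van ((DCoh.LTensorMod (Pα P α)).obj ((DCoh.LTensorMod E).obj F)) i := by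
  obtain ⟨g, hg⟩ := Img.exists_dim A
  have hFp := isPerfect_of_coh hF m n hFm hFn
  have g2 := K732.AV.geomInt At
  have hint : IsIntegral At.left := GeometricallyIntegral.isIntegral_of_subsingleton At.hom
  have hln : IsLocallyNoetherian A.left := LocallyOfFiniteType.isLocallyNoetherian A.hom
  have hcA : CompactSpace A.left := QuasiCompact.compactSpace_of_compactSpace A.hom
  have hnA : IsNoetherian A.left := {}
  have hln' : IsLocallyNoetherian At.left := LocallyOfFiniteType.isLocallyNoetherian At.hom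
  have hc : CompactSpace At.left := QuasiCompact.compactSpace_of_compactSpace At.hom
  have hn' : IsNoetherian At.left := {}
  have hJ : JacobsonSpace At.left := LocallyOfFiniteType.jacobsonSpace At.hom
  have h1 := hasLpull (pullback.fst A.hom At.hom)
  have h2 := hasRpush (pullback.snd A.hom At.hom)
  have hFq : qc A.left F := fun j => (hF j).1
  have hPh := FMVB.isPerfect_fm hP hFp
  have hd : topologicalKrullDim At.left ≤ g := (DimDual.dim_le hφ).trans hg.le
  refine main hφ hP hPξ hinv g hg hE hE0 hFp (fun j => ?_) α i hi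
  rcases lt_or_ge j 0 with hj | hj
  · exact DimClos.small_of_codim At.hom hd (FibVB.isClosed_support hPh j) j fun i hi => by lia
  · lift j to ℕ using hj
    refine DimClos.small_of_dim hd isClosed_closure ?_ j (hGV j)
    refine FibVB.support_subset hPh j _ (fun y hy hyz => ?_) fun Z hZ => ?_
    · obtain ⟨β, rfl⟩ := K512.Pts.exists_pt y hy
      refine ⟨β, ⟨_, rfl⟩, ?_⟩
      rw [isZero_RΓ_iff]
      exact fun hv => hyz ((FMVB.fib_iff hP hFq β j).2 hv)
    · have h3 := JacobsonSpace.closure_inter_closedPoints_eq_closure hZ.isLocallyClosed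
      rw [hZ.closure_eq] at h3
      exact h3.symm.subset

end K517.GVRow
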