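import Groth.Agent.Sga67.LocBasis
import Groth.Agent.Fdesc.Skyscraper
import Groth.Agent.CurvesC.GGSec

/-!
# Generic generation by global sections

If the restriction to `U` of `∐ O_X ⟶ E` is an epimorphism then near every point of `U` the module `E` is generated by
the given global sections.
-/

set_option autoImplicit false
universe u
open CategoryTheory CategoryTheory.Limits AlgebraicGeometry TopologicalSpace Opposite

namespace K517.GermGen

open Groth.Agent.Sga67.Sec Groth.Agent.Sga67.LocBasis Groth.Agent.Fdesc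
open Groth.Agent.CurvesC.GGSec Groth.Agent.CohqB.QC2 Groth.Agent.CycB.ModStalk

variable {X : Scheme.{u}} {E : X.Modules}

/-- The global section of `E` attached to `O_X ⟶ E`. -/
noncomputable def gsec (f : Coh.structureModule X ⟶ E) : Γ(E, ⊤) := appS f ⊤ (one X ⊤)

theorem app_eq (f : Coh.structureModule X ⟶ E) (V : X.Opens) (a : Groth.Agent.Sga67.Sec.Sec (Coh.structureModule X) V) :
    appS f V a = toO a • Groth.Agent.Sga67.Sec.res E (le_top : V ≤ ⊤) (gsec f) := by
  conv_lhs => rw [← toO_smul_one a]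
  rw [map_smul, gsec, ← appS_res, res_one]

theorem span_germ {J : Type u} (s : J → (Coh.structureModule X ⟶ E)) (U : X.Opens)
    (hU : Epi ((Scheme.Modules.restrictFunctor U.ι).map (Sigma.desc s))) {x : X} (hx : x ∈ U) :
    Submodule.span (X.presheaf.stalk x) (Set.range fun j => E.presheaf.germ ⊤ x trivial (gsec (s j))) = ⊤ := by
  set S := Submodule.span (X.presheaf.stalk x)
      (Set.range fun j => E.presheaf.germ ⊤ x trivial (gsec (s j))) with hS
  let φ : E ⟶ Skyscraper.sky x (E.presheaf.stalk x ⧸ S) := Skyscraper.toSky S.mkQ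
  have h1 : ∀ j, s j ≫ φ = 0 := by
    intro j
    apply hom_ext
    intro V a
    rw [appS_comp, app_eq]
    refine funext fun h => ?_
    refine (Skyscraper.toSky_app_apply S.mkQ V _ h).trans ?_
    rw [Submodule.mkQ_apply, (Submodule.Quotient.mk_eq_zero S).mpr]
    · rfl
    · have h2 : E.presheaf.germ V x h.down (toO a • Groth.Agent.Sga67.Sec.res E (le_top : V ≤ ⊤) (gsec (s j))) =
          X.presheaf.germ V x h.down (toO a) • E.presheaf.germ ⊤ x trivial (gsec (s j)) := by
        refine (Skyscraper.germ_smul E x V h.down (toO a) _).trans ?_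
        congr 1
        exact TopCat.Presheaf.germ_res_apply E.presheaf (homOfLE le_top) x h.down _
      rw [h2]
      exact Submodule.smul_mem _ _ (Submodule.subset_span ⟨j, rfl⟩)
  have h2 : Sigma.desc s ≫ φ = 0 := by
    apply Sigma.hom_ext
    intro j
    rw [Sigma.ι_desc_assoc, h1, comp_zero]
  have h3 : (Scheme.Modules.restrictFunctor U.ι).map φ = 0 := by
    rw [← cancel_epi ((Scheme.Modules.restrictFunctor U.ι).map (Sigma.desc s)), ← Functor.map_comp, h2,
      Functor.map_zero, comp_zero]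
  have h4 : ∀ (V : (U : Scheme.{u}).Opens) (e : Γ(E, U.ι ''ᵁ V)), φ.app (U.ι ''ᵁ V) e = 0 := by
    intro V e
    have := congrArg (fun ψ => (Scheme.Modules.Hom.app ψ V) e) h3
    exact this
  have h5 : S.mkQ = 0 := by
    ext t
    obtain ⟨V, hV, e, rfl⟩ := TopCat.Presheaf.exists_germ_eq E.presheaf t
    have hle : U.ι ''ᵁ (U.ι ⁻¹ᵁ V) ≤ V := by
      rw [Scheme.Hom.image_preimage_eq_opensRange_inf]
      exact inf_le_right
    have hxV : x ∈ U.ι ''ᵁ (U.ι ⁻¹ᵁ V) := by
      rw [Scheme.Hom.image_preimage_eq_opensRange_inf, Scheme.Opens.opensRange_ι]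
      exact ⟨hx, hV⟩
    have h6 := congrFun (h4 (U.ι ⁻¹ᵁ V) (Groth.Agent.Sga67.Sec.res E hle e)) ⟨hxV⟩
    have h7 : E.presheaf.germ _ x hxV (Groth.Agent.Sga67.Sec.res E hle e) = E.presheaf.germ V x hV e :=
      TopCat.Presheaf.germ_res_apply E.presheaf (homOfLE hle) x hxV e
    rw [← h7]
    exact h6
  exact (Submodule.ker_mkQ S).symm.trans (by rw [h5, LinearMap.ker_zero])

/-- Near a point where `E` has a local basis and is generated by global sections, `E` is free and generated by these
sections over an affine neighbourhood. -/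
theorem exists_affine_span {r : ℕ} {V₀ : X.Opens} (b : Fin r → Groth.Agent.Sga67.Sec.Sec E V₀) (hb : IsLocBasis b)
    {x : X} (hx : x ∈ V₀) {ι : Type u} (e : ι → Γ(E, ⊤))
    (h : Submodule.span (X.presheaf.stalk x) (Set.range fun i => E.presheaf.germ ⊤ x trivial (e i)) = ⊤) :
    ∃ (V : X.Opens) (hV : V ≤ V₀), x ∈ V ∧ IsAffineOpen V ∧
      Submodule.span Γ(X, V) (Set.range fun i => Groth.Agent.Sga67.Sec.res E (le_top : V ≤ ⊤) (e i)) = ⊤ := by
  classical
  have h1 : ∀ T : Finset (Fin r), ∃ (W : X.Opens) (hW : W ≤ V₀), x ∈ W ∧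
      ∀ i ∈ T, Groth.Agent.Sga67.Sec.res E hW (b i) ∈
        Submodule.span Γ(X, W) (Set.range fun i => Groth.Agent.Sga67.Sec.res E (le_top : W ≤ ⊤) (e i)) := by
    intro T
    induction T using Finset.induction_on with
    | empty => exact ⟨V₀, le_rfl, hx, by simp⟩
    | insert j T hj ih =>
      obtain ⟨W, hW, hxW, hT⟩ := ih
      obtain ⟨V, hxV, u, hu, hux⟩ := exists_of_mem_span_germ (M := E) (e := e) (E.presheaf.germ V₀ x hx (b j))
        (by rw [h]; trivial)
      obtain ⟨W', hxW', i1, i2, hW'⟩ := TopCat.Presheaf.germ_eq E.presheaf x hxV hx _ _ hux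
      have hu' : Groth.Agent.Sga67.Sec.res E i2.le (b j) ∈
          Submodule.span Γ(X, W') (Set.range fun i => Groth.Agent.Sga67.Sec.res E (le_top : W' ≤ ⊤) (e i)) := by
        have := res_mem_spanOn i1.le hu
        have h3 : Groth.Agent.CohqB.QC2.res E i1.le u = Groth.Agent.Sga67.Sec.res E i2.le (b j) := hW'
        rw [← h3]
        exact this
      refine ⟨W ⊓ W', inf_le_left.trans hW, ⟨hxW, hxW'⟩, ?_⟩
      intro i hi
      rcases Finset.mem_insert.1 hi with rfl | hi
      · have := res_mem_spanOn (M := E) (e := e) (inf_le_right : W ⊓ W' ≤ W') hu'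
        have h3 : Groth.Agent.CohqB.QC2.res E (inf_le_right : W ⊓ W' ≤ W')
            (Groth.Agent.Sga67.Sec.res E i2.le (b i)) =
              Groth.Agent.Sga67.Sec.res E (inf_le_left.trans hW : W ⊓ W' ≤ V₀) (b i) :=
          Groth.Agent.Sga67.Sec.res_res E _ _ _
        rw [← h3]
        exact this
      · have := res_mem_spanOn (M := E) (e := e) (inf_le_left : W ⊓ W' ≤ W) (hT i hi)
        have h3 : Groth.Agent.CohqB.QC2.res E (inf_le_left : W ⊓ W' ≤ W)
            (Groth.Agent.Sga67.Sec.res E hW (b i)) =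
              Groth.Agent.Sga67.Sec.res E (inf_le_left.trans hW : W ⊓ W' ≤ V₀) (b i) :=
          Groth.Agent.Sga67.Sec.res_res E _ _ _
        rw [← h3]
        exact this
  obtain ⟨W, hW, hxW, hT⟩ := h1 Finset.univ
  obtain ⟨_, ⟨V, hVa, rfl⟩, hxV, hVW⟩ := X.isBasis_affineOpens.exists_subset_of_mem_open hxW W.2
  refine ⟨V, le_trans hVW hW, hxV, hVa, ?_⟩
  have h2 : ∀ i, Groth.Agent.Sga67.Sec.res E (le_trans hVW hW) (b i) ∈
      Submodule.span Γ(X, V) (Set.range fun i => Groth.Agent.Sga67.Sec.res E (le_top : V ≤ ⊤) (e i)) := by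
    intro i
    have := res_mem_spanOn (M := E) (e := e) (show V ≤ W from hVW) (hT i (Finset.mem_univ i))
    have h3 : Groth.Agent.CohqB.QC2.res E (show V ≤ W from hVW) (Groth.Agent.Sga67.Sec.res E hW (b i)) =
        Groth.Agent.Sga67.Sec.res E (le_trans hVW hW) (b i) :=
      Groth.Agent.Sga67.Sec.res_res E _ _ _
    rw [← h3]
    exact this
  rw [eq_top_iff, ← (hb.basis (le_trans hVW hW)).span_eq, Submodule.span_le]
  rintro _ ⟨i, rfl⟩
  rw [hb.basis_apply]
  exact h2 i

end K517.GermGen
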