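import Groth.Agent.S5965
import Groth.Agent.S8163
import Groth.Agent.Sga5.H844.FinLen

/-!
# The dimension of the infinitesimal neighbourhoods of a rational point

`k` algebraically closed, `x` a rational point of `X` at which the local ring is regular of dimension `g`:
`dim_k Γ(infNbhd x n, O) = C(n + g, g)`.
-/

set_option autoImplicit false

universe u

open CategoryTheory CategoryTheory.Limits AlgebraicGeometry Opposite TopologicalSpace IsLocalRing
open PrinPart

namespace K517.InfDim

open Groth.Agent Groth.Agent.Divis.CartierBasic Groth.Agent.Divis.CartierStalk Groth.Agent.Dix.InterNum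
open Groth.Agent.Sga5.H844.FinLen

variable {k : Type u} [Field k] {X : Scheme.{u}} (a : X ⟶ Spec (CommRingCat.of k))
  (x : Spec (CommRingCat.of k) ⟶ X) [IsClosedImmersion x] (hx : x ≫ a = 𝟙 _) (n : ℕ)

/-- the point of `Spec k` -/
noncomputable def pt (k : Type u) [Field k] : Spec (CommRingCat.of k) := (⊥ : PrimeSpectrum k)

theorem eq_pt (y : Spec (CommRingCat.of k)) : y = pt k := Subsingleton.elim (α := PrimeSpectrum k) _ _

theorem stalkIdeal_ker : stalkIdeal x.ker (x (pt k)) = maximalIdeal (X.presheaf.stalk (x (pt k))) := by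
  rw [← ker_stalkMap]
  have h1 : Function.Surjective (x.stalkMap (pt k)).hom := x.stalkMap_surjective (pt k)
  have h2 : IsField ((Spec (CommRingCat.of k)).presheaf.stalk (pt k)) := by
    rw [← eq_pt (genericPoint (Spec (CommRingCat.of k)))]
    exact Field.toIsField (Spec (CommRingCat.of k)).functionField
  let _ := h2.toField
  exact IsLocalRing.eq_maximalIdeal (RingHom.ker_isMaximal_of_surjective _ h1)

theorem subsingleton_infNbhd : Subsingleton (infNbhd x n) := by
  have h := toInfNbhd_surjective x n
  refine ⟨fun y z => ?_⟩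
  obtain ⟨y, rfl⟩ := h y
  obtain ⟨z, rfl⟩ := h z
  rw [eq_pt y, eq_pt z]

include hx in
theorem h0_eq [IsAlgClosed k] [LocallyOfFiniteType a] [IsRegularLocalRing (X.presheaf.stalk (x (pt k)))] (g : ℕ)
    (hg : ringKrullDim (X.presheaf.stalk (x (pt k))) = g) :
    h0 (infNbhdι x n ≫ a) = (n + g).choose g := by
  have h1 : IsFinite (infNbhdι x n ≫ a) := S5965.result a x hx n
  have h2 := subsingleton_infNbhd x n
  let z : infNbhd x n := toInfNbhd x n (pt k)
  rw [h0_eq_finsum]
  have h3 : ∀ y : infNbhd x n, y = z := fun y => Subsingleton.elim _ _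
  rw [finsum_eq_single _ z (fun y hy => absurd (h3 y) hy)]
  have h4 := length_stalk_quotient (x.ker ^ (n + 1)) z
  rw [← h4]
  have h5 : (x.ker ^ (n + 1)).subschemeι z = x (pt k) := by
    change infNbhdι x n (toInfNbhd x n (pt k)) = _
    rw [← Scheme.Hom.comp_apply, toInfNbhd_ι]
  rw [h5, stalkIdeal_pow, stalkIdeal_ker, S8163.result _ g hg (n + 1) (by omega)]
  simp [Nat.add_right_comm]

end K517.InfDim
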