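import Groth.Agent.Sga67.ExtSheaf
import Groth.Agent.AbVar.K517.CramerAlg

/-!
# Global wedge products and Cramer's relation

For `D = Λ^r E` and global sections `t_1, …, t_r` of `E` we construct the global section `t_1 ∧ … ∧ t_r` of `D`
(`exists_wedge`), and prove for `E` locally free of rank `r` the relation
`∑ (-1)^i s_i ⊗ (s_0 ∧ … ŝ_i … ∧ s_r) = 0` in the sheaf `E ⊗ D` (`tau_cramer`).
-/

set_option autoImplicit false
universe u
open CategoryTheory CategoryTheory.Limits AlgebraicGeometry TopologicalSpace Opposite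
open scoped TensorProduct

namespace K517.WedgeSec

open Groth.Agent.Sga67.Sec Groth.Agent.Sga67.LocBasis Groth.Agent.Sga67.ExtSheaf

variable {X : Scheme.{u}} {E D : X.Modules} {r : ℕ}

/-- `a ↦ a • m`. -/
noncomputable def scal (M : X.Modules) (V : X.Opens) (m : Sec M V) :
    Sec (Coh.structureModule X) V →ₗ[Γ(X, V)] Sec M V where
  toFun a := toO a • m
  map_add' a b := by rw [toO_add, add_smul]
  map_smul' r a := by rw [toO_smul, mul_smul, RingHom.id_apply]

theorem scal_apply (M : X.Modules) (V : X.Opens) (m : Sec M V) (a : Sec (Coh.structureModule X) V) :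
    scal M V m a = toO a • m := rfl

/-- A family of sections over the affine opens, compatible with restrictions, comes from a global section. -/
theorem exists_global (M : X.Modules) (m : ∀ V : X.affineOpens, Sec M V.1)
    (hm : ∀ (U V : X.affineOpens) (h : V.1 ≤ U.1), res M h (m U) = m V) :
    ∃ w : Sec M ⊤, ∀ V : X.affineOpens, res M (le_top : V.1 ≤ ⊤) w = m V := by
  obtain ⟨f, hf⟩ := exists_hom_of_basis' (affineBasis X) (Coh.structureModule X) M
    (fun V => scal M V.1 (m V))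
    (by
      intro U V h a
      rw [scal_apply, scal_apply, res_smul, toO_res, hm U V h])
  refine ⟨appS f ⊤ (one X ⊤), fun V => ?_⟩
  rw [← appS_res, res_one]
  refine (hf V _).trans ?_
  rw [scal_apply, toO_one, _root_.one_smul]

/-- The wedge product of `r` global sections. -/
theorem exists_wedge (φ : Phi r E D) (hφ : PhiComp φ) (t : Fin r → Sec E ⊤) :
    ∃ w : Sec D ⊤, ∀ V : X.affineOpens, res D (le_top : V.1 ≤ ⊤) w =
      (φ V).symm (exteriorPower.ιMulti _ r (fun i => res E (le_top : V.1 ≤ ⊤) (t i))) := by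
  refine exists_global D
    (fun V => (φ V).symm (exteriorPower.ιMulti _ r (fun i => res E (le_top : V.1 ≤ ⊤) (t i)))) ?_
  intro U V h
  rw [hφ U V h]
  simp only [res_res]

/-- Cramer's relation. -/
theorem tau_cramer (hE : FlatMod.IsFinLocFreeOfRank r E) (φ : Phi r E D) (s : Fin (r + 1) → Sec E ⊤)
    (w : Fin (r + 1) → Sec D ⊤)
    (hw : ∀ (i : Fin (r + 1)) (V : X.affineOpens), res D (le_top : V.1 ≤ ⊤) (w i) =
      (φ V).symm (exteriorPower.ιMulti _ r (fun j => res E (le_top : V.1 ≤ ⊤) (i.removeNth s j)))) :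
    tau E D ⊤ (∑ i : Fin (r + 1), (-1) ^ (i : ℕ) • (s i ⊗ₜ[Γ(X, ⊤)] w i)) = 0 := by
  apply eq_of_locally
  intro x _
  obtain ⟨U, hxU, hU⟩ := hE x
  obtain ⟨b, hb⟩ := nonempty_restrict_iso_iff.1 hU
  obtain ⟨_, ⟨V, hVa, rfl⟩, hxV, hVU⟩ := X.isBasis_affineOpens.exists_subset_of_mem_open hxU U.2
  refine ⟨V, le_top, hxV, ?_⟩
  rw [map_zero, ← tau_tres]
  have h1 := CramerAlg.cramer (hb.basis (show V ≤ U from hVU)) (fun i => res E (le_top : V ≤ ⊤) (s i))
  have h2 := congrArg (TensorProduct.map (LinearMap.id : Sec E V →ₗ[Γ(X, V)] Sec E V)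
    (φ ⟨V, hVa⟩).symm.toLinearMap) h1
  rw [map_zero, map_sum] at h2
  have h3 : tres E D (le_top : V ≤ ⊤) (∑ i : Fin (r + 1), (-1) ^ (i : ℕ) • (s i ⊗ₜ[Γ(X, ⊤)] w i)) = 0 := by
    rw [map_sum, ← h2]
    refine Finset.sum_congr rfl fun i _ => ?_
    rw [map_zsmul, map_zsmul, tres_tmul, hw i ⟨V, hVa⟩]
    rfl
  rw [h3, map_zero]

end K517.WedgeSec
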