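import Groth.Agent.AbVar.K517.GermGen
import Groth.Agent.AbVar.K517.WedgeSec
import Groth.Agent.CurvesB.HZero

/-!
# Noninjectivity of multiplication of sections with the determinant

`exists_ne_zero`: `E` locally free of rank `r` on a nonempty scheme `X`, generically generated by global sections, with
`Γ(X, O)` a field and `Γ(X, E)` not generated by `r` elements; then `Γ(E) ⊗ Γ(Λ^r E) → Γ(E ⊗ Λ^r E)` has a nonzero kernel.
-/

set_option autoImplicit false
universe u
open CategoryTheory CategoryTheory.Limits AlgebraicGeometry TopologicalSpace Opposite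
open scoped TensorProduct

namespace K517.MulSec

open Groth.Agent.Sga67.Sec Groth.Agent.Sga67.LocBasis Groth.Agent.Sga67.ExtSheaf
open K517.WedgeSec K517.GermGen K517.CramerAlg

variable {X : Scheme.{u}} {E D : X.Modules} {r : ℕ}

theorem exists_ne_zero (hE : FlatMod.IsFinLocFreeOfRank r E) (hD : ExtPow.IsExtPow r E D)
    {J : Type u} (s : J → (Coh.structureModule X ⟶ E)) (U : X.Opens) {x : X} (hx : x ∈ U)
    (hU : Epi ((Scheme.Modules.restrictFunctor U.ι).map (Sigma.desc s)))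
    (hR : IsField Γ(X, ⊤))
    (hlt : ∀ t : Fin r → Sec E ⊤, Submodule.span Γ(X, ⊤) (Set.range t) ≠ ⊤) :
    ∃ z : Sec E ⊤ ⊗[Γ(X, ⊤)] Sec D ⊤, z ≠ 0 ∧ tau E D ⊤ z = 0 := by
  obtain ⟨φ, hφ⟩ := exists_phi hD
  obtain ⟨V₀, hxV₀, hV₀⟩ := hE x
  obtain ⟨b, hb⟩ := nonempty_restrict_iso_iff.1 hV₀
  obtain ⟨V, hVV₀, hxV, hVa, hspan⟩ := exists_affine_span b hb hxV₀ (fun j => gsec (s j)) (span_germ s U hU hx)
  have : Nonempty V := ⟨⟨x, hxV⟩⟩
  obtain ⟨t, ht⟩ := exists_ιMulti_ne_zero (hb.basis hVV₀)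
    (fun j => res E (le_top : V ≤ ⊤) (gsec (s j))) hspan
  obtain ⟨s₀, -, hs₀⟩ := SetLike.exists_of_lt (lt_top_iff_ne_top.2 (hlt fun i => gsec (s (t i))))
  obtain ⟨f, hf0, hf⟩ := exists_form hR _ hs₀
  let σ : Fin (r + 1) → Sec E ⊤ := Fin.cons s₀ (fun i => gsec (s (t i)))
  choose w hw using fun i : Fin (r + 1) => exists_wedge φ hφ (i.removeNth σ)
  refine ⟨_, ?_, tau_cramer hE φ σ w hw⟩
  refine sum_ne_zero σ f hf0 (fun i => hf _ (Submodule.subset_span ⟨i, rfl⟩)) w ?_
  intro h0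
  have h1 := hw 0 ⟨V, hVa⟩
  rw [h0, map_zero] at h1
  have h2 := congrArg (φ ⟨V, hVa⟩) h1
  rw [map_zero, LinearEquiv.apply_symm_apply] at h2
  exact ht h2.symm

section Finrank

variable (k : Type u) [Field k] [X.Over (Spec (CommRingCat.of k))]

theorem finrank_le (hk : Function.Surjective (Groth.Agent.CurvesB.HZero.gl k X)) (t : Fin r → Γ(E, ⊤))
    (ht : Submodule.span Γ(X, ⊤) (Set.range t) = ⊤) : Module.finrank k (Coh.HH X E 0) ≤ r := by
  let e := Groth.Agent.CurvesB.HZero.equivAdd E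
  let v : Fin r → Coh.HH X E 0 := fun i => e.symm (t i)
  have hv : Submodule.span k (Set.range v) = ⊤ := by
    rw [eq_top_iff]
    rintro y -
    have hy : e y ∈ Submodule.span Γ(X, ⊤) (Set.range t) := by rw [ht]; trivial
    rw [Submodule.mem_span_range_iff_exists_fun] at hy
    obtain ⟨c, hc⟩ := hy
    choose a ha using fun i => hk (c i)
    have h1 : y = ∑ i, a i • v i := by
      apply e.injective
      rw [map_sum, ← hc]
      refine Finset.sum_congr rfl fun i _ => ?_
      refine Eq.symm ((Groth.Agent.CurvesB.HZero.equivAdd_smul_over E (a i) (v i)).trans ?_)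
      rw [ha]
      congr 1
      exact e.apply_symm_apply _
    rw [h1]
    exact Submodule.sum_mem _ fun i _ => Submodule.smul_mem _ _ (Submodule.subset_span ⟨i, rfl⟩)
  have h2 := finrank_range_le_card (R := k) v
  rw [Set.finrank, hv, finrank_top, Fintype.card_fin] at h2
  exact h2

end Finrank

end K517.MulSec
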