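import Groth.Agent.Etdl.H429.Main
import Groth.Agent.Sga4B.P1Curve441
import Groth.Agent.Sga4B.P1Genus682
import Groth.Agent.Grpsch.CubePush
import Groth.Agent.CohqB.ProjBC
import Groth.Agent.Flat2G.StructHH
import Groth.Agent.S2344
import Mathlib.AlgebraicGeometry.SpreadingOut

/-!
# Rational points of a proper group scheme over a purely transcendental extension

* `exists_const`: a morphism from `P^1_F` to a group scheme of finite type over `F` is constant.
* `exists_of_transcendental`: every `F(t)`-point of a proper `F`-group scheme comes from an `F`-point.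
-/

set_option autoImplicit false
universe u

open CategoryTheory CategoryTheory.Limits MonoidalCategory CartesianMonoidalCategory AlgebraicGeometry
open scoped MonObj

namespace K517.P1Const

open Groth.Agent Groth.Agent.Etdl.H429.Univ

theorem univO_toBase (F : Type u) [Field F] :
    UnivO (CohB1.ProjSpaceOver.toBase 1 (Spec (CommRingCat.of F))) := by
  intro S' g V
  have h1 : GeometricallyIntegral (pullback.snd
    (CohB1.ProjSpaceOver.toBase 1 (Spec (CommRingCat.of F))) g) := inferInstance
  have h2 : Smooth (pullback.snd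
    (CohB1.ProjSpaceOver.toBase 1 (Spec (CommRingCat.of F))) g) := inferInstance
  have h3 : IsProper (pullback.snd
    (CohB1.ProjSpaceOver.toBase 1 (Spec (CommRingCat.of F))) g) := inferInstance
  exact Groth.Agent.Grpsch.CubeData.isIso_app _ V

theorem fibH1_toBase (F : Type u) [Field F] :
    FibH1 (CohB1.ProjSpaceOver.toBase 1 (Spec (CommRingCat.of F))) := by
  intro κ hκ g
  refine ⟨_, _, _, Sga4B.P1Geom.isPullback_toP1 g, ?_⟩
  have h := Sga4B.P1Genus682.subsingleton_HH_one (R := κ)
  exact (Flat2G.StructHH.HH_iso_iff (CohqB.ProjBC.projSpaceOverIso 1 κ) 1).mpr h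

/-- A morphism from the projective line to a group scheme of finite type is constant. -/
theorem exists_const (F : Type u) [Field F] (A : Over (Spec (CommRingCat.of F))) [GrpObj A]
    [LocallyOfFiniteType A.hom] [QuasiCompact A.hom]
    (φ : CohB1.ProjSpaceOver 1 (Spec (CommRingCat.of F)) ⟶ A.left)
    (hφ : φ ≫ A.hom = CohB1.ProjSpaceOver.toBase 1 _) :
    ∃ σ : Spec (CommRingCat.of F) ⟶ A.left, σ ≫ A.hom = 𝟙 _ ∧
      φ = CohB1.ProjSpaceOver.toBase 1 _ ≫ σ :=
  Groth.Agent.Etdl.H429.Main.main _ (univO_toBase F) (fibH1_toBase F) A φ hφ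

end K517.P1Const
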