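import Groth.Agent.AbVar.K517.P1Const
import Groth.Agent.AbVar.K517.FracPoly
import Groth.Agent.Fga.DimCut
import Groth.Agent.VarietyA.RegSmoothSch
import Groth.Agent.S0558
import Groth.Agent.CurvesC.RegNormal
import Mathlib.AlgebraicGeometry.SpreadingOut
import Mathlib.RingTheory.Localization.Algebra
import Mathlib.RingTheory.MvPolynomial.Localization

/-!
# Rational points of a proper group scheme over a purely transcendental extension

* `exists_of_transcendental`: every `F(t)`-point of a proper `F`-group scheme comes from an `F`-point.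
-/

set_option autoImplicit false
universe u

open CategoryTheory CategoryTheory.Limits MonoidalCategory CartesianMonoidalCategory AlgebraicGeometry
open scoped MonObj

namespace K517.P1Point

open Groth.Agent

theorem isNormalScheme {k : Type u} [Field k] {X : Scheme.{u}}
    (q : X ⟶ Spec (CommRingCat.of k)) [Smooth q] : Pi1.IsNormalScheme X := fun x =>
  have : IsRegularLocalRing (X.presheaf.stalk x) :=
    Groth.Agent.VarietyA.RegSmoothSch.isRegularLocalRing_stalk_of_mem_smoothLocus q x
      (by rw [q.smoothLocus_eq_top]; trivial)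
  ⟨Groth.Agent.S0558.result _, Groth.Agent.CurvesC.RegNormal.isIntegrallyClosed _⟩

/-- Extension of a generic point with values in a proper scheme, on a smooth curve. -/
theorem exists_extension {F : Type u} [Field F] {X Y : Scheme.{u}} (p : X ⟶ Spec (CommRingCat.of F))
    (q : Y ⟶ Spec (CommRingCat.of F)) [Smooth p] [IsIntegral X] [IsSeparated p] [QuasiCompact p]
    (hdim : topologicalKrullDim X = 1) [IsProper q] (R : CommRingCat.{u}) [IsDomain R]
    (j : Spec R ⟶ X) [IsOpenImmersion j] (K : Type u) [Field K] [Algebra R K] [IsFractionRing R K]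
    (x : Spec (CommRingCat.of K) ⟶ Y)
    (hx : x ≫ q = Spec.map (CommRingCat.ofHom (algebraMap R K)) ≫ j ≫ p) :
    ∃ g : X ⟶ Y, g ≫ q = p ∧ Spec.map (CommRingCat.ofHom (algebraMap R K)) ≫ j ≫ g = x := by
  let ηR : Spec R := genericPoint (Spec R)
  let L := (Spec R).functionField
  let e : L ≃ₐ[R] K := IsLocalization.algEquiv (nonZeroDivisors R) L K
  let ψ : Spec L ⟶ Spec (CommRingCat.of K) := Spec.map (CommRingCat.ofHom e.symm.toRingEquiv.toRingHom)
  have hiso : IsIso ψ := by
    have : IsIso (CommRingCat.ofHom e.symm.toRingEquiv.toRingHom) :=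
      (ConcreteCategory.isIso_iff_bijective _).mpr e.symm.bijective
    exact inferInstanceAs (IsIso (Spec.map (CommRingCat.ofHom e.symm.toRingEquiv.toRingHom)))
  have hst : (Spec R).fromSpecStalk ηR = ψ ≫ Spec.map (CommRingCat.ofHom (algebraMap R K)) := by
    refine (Spec.fromSpecStalk_eq' _ ηR).trans ?_
    change _ = Spec.map (CommRingCat.ofHom e.symm.toRingEquiv.toRingHom) ≫
      Spec.map (CommRingCat.ofHom (algebraMap R K))
    rw [← Spec.map_comp]
    congr 1
    apply CommRingCat.hom_ext
    apply RingHom.ext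
    intro r
    exact (e.symm.commutes r).symm
  have hw : (ψ ≫ x) ≫ q = (Spec R).fromSpecStalk ηR ≫ (j ≫ p) := by
    rw [Category.assoc, hx, hst, Category.assoc]
  obtain ⟨U, hU, f, hf1, hf2⟩ := spread_out_of_isGermInjective' (j ≫ p) q (ψ ≫ x) hw
  let V : X.Opens := j ''ᵁ U
  let i : (U : Scheme.{u}) ≅ (V : Scheme.{u}) := j.isoImage U
  have hi : i.hom ≫ V.ι = U.ι ≫ j := j.isoImage_hom_ι U
  let _ : X.Over (Spec (CommRingCat.of F)) := ⟨p⟩
  let _ : Y.Over (Spec (CommRingCat.of F)) := ⟨q⟩
  have hsm : Smooth (X ↘ (Spec (CommRingCat.of F))) := inferInstanceAs (Smooth p)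
  have hlft : LocallyOfFiniteType (X ↘ (Spec (CommRingCat.of F))) := inferInstance
  have hqc : QuasiCompact (X ↘ (Spec (CommRingCat.of F))) := inferInstanceAs (QuasiCompact p)
  have hsep : IsSeparated (X ↘ (Spec (CommRingCat.of F))) := inferInstanceAs (IsSeparated p)
  have hpr : IsProper (Y ↘ (Spec (CommRingCat.of F))) := inferInstanceAs (IsProper q)
  have hne : (V : Set X).Nonempty := ⟨j ηR, ⟨ηR, hU, rfl⟩⟩
  obtain ⟨g, ⟨hg1, hg2⟩, -⟩ := Groth.Agent.S2344.result F X Y
    (fun y hy => by rw [Groth.Agent.Fga.DimCut.ringKrullDim_stalk_eq F X y hy, hdim])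
    (isNormalScheme p) V (V.isOpen.dense hne) (i.inv ≫ f) (by
      change (i.inv ≫ f) ≫ q = V.ι ≫ p
      rw [Category.assoc, hf2, Iso.inv_comp_eq, ← Category.assoc i.hom, hi, Category.assoc])
  refine ⟨g, hg2, ?_⟩
  rw [← cancel_epi ψ, hf1]
  have h1 : ψ ≫ Spec.map (CommRingCat.ofHom (algebraMap R K)) ≫ j ≫ g =
      (Spec R).fromSpecStalk ηR ≫ j ≫ g := by rw [hst, Category.assoc]
  rw [h1, ← U.fromSpecStalkOfMem_ι ηR hU, Category.assoc, ← Category.assoc U.ι, ← hi,
    Category.assoc, hg1, Iso.hom_inv_id_assoc]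

/-- The affine line inside the projective line, with the coordinate ring `F[t]`. -/
noncomputable def line (F : Type u) [Field F] :
    Spec (CommRingCat.of (Polynomial F)) ⟶ CohB1.ProjSpaceOver 1 (Spec (CommRingCat.of F)) :=
  Spec.map (CommRingCat.ofHom
    (MvPolynomial.uniqueAlgEquiv F (Sga4B.P1Geom.I.{u})).toRingEquiv.toRingHom) ≫
      (AffineSpace.SpecIso Sga4B.P1Geom.I.{u} (CommRingCat.of F)).inv ≫
        Sga4B.P1Geom.v (Spec (CommRingCat.of F)) 0

instance isOpenImmersion_line (F : Type u) [Field F] : IsOpenImmersion (line F) := by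
  have h : IsIso (CommRingCat.ofHom
      (MvPolynomial.uniqueAlgEquiv F (Sga4B.P1Geom.I.{u})).toRingEquiv.toRingHom) :=
    (ConcreteCategory.isIso_iff_bijective _).mpr
      (MvPolynomial.uniqueAlgEquiv F (Sga4B.P1Geom.I.{u})).bijective
  unfold line
  infer_instance

theorem line_toBase (F : Type u) [Field F] :
    line F ≫ CohB1.ProjSpaceOver.toBase 1 (Spec (CommRingCat.of F)) =
      Spec.map (CommRingCat.ofHom (algebraMap F (Polynomial F))) := by
  unfold line
  rw [Category.assoc, Category.assoc, Sga4B.P1Geom.v_toBase]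
  have h := AffineSpace.SpecIso_inv_over (n := Sga4B.P1Geom.I.{u}) (CommRingCat.of F)
  refine (congrArg (fun t => Spec.map (CommRingCat.ofHom
    (MvPolynomial.uniqueAlgEquiv F (Sga4B.P1Geom.I.{u})).toRingEquiv.toRingHom) ≫ t) h).trans ?_
  rw [← Spec.map_comp]
  congr 1
  apply CommRingCat.hom_ext
  apply RingHom.ext
  intro r
  exact (MvPolynomial.uniqueAlgEquiv F (Sga4B.P1Geom.I.{u})).commutes r

/-- Every `F(t)`-point of a proper `F`-group scheme comes from an `F`-point. -/
theorem exists_of_polynomial (F : Type u) [Field F] (A : Over (Spec (CommRingCat.of F))) [GrpObj A]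
    [IsProper A.hom] (K : Type u) [Field K] [Algebra F K] [Algebra (Polynomial F) K]
    [IsScalarTower F (Polynomial F) K] [IsFractionRing (Polynomial F) K]
    (x : Spec (CommRingCat.of K) ⟶ A.left)
    (hx : x ≫ A.hom = Spec.map (CommRingCat.ofHom (algebraMap F K))) :
    ∃ σ : Spec (CommRingCat.of F) ⟶ A.left, σ ≫ A.hom = 𝟙 _ ∧
      Spec.map (CommRingCat.ofHom (algebraMap F K)) ≫ σ = x := by
  have hFK : Spec.map (CommRingCat.ofHom (algebraMap (Polynomial F) K)) ≫
      Spec.map (CommRingCat.ofHom (algebraMap F (Polynomial F))) =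
        Spec.map (CommRingCat.ofHom (algebraMap F K)) := by
    rw [← Spec.map_comp, ← CommRingCat.ofHom_comp, ← IsScalarTower.algebraMap_eq]
  obtain ⟨g, hg1, hg2⟩ := exists_extension (CohB1.ProjSpaceOver.toBase 1 (Spec (CommRingCat.of F)))
    A.hom (Sga4B.P1Curve.topologicalKrullDim_projLine F) (CommRingCat.of (Polynomial F)) (line F) K x
    (by rw [hx, line_toBase]; exact hFK.symm)
  obtain ⟨σ, hσ1, hσ2⟩ := P1Const.exists_const F A g hg1
  refine ⟨σ, hσ1, ?_⟩
  rw [← hg2, hσ2, ← Category.assoc (line F), line_toBase, ← Category.assoc]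
  exact congrArg (· ≫ σ) hFK.symm

/-- Every point of a proper `F`-group scheme with values in `F(t_1, ..., t_n)` comes from an `F`-point. -/
theorem exists_of_mvPolynomial (n : ℕ) : ∀ (F : Type u) [Field F]
    (A : Over (Spec (CommRingCat.of F))) [GrpObj A]
    [IsProper A.hom] (K : Type u) [Field K] [Algebra F K] [Algebra (MvPolynomial (Fin n) F) K]
    [IsScalarTower F (MvPolynomial (Fin n) F) K] [IsFractionRing (MvPolynomial (Fin n) F) K]
    (x : Spec (CommRingCat.of K) ⟶ A.left)
    (_ : x ≫ A.hom = Spec.map (CommRingCat.ofHom (algebraMap F K))),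
    ∃ σ : Spec (CommRingCat.of F) ⟶ A.left, σ ≫ A.hom = 𝟙 _ ∧
      Spec.map (CommRingCat.ofHom (algebraMap F K)) ≫ σ = x := by
  induction n with
  | zero =>
    intro F _ A _ _ K _ _ _ _ _ x hx
    have hb : Function.Bijective (algebraMap F K) := by
      have h1 : Function.Bijective (algebraMap F (MvPolynomial (Fin 0) F)) :=
        (MvPolynomial.isEmptyAlgEquiv F (Fin 0)).symm.bijective
      have h2 : Function.Bijective (algebraMap (MvPolynomial (Fin 0) F) K) := by
        have hf : IsField (MvPolynomial (Fin 0) F) :=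
          (MvPolynomial.isEmptyAlgEquiv F (Fin 0)).toMulEquiv.isField (Field.toIsField F)
        exact ⟨IsFractionRing.injective _ _, IsFractionRing.surjective_iff_isField.2 hf⟩
      rw [IsScalarTower.algebraMap_eq F (MvPolynomial (Fin 0) F) K]
      exact h2.comp h1
    have hiso : IsIso (CommRingCat.ofHom (algebraMap F K)) :=
      (ConcreteCategory.isIso_iff_bijective _).mpr hb
    refine ⟨inv (Spec.map (CommRingCat.ofHom (algebraMap F K))) ≫ x, ?_, ?_⟩
    · rw [Category.assoc, hx, IsIso.inv_hom_id]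
    · rw [IsIso.hom_inv_id_assoc]
  | succ n ih =>
    intro F _ A _ _ K _ _ _ _ _ x hx
    obtain ⟨E, _, _, _, _, _, _, _, _, _, _⟩ := FracPoly.exists_tower F n K
    let g : Spec (CommRingCat.of E) ⟶ Spec (CommRingCat.of F) :=
      Spec.map (CommRingCat.ofHom (algebraMap F E))
    let A' := (Over.pullback g).obj A
    let _ : GrpObj A' := Functor.grpObjObj
    have hpr : IsProper A'.hom := by
      change IsProper (Limits.pullback.snd A.hom g)
      infer_instance
    have hw : Spec.map (CommRingCat.ofHom (algebraMap E K)) ≫ g =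
        Spec.map (CommRingCat.ofHom (algebraMap F K)) := by
      rw [← Spec.map_comp, ← CommRingCat.ofHom_comp, ← IsScalarTower.algebraMap_eq]
    let x' : Spec (CommRingCat.of K) ⟶ A'.left :=
      Limits.pullback.lift x (Spec.map (CommRingCat.ofHom (algebraMap E K))) (by rw [hx, hw])
    obtain ⟨τ, hτ1, hτ2⟩ := exists_of_polynomial E A' K x' (Limits.pullback.lift_snd _ _ _)
    have hτ3 : (τ ≫ Limits.pullback.fst A.hom g) ≫ A.hom =
        Spec.map (CommRingCat.ofHom (algebraMap F E)) := by
      rw [Category.assoc, Limits.pullback.condition, ← Category.assoc]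
      have : τ ≫ Limits.pullback.snd A.hom g = 𝟙 _ := hτ1
      rw [this, Category.id_comp]
    obtain ⟨σ, hσ1, hσ2⟩ := ih F A E (τ ≫ Limits.pullback.fst A.hom g) hτ3
    refine ⟨σ, hσ1, ?_⟩
    rw [← hw, Category.assoc, hσ2, ← Category.assoc, hτ2]
    exact Limits.pullback.lift_fst _ _ _

end K517.P1Point
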