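import Groth.Agent.AbVar.K517.PPNbhd
import Groth.Agent.AbVar.K517.AcycPt
import Groth.Agent.AbVar.K517.InfDim
import Groth.Agent.VarietyB.HHPush
import Groth.Agent.VarietyB.ProjForm
import Groth.Agent.CohqA.AffineBaseChange
import Groth.Agent.Ega3B.PullTensor
import Groth.Agent.S0354
import Groth.Agent.S1535

/-!
# Cohomology of the principal parts of an invertible module on a group scheme

`G` a proper smooth group scheme over an algebraically closed field, of dimension `g`, `b : G ⟶ G`,
`L`, `N` invertible with `b^* L ⊗ N` without higher cohomology: then `b^* P^n(L) ⊗ N` has no higher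
cohomology and `h⁰ = C(n + g, g) h⁰(b^* L ⊗ N)`.
-/

set_option autoImplicit false

universe u

open CategoryTheory CategoryTheory.Limits MonoidalCategory CartesianMonoidalCategory MonObj GrpObj AlgebraicGeometry
open PrinPart

namespace K517.PPCoh

open Groth.Agent Groth.Agent.Dix.InterNum Groth.Agent.Ega2.Tens Groth.Agent.Fdesc.LocGen
open K517.AcycPt K517.InfDim K517.PPNbhd

variable {k : Type u} [Field k]

theorem hasBases {X : Scheme.{u}} {L : X.Modules} (hL : PicF.IsInvertible L) : VarietyB.TensCoh.HasBases L :=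
  VarietyB.TensCoh.HasBases.of_isFinLocFree
    (Ega2.QCohLocal.isFinLocFree_of_rank (Ega2.QCohLocal.isFinLocFreeOfRank_one_iff.2 hL))

theorem hz_eq {X : Scheme.{u}} (a : X ⟶ Spec (CommRingCat.of k)) (M : X.Modules) :
    @Module.finrank k (Coh.HH X M 0) _ _ (@Coh.moduleOver k _ X ⟨a⟩ M 0) = hz k a M := by
  let _ : X.Over (Spec (CommRingCat.of k)) := ⟨a⟩
  let _ := CurvesB.HZero.moduleΓ k M
  exact (CurvesB.HZero.equivLin k M).finrank_eq

theorem hz_iso {X : Scheme.{u}} (a : X ⟶ Spec (CommRingCat.of k)) {M N : X.Modules} (e : M ≅ N) :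
    hz k a M = hz k a N := by
  let _ : Module k Γ(M, ⊤) := Module.compHom Γ(M, ⊤) (glo a)
  let _ : Module k Γ(N, ⊤) := Module.compHom Γ(N, ⊤) (glo a)
  let _ := Ega3B.CechBC.modV a M ⊤
  let _ := Ega3B.CechBC.modV a N ⊤
  let e' := Ega3B.AcycNbhd.secEquiv a e
  exact LinearEquiv.finrank_eq
    { e' with map_smul' := fun c x => e.hom.app_smul (glo a c) x }

/-- Base change and projection formula. -/
theorem exists_iso {X Z : Scheme.{u}} {p : Z ⟶ X} [IsAffineHom p] {bZ : Z ⟶ Z} {b : X ⟶ X}
    (H : IsPullback bZ p p b) {F : Z.Modules} (hF : PicF.IsInvertible F) {N : X.Modules} (hN : PicF.IsInvertible N) :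
    Nonempty (CohB1.tensorMod ((Scheme.Modules.pullback b).obj ((Scheme.Modules.pushforward p).obj F)) N ≅
      (Scheme.Modules.pushforward p).obj (CohB1.tensorMod ((Scheme.Modules.pullback bZ).obj F)
        ((Scheme.Modules.pullback p).obj N))) := by
  have h1 : Coh.IsQCoh F := Ega2.QCohLocal.isQCoh_of_isInvertible hF
  obtain ⟨e⟩ := CohqA.AffineBaseChange.nonempty_iso H F
  exact ⟨mapTIso e (Iso.refl N) ≪≫ swap _ _ ≪≫ VarietyB.ProjForm.projIso p (hasBases hN) _ ≪≫
    (Scheme.Modules.pushforward p).mapIso (swap _ _)⟩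

theorem subsingleton_iso {X : Scheme.{u}} {M N : X.Modules} (e : M ≅ N) (p : ℕ)
    (h : Subsingleton (Coh.HH X M p)) : Subsingleton (Coh.HH X N p) :=
  Ega3B.AcycNbhd.subsingleton_HH_of_iso e p h

section main

variable (G : Over (Spec (CommRingCat.of k))) [GrpObj G]

theorem isRegular [Smooth G.hom] (x : G.left) : IsRegularLocalRing (G.left.presheaf.stalk x) := by
  let _ : G.left.Over (Spec (CommRingCat.of k)) := ⟨G.hom⟩
  have : Smooth (G.left ↘ Spec (CommRingCat.of k)) := ‹Smooth G.hom›
  exact S1535.result k G.left x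

theorem h0_unit [IsAlgClosed k] [IsSeparated G.hom] [Smooth G.hom] (g : ℕ) (hg : topologicalKrullDim ↥G.left = g)
    (n : ℕ) : h0 (infNbhdι η[G].left n ≫ G.hom) = (n + g).choose g := by
  have h1 : IsRegularLocalRing (G.left.presheaf.stalk (η[G].left (pt k))) := isRegular G _
  refine InfDim.h0_eq G.hom η[G].left (unit_comp G) n g ?_
  rw [← hg]
  refine S0354.result k G (η[G].left (pt k)) ?_
  have h2 : ({η[G].left (pt k)} : Set G.left) = Set.range (η[G].left) := by
    ext y
    constructor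
    · rintro rfl
      exact ⟨_, rfl⟩
    · rintro ⟨z, rfl⟩
      rw [eq_pt z]
      rfl
  rw [h2]
  exact (η[G].left).isClosedEmbedding.isClosed_range

/-- Cohomology of the twisted principal parts. -/
theorem main [IsAlgClosed k] [IsProper G.hom] [Smooth G.hom] (g : ℕ) (hg : topologicalKrullDim ↥G.left = g)
    (n : ℕ) (b : G ⟶ G) {L N : G.left.Modules} (hL : PicF.IsInvertible L) (hN : PicF.IsInvertible N)
    (hv : ∀ p, Subsingleton (Coh.HH G.left (CohB1.tensorMod ((Scheme.Modules.pullback b.left).obj L) N) (p + 1))) :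
    (∀ p, Subsingleton (Coh.HH G.left (CohB1.tensorMod
      ((Scheme.Modules.pullback b.left).obj (PMod G.hom n L)) N) (p + 1))) ∧
    hz k G.hom (CohB1.tensorMod ((Scheme.Modules.pullback b.left).obj (PMod G.hom n L)) N) =
      (n + g).choose g * hz k G.hom (CohB1.tensorMod ((Scheme.Modules.pullback b.left).obj L) N) := by
  obtain ⟨w, bZ, H1, H2, H3, h4⟩ := exists_data G n b
  let T := infNbhd η[G].left n
  let Z := nbhd G.hom n
  let p : Z ⟶ G.left := pr1 G.hom n
  let s : T ⟶ Spec (CommRingCat.of k) := infNbhdι η[G].left n ≫ G.hom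
  let t : Spec (CommRingCat.of k) ⟶ T := toInfNbhd η[G].left n
  let i : G.left ⟶ Z := toNbhd G.hom n
  have hts : t ≫ s = 𝟙 _ := by
    change toInfNbhd η[G].left n ≫ infNbhdι η[G].left n ≫ G.hom = _
    rw [toInfNbhd_ι_assoc, unit_comp]
  have hs : IsFinite s := S5965.result G.hom η[G].left (unit_comp G) n
  have hp : IsAffineHom p := MorphismProperty.of_isPullback (P := @IsAffineHom) H1 inferInstance
  have hw : IsProper w := MorphismProperty.of_isPullback (P := @IsProper) H1.flip inferInstance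
  have hw' : Flat w := MorphismProperty.of_isPullback (P := @Flat) H1.flip inferInstance
  have hT : Subsingleton T := subsingleton_infNbhd _ n
  have hT' : Nonempty T := ⟨t (pt k)⟩
  let F : Z.Modules := (Scheme.Modules.pullback (pr2 G.hom n)).obj L
  have hF : PicF.IsInvertible F := isInvertible_pullback _ hL
  obtain ⟨e1⟩ := exists_iso H3 hF hN
  let M : Z.Modules := CohB1.tensorMod ((Scheme.Modules.pullback bZ).obj F) ((Scheme.Modules.pullback p).obj N)
  have hM : PicF.IsInvertible M := isInvertible_tensorMod (isInvertible_pullback _ hF) (isInvertible_pullback _ hN)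
  let e2 : (Scheme.Modules.pullback i).obj M ≅
      CohB1.tensorMod ((Scheme.Modules.pullback b.left).obj L) N :=
    Ega3B.PullTensor.pullTensorIso i (isInvertible_pullback _ hF) (isInvertible_pullback _ hN) ≪≫
      mapTIso
        ((Scheme.Modules.pullback i).mapIso (Ega3B.AcycNbhd.compIso bZ (pr2 G.hom n) _ rfl L) ≪≫
          Ega3B.AcycNbhd.compIso i (bZ ≫ pr2 G.hom n) b.left (by
            rw [← Category.assoc, h4, Category.assoc, toNbhd_pr2, Category.comp_id]) L)
        (Ega3B.AcycNbhd.compIso i p (𝟙 _) (toNbhd_pr1 G.hom n) N ≪≫ (Scheme.Modules.pullbackId _).app N)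
  obtain ⟨h5, h6⟩ := AcycPt.main s t hts w i G.hom H2 M hM fun q => subsingleton_iso e2.symm _ (hv q)
  rw [h0_unit G g hg n, hz_iso _ e2] at h6
  let _ : G.left.Over (Spec (CommRingCat.of k)) := ⟨G.hom⟩
  let _ : Z.Over (Spec (CommRingCat.of k)) := ⟨w ≫ s⟩
  have h7 : p ≫ (G.left ↘ Spec (CommRingCat.of k)) = Z ↘ Spec (CommRingCat.of k) := H1.w.symm
  have h8 : ∀ q, Nonempty (Coh.HH G.left ((Coh.push p).obj M) q ≃ₗ[k] Coh.HH Z M q) := fun q =>
    VarietyB.HHPush.exists_linearEquiv p k h7 M (Ega2.QCohLocal.isQCoh_of_isInvertible hM) q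
  refine ⟨fun q => ?_, ?_⟩
  · obtain ⟨e8⟩ := h8 (q + 1)
    have := h5 q
    exact subsingleton_iso e1.symm _ e8.toEquiv.subsingleton
  · refine (hz_iso G.hom e1).trans ?_
    rw [← h6, ← hz_eq, ← hz_eq]
    obtain ⟨e8⟩ := h8 0
    exact e8.finrank_eq

end main

end K517.PPCoh
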