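import Groth.Agent.AbVar.K512.PhiSurj
import Groth.Agent.AbVar.K512.PoincId
import Groth.Agent.AbSch.K451.PowCube
import Groth.Agent.Divis.NormAmple

/-!
# The fibre class of the twisted principal parts

`A` an abelian variety over an algebraically closed field, `c` a class, `b ≥ 0`:
* `inv_invariant`: `[-1]^* c / c` is translation invariant;
* `pow_invariant`: `[b]^* c / c^{b²}` is translation invariant;
* `poinc_invariant`: the classes `P_α` are translation invariant;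
* `exists_translate`: `[b]^* L ⊗ L^{cb} ⊗ L^{-b²} ⊗ P_α` is a translate of `L^{cb}`.
-/

set_option autoImplicit false

universe u

open CategoryTheory CategoryTheory.Limits MonoidalCategory CartesianMonoidalCategory MonObj GrpObj AlgebraicGeometry

namespace K517.PPFib

open Groth.Agent Groth.Agent.Grpsch.PicGrp Groth.Agent.Grpsch.Cube Groth.Agent.Sga7.H260.Square K512.Slice K512.Phi

variable {k : Type u} [Field k] {A : Over (Spec (CommRingCat.of k))} [GrpObj A]

section inv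

variable [IsProper A.hom] [GeometricallyIntegral A.hom]

theorem inv_invariant (c : Pic A.left) (x : 𝟙_ (Over (Spec (CommRingCat.of k))) ⟶ A) :
    pl (tr x) (pl (𝟙 A)⁻¹ c * c⁻¹) = pl (𝟙 A)⁻¹ c * c⁻¹ := by
  have hcomm : IsCommMonObj A := isCommMonObj_of_isProper_of_geometricallyIntegral A
  -- `[-1]` and translations
  have e1 : tr x ≫ (𝟙 A)⁻¹ = (𝟙 A)⁻¹ * (toUnit A ≫ x⁻¹) := by
    rw [comp_inv, Category.comp_id, _root_.mul_inv_rev, comp_inv, _root_.mul_comm]
  have h1 := cube c (𝟙 A) (𝟙 A)⁻¹ (toUnit A ≫ x⁻¹)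
  rw [mul_inv_cancel, _root_.one_mul, pl_one, pl_const, _root_.mul_one, _root_.one_mul, pl_id] at h1
  have h2 := square c x x⁻¹
  rw [mul_inv_cancel, tr_one, pl_id] at h2
  rw [map_mul, map_inv, ← pl_comp, e1]
  have h3 : pl (tr x⁻¹) c = pl (𝟙 A * (toUnit A ≫ x⁻¹)) c := rfl
  rw [h3] at h2
  generalize pl (𝟙 A * (toUnit A ≫ x⁻¹)) c = p at h1 h2
  generalize pl ((𝟙 A)⁻¹ * (toUnit A ≫ x⁻¹)) c = q at h1 ⊢
  generalize pl (tr x) c = r at h2 ⊢
  -- `c * i = p * q`, `c * c = r * p`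
  rw [mul_inv_eq_iff_eq_mul]
  have h4 : p * q = p * (pl (𝟙 A)⁻¹ c * c⁻¹ * r) := by
    rw [_root_.one_mul] at h1
    rw [← h1]
    calc c * pl (𝟙 A)⁻¹ c = (c * c) * (c⁻¹ * pl (𝟙 A)⁻¹ c) := by
          rw [_root_.mul_assoc, mul_inv_cancel_left]
      _ = (r * p) * (c⁻¹ * pl (𝟙 A)⁻¹ c) := by rw [h2]
      _ = p * (pl (𝟙 A)⁻¹ c * c⁻¹ * r) := by ac_rfl
  exact mul_left_cancel h4

theorem pow_eq (c : Pic A.left) (b : ℕ) :
    pl (𝟙 A ^ b) c * (c ^ (b * b))⁻¹ = (pl (𝟙 A)⁻¹ c * c⁻¹) ^ (b.choose 2) := by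
  have hq : K451.PowCube.IsCub (fun a : A ⟶ A => pl a c) := ⟨pl_one c, fun a b d => cube c a b d⟩
  have h := K451.PowCube.pow_choose_of hq (𝟙 A) b
  have h1 : (b + 1).choose 2 + b.choose 2 = b * b := by
    have := K451.PowCube.toNat_add_toNat (b : ℤ)
    rw [K451.PowCube.toNat_choose_succ, K451.PowCube.toNat_choose, Int.natAbs_natCast, sq] at this
    exact this
  rw [h, pl_id, ← h1, pow_add, mul_pow, _root_.mul_inv_rev, inv_pow]
  generalize c ^ (b + 1).choose 2 = x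
  generalize c ^ b.choose 2 = y
  rw [_root_.mul_comm y⁻¹ x⁻¹, _root_.mul_comm x, _root_.mul_assoc, mul_inv_cancel_left]

theorem pow_invariant (c : Pic A.left) (b : ℕ) (x : 𝟙_ (Over (Spec (CommRingCat.of k))) ⟶ A) :
    pl (tr x) (pl (𝟙 A ^ b) c * (c ^ (b * b))⁻¹) = pl (𝟙 A ^ b) c * (c ^ (b * b))⁻¹ := by
  rw [pow_eq, map_pow, inv_invariant]

end inv

section poinc

open Groth.Agent.Fga.RigGrp K732.Cov K732.PicZero K732.RigSheaf K732.Dual

variable {At : Over (Spec (CommRingCat.of k))} [GrpObj At] [IsProper A.hom] [GeometricallyIntegral A.hom]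
  [LocallyOfFiniteType At.hom] [GeometricallyConnected At.hom]
  {φ : ∀ T : Over (Spec (CommRingCat.of k)), PicF.Cl (PicF.XT A.hom T) → (T ⟶ At)}

/-- The classes `P_α` are translation invariant. -/
theorem poinc_invariant (hφ : AbDual.IsDualAV Scheme.fppfPrecoverage A At φ)
    {P : (pullback A.hom At.hom).Modules} (hP : PicF.IsInvertible P)
    (hPξ : AbDual.IsPoincareCl A At φ (PicF.cl P)) (α : 𝟙_ (Over (Spec (CommRingCat.of k))) ⟶ At)
    (x : 𝟙_ (Over (Spec (CommRingCat.of k))) ⟶ A) :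
    pl (tr x) (pull (CartesianMonoidalCategory.lift (𝟙 A) (toUnit A ≫ α)).left (mk P hP)) =
      pull (CartesianMonoidalCategory.lift (𝟙 A) (toUnit A ≫ α)).left (mk P hP) := by
  obtain ⟨ζ, h1, h2, h3, h4⟩ := K732.AV.exists_of_isPoincareCl hPξ
  have e : ζ = mk P hP := Fga.RigGrp.toCl_injective h4
  subst e
  have h := K512.PoincId.pull_left hφ h1 h2 h3 x
  have h5 := congrArg (pull (CartesianMonoidalCategory.lift (𝟙 A) (toUnit A ≫ α)).left) h
  rw [← pull_comp, ← Over.comp_left] at h5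
  have e1 : lift (𝟙 A) (toUnit A ≫ α) ≫ lift (fst A At ≫ (𝟙 A * (toUnit A ≫ x))) (snd A At) =
      tr x ≫ lift (𝟙 A) (toUnit A ≫ α) := by
    ext
    · simp
    · simp
  rw [e1, Over.comp_left, pull_comp] at h5
  refine h5.trans ?_
  have h6 : pull (lift (𝟙 A) (toUnit A ≫ α)).left (pull (snd A At).left
      (pull (lift (toUnit At ≫ x) (𝟙 At)).left (mk P hP))) = 1 := by
    rw [← pull_comp, ← Over.comp_left, lift_snd]
    exact pl_const α _
  refine (map_mul _ _ _).trans ?_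
  rw [h6, _root_.mul_one]

end poinc

end K517.PPFib
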