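import Groth.Agent.AbVar.K517.PPFib
import Groth.Agent.AbVar.K511.AmpleVan
import Groth.Agent.AbSch.K450.RRChi
import Groth.Agent.Dix.Cast0
import Groth.Agent.Flat2H.ThickFibre
import Groth.Agent.S2122

/-!
# The cohomology of `[b]^* L ⊗ L^{cb} ⊗ L^{-b²} ⊗ P_α`
-/

set_option autoImplicit false

universe u

open CategoryTheory CategoryTheory.Limits MonoidalCategory CartesianMonoidalCategory MonObj GrpObj AlgebraicGeometry

namespace K517.PPFin

open Groth.Agent Groth.Agent.Grpsch.PicGrp Groth.Agent.Grpsch.Cube Groth.Agent.Sga7.H260.Square K512.Slice K512.Phi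
open Groth.Agent.Fdesc.LocGen

variable {k : Type u} [Field k]

section ample

variable (A : Over (Spec (CommRingCat.of k))) [GrpObj A] [IsProper A.hom] [GeometricallyIntegral A.hom]
  (g : ℕ) (hg : topologicalKrullDim ↥A.left = g) {L : A.left.Modules}

omit [GeometricallyIntegral A.hom] in
include hg in
theorem euler_pow [GeometricallyIntegral A.hom] (hL : PicF.IsInvertible L) (n : ℕ) :
    @Curv2.euler k _ A.left ⟨A.hom⟩ (CohB1.tensorPow L n) = (n : ℤ) ^ g * @Curv2.euler k _ A.left ⟨A.hom⟩ L := by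
  rw [← K450.RRChi.chi_mc k A g hg, ← K450.RRChi.chi_mc k A g hg, Fga.PicMon.mc_tensorPow,
    K450.RRChi.chi_pow k A g hg L hL]

theorem euler_eq (hL : CohB1.IsAmple L) : @Curv2.euler k _ A.left ⟨A.hom⟩ L =
    @Module.finrank k (Coh.HH A.left L 0) _ _ (@Coh.moduleOver k _ A.left ⟨A.hom⟩ L 0) := by
  let _ : A.left.Over (Spec (CommRingCat.of k)) := ⟨A.hom⟩
  exact Pic13.H116.Num.chi_eq_hz k fun i hi => K511.AmpleVan.vanish A L hL i hi

include hg in
theorem finrank_pow (hL : CohB1.IsAmple L) (n : ℕ) (hn : 0 < n) :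
    @Module.finrank k (Coh.HH A.left (CohB1.tensorPow L n) 0) _ _
      (@Coh.moduleOver k _ A.left ⟨A.hom⟩ (CohB1.tensorPow L n) 0) =
      n ^ g * @Module.finrank k (Coh.HH A.left L 0) _ _ (@Coh.moduleOver k _ A.left ⟨A.hom⟩ L 0) := by
  have h1 := euler_pow A g hg hL.1 n
  rw [euler_eq A hL, euler_eq A (Divis.NormAmple.isAmple_tensorPow hL hn)] at h1
  exact_mod_cast h1

end ample

section main

variable [IsAlgClosed k] (A At : Over (Spec (CommRingCat.of k))) [GrpObj A] [GrpObj At] [IsProper A.hom]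
  [GeometricallyIntegral A.hom] [LocallyOfFiniteType At.hom] [GeometricallyConnected At.hom]
  {φ : ∀ T : Over (Spec (CommRingCat.of k)), PicF.Cl (PicF.XT A.hom T) → (T ⟶ At)}
  (hφ : AbDual.IsDualAV Scheme.fppfPrecoverage A At φ)
  {P : (pullback A.hom At.hom).Modules} (hP : PicF.IsInvertible P)
  (hPξ : AbDual.IsPoincareCl A At φ (PicF.cl P)) (α : 𝟙_ (Over (Spec (CommRingCat.of k))) ⟶ At)
  {L L' : A.left.Modules} (hL : CohB1.IsAmple L) (hLL' : Nonempty (CohB1.tensorMod L L' ≅ Coh.structureModule A.left))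
  (b m : ℕ)

omit [GrpObj A] [IsProper A.hom] [GeometricallyIntegral A.hom] [IsAlgClosed k] in
include hLL' in
theorem isInvertible' : PicF.IsInvertible L' := by
  obtain ⟨e⟩ := hLL'
  exact S2122.result L' L (Ega2.Tens.swap L' L ≪≫ e)

/-- The twisting module. -/
noncomputable abbrev tw : A.left.Modules :=
  CohB1.tensorMod (CohB1.tensorMod (CohB1.tensorPow L m) (CohB1.tensorPow L' (b * b)))
    ((Scheme.Modules.pullback (CartesianMonoidalCategory.lift (𝟙 A) (toUnit A ≫ α)).left).obj P)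

include hφ hP hPξ hL hLL' in
/-- The fibre module is a translate of a power of `L`. -/
theorem exists_translate (hm : 0 < m) : ∃ x : 𝟙_ (Over (Spec (CommRingCat.of k))) ⟶ A,
    Nonempty (CohB1.tensorMod ((Scheme.Modules.pullback ((𝟙 A) ^ b).left).obj L)
      (tw A At (P := P) α (L := L) (L' := L') b m) ≅
      (Scheme.Modules.pullback (tr x).left).obj (CohB1.tensorPow L m)) := by
  have hL' : PicF.IsInvertible L' := isInvertible' A hLL'
  let c : Pic A.left := mk L hL.1
  have hc : mk L' hL' = c⁻¹ := by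
    rw [eq_inv_iff_mul_eq_one, _root_.mul_comm]
    obtain ⟨e⟩ := hLL'
    exact mk_congr e
  let p : Pic A.left := pull (CartesianMonoidalCategory.lift (𝟙 A) (toUnit A ≫ α)).left (mk P hP)
  have hm' := Divis.NormAmple.isAmple_tensorPow hL hm
  obtain ⟨x, hx⟩ := K512.PhiSurj.exists_eq_of_isAmple _ hm' ((pl (𝟙 A ^ b) c * (c ^ (b * b))⁻¹) * p) (fun x => by
    rw [map_mul, K517.PPFib.pow_invariant, K517.PPFib.poinc_invariant hφ hP hPξ])
  refine ⟨x, (mk_eq_iff (isInvertible_tensorMod (isInvertible_pullback _ hL.1) (isInvertible_tensorMod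
    (isInvertible_tensorMod (isInvertible_tensorPow hL.1 _) (isInvertible_tensorPow hL' _))
    (isInvertible_pullback _ hP))) (isInvertible_pullback _ hm'.1)).1 ?_⟩
  have h1 : pl (tr x) (mk _ hm'.1) = pl (𝟙 A ^ b) c * (c ^ m * (c⁻¹) ^ (b * b) * p) := by
    rw [mul_inv_eq_iff_eq_mul] at hx
    rw [hx, mk_tensorPow hL.1, inv_pow]
    change pl (𝟙 A ^ b) c * (c ^ (b * b))⁻¹ * p * c ^ m = _
    ac_rfl
  refine Eq.trans ?_ (h1.symm.trans (pull_mk _ _))
  rw [← hc, ← mk_tensorPow hL', ← mk_tensorPow hL.1]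
  rfl

end main

end K517.PPFin
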