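import Groth.Agent.Nrm16.K136.GrBase
import Groth.Agent.Localalg.GrpSchShear
import Mathlib.CategoryTheory.Monoidal.Cartesian.Over

/-!
# The infinitesimal neighbourhoods of the diagonal of a separated group scheme

`G` a separated group scheme over `S` with unit section `e`, `f = G.hom`, `d = (fst)⁻¹ * snd : G × G ⟶ G`:
* `isPullback_nbhd`: `nbhd f n` is the fibre product of `G` and `infNbhd e n` over `S`, through `pr1` and the map
  `w` induced by `d`.
-/

set_option autoImplicit false

universe u v

open CategoryTheory CategoryTheory.Limits MonoidalCategory CartesianMonoidalCategory MonObj GrpObj AlgebraicGeometry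
open PrinPart

namespace K517.PPNbhd

section cat

variable {C : Type u} [Category.{v} C] [CartesianMonoidalCategory C] (G : C) [GrpObj G]

/-- The difference map. -/
noncomputable abbrev dif : G ⊗ G ⟶ G := (fst G G)⁻¹ * snd G G

theorem isPullback_diag : IsPullback (toUnit G) (lift (𝟙 G) (𝟙 G)) η[G] (dif G) where
  w := by
    rw [comp_mul, comp_inv, lift_fst, lift_snd, inv_mul_cancel, Hom.one_def]
  isLimit' := ⟨Limits.PullbackCone.IsLimit.mk _ (fun s => s.snd ≫ fst G G)
    (fun s => toUnit_unique _ _)
    (fun s => by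
      have h := s.condition.symm
      rw [comp_mul, comp_inv] at h
      have h2 : s.fst ≫ η[G] = 1 := by
        rw [toUnit_unique s.fst (toUnit _), Hom.one_def]
      rw [h2, inv_mul_eq_one] at h
      ext
      · simp
      · simpa using h)
    (fun s m _ hm => by
      rw [← hm]; simp)⟩

theorem isPullback_shear : IsPullback (dif G) (fst G G) (toUnit G) (toUnit G) where
  w := toUnit_unique _ _
  isLimit' := ⟨Limits.PullbackCone.IsLimit.mk _ (fun s => lift s.snd (s.snd * s.fst))
    (fun s => by simp [comp_mul, comp_inv])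
    (fun s => by simp)
    (fun s m h1 h2 => by
      rw [comp_mul, comp_inv, h2] at h1
      ext
      · simpa using h2
      · rw [lift_snd, ← h1, mul_inv_cancel_left])⟩

end cat

variable {S : Scheme.{u}} (G : Over S) [GrpObj G]

set_option backward.isDefEq.respectTransparency false in
theorem isPullback_diag' :
    IsPullback G.hom (pullback.diagonal G.hom) η[G].left (dif G).left :=
  (isPullback_diag G).map (Over.forget S)

set_option backward.isDefEq.respectTransparency false in
theorem isPullback_shear' :
    IsPullback (dif G).left (pullback.fst G.hom G.hom) G.hom G.hom :=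
  (isPullback_shear G).map (Over.forget S)

section sep

variable [IsSeparated G.hom]

omit [IsSeparated G.hom] in
theorem unit_comp : η[G].left ≫ G.hom = 𝟙 S := Over.w (η[G])

instance isClosedImmersion_unit : IsClosedImmersion η[G].left := by
  have h : IsClosedImmersion (𝟙 S) := inferInstance
  have : IsClosedImmersion (η[G].left ≫ G.hom) := by
    rw [unit_comp]
    exact h
  exact IsClosedImmersion.of_comp η[G].left G.hom

theorem coborderRange_eq_top {X : Scheme.{u}} (f : X ⟶ S) [IsSeparated f] :
    (pullback.diagonal f).coborderRange = ⊤ := by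
  apply top_le_iff.mp
  have h : IsClosed (Set.range (pullback.diagonal f)) := (pullback.diagonal f).isClosedEmbedding.isClosed_range
  intro x _
  change x ∈ coborder (Set.range (pullback.diagonal f))
  rw [h.coborder_eq]
  trivial

instance isIso_coborderRange_ι {X : Scheme.{u}} (f : X ⟶ S) [IsSeparated f] :
    IsIso (pullback.diagonal f).coborderRange.ι :=
  isIso_of_isOpenImmersion_of_opensRange_eq_top _ (by rw [Scheme.Opens.opensRange_ι, coborderRange_eq_top])

theorem isPullback_diagCl :
    IsPullback G.hom (diagCl G.hom) η[G].left ((pullback.diagonal G.hom).coborderRange.ι ≫ (dif G).left) := by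
  have h1 : IsPullback (𝟙 G.left) (diagCl G.hom) (pullback.diagonal G.hom)
      (pullback.diagonal G.hom).coborderRange.ι :=
    IsPullback.of_horiz_isIso ⟨by simp⟩
  simpa using h1.paste_horiz (isPullback_diag' G)

/-- The structure of the infinitesimal neighbourhoods of the diagonal of a group scheme. -/
theorem exists_isPullback (n : ℕ) : ∃ w : nbhd G.hom n ⟶ infNbhd η[G].left n,
    w ≫ infNbhdι η[G].left n = nbhdι G.hom n ≫ (dif G).left ∧
    IsPullback w (pr1 G.hom n) (infNbhdι η[G].left n ≫ G.hom) G.hom := by
  obtain ⟨w, hw⟩ := K137.InfNbhd.exists_map η[G].left (diagCl G.hom)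
    ((pullback.diagonal G.hom).coborderRange.ι ≫ (dif G).left) G.hom (isPullback_diagCl G).w n
  have h1 := K136.GrBase.isPullback_infNbhd η[G].left (diagCl G.hom) (isPullback_diagCl G) n w hw
  have h2 : IsPullback w (nbhdι G.hom n) (infNbhdι η[G].left n) (dif G).left :=
    IsPullback.of_iso h1 (Iso.refl _) (Iso.refl _) (asIso (pullback.diagonal G.hom).coborderRange.ι)
      (Iso.refl _) (by simp) (by simp [nbhdι]) (by simp) (by simp)
  exact ⟨w, h2.w, h2.paste_vert (isPullback_shear' G)⟩

/-- The structure of the infinitesimal neighbourhoods of the diagonal of a group scheme: the fibre product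
decomposition, the closed fibre and the base change along an endomorphism. -/
theorem exists_data (n : ℕ) (b : G ⟶ G) : ∃ (w : nbhd G.hom n ⟶ infNbhd η[G].left n) (bZ : nbhd G.hom n ⟶ nbhd G.hom n),
    IsPullback w (pr1 G.hom n) (infNbhdι η[G].left n ≫ G.hom) G.hom ∧
    IsPullback (toNbhd G.hom n) G.hom w (toInfNbhd η[G].left n) ∧
    IsPullback bZ (pr1 G.hom n) (pr1 G.hom n) b.left ∧
    toNbhd G.hom n ≫ bZ = b.left ≫ toNbhd G.hom n := by
  obtain ⟨w, hw, H⟩ := exists_isPullback G n
  have h1 : toNbhd G.hom n ≫ w = G.hom ≫ toInfNbhd η[G].left n := by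
    rw [← cancel_mono (infNbhdι η[G].left n), Category.assoc, Category.assoc, hw, toNbhd_ι_assoc,
      toInfNbhd_ι, (isPullback_diag' G).w]
  have h2 : IsPullback (toNbhd G.hom n) G.hom w (toInfNbhd η[G].left n) := by
    refine (IsPullback.of_right (h₁₂ := pr1 G.hom n) (v₁₃ := G.hom)
      (h₂₂ := infNbhdι η[G].left n ≫ G.hom) ?_ h1 H.flip).flip.flip
    rw [toNbhd_pr1, toInfNbhd_ι_assoc, unit_comp]
    exact IsPullback.of_horiz_isIso ⟨by simp⟩
  have h3 : w ≫ infNbhdι η[G].left n ≫ G.hom = (pr1 G.hom n ≫ b.left) ≫ G.hom := by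
    rw [H.w, Category.assoc, Over.w b]
  let bZ : nbhd G.hom n ⟶ nbhd G.hom n := H.lift w (pr1 G.hom n ≫ b.left) h3
  have h4 : bZ ≫ w = w := H.lift_fst _ _ _
  have h5 : bZ ≫ pr1 G.hom n = pr1 G.hom n ≫ b.left := H.lift_snd _ _ _
  refine ⟨w, bZ, H, h2, ?_, ?_⟩
  · refine IsPullback.of_right (h₁₂ := w) (h₂₂ := G.hom) (v₁₃ := infNbhdι η[G].left n ≫ G.hom) ?_ h5 H
    rw [h4, Over.w b]
    exact H
  · refine H.hom_ext ?_ ?_
    · rw [Category.assoc, h4, Category.assoc, h1, ← Category.assoc, Over.w b]
    · rw [Category.assoc, h5, Category.assoc, toNbhd_pr1_assoc, toNbhd_pr1, Category.comp_id]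

end sep

end K517.PPNbhd
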