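import Groth.Agent.PerfC.RHomShift

/-!
# The long exact sequence of `𝓔xt(-, L)` for a short exact sequence of modules

`H^p(RHom(M, L)) = DCoh.HD ((RH (inD M)).obj L) p`.  For a short exact sequence `0 → M₁ → M₂ → M₃ → 0`:
* `nonempty_iso₂₁`: `H^p(M₂) ≅ H^p(M₁)` if `H^p(M₃) = H^(p+1)(M₃) = 0`;
* `isZero₁`: `H^p(M₁) = 0` if `H^p(M₂) = 0` and `H^(p+1)(M₃) = 0`;
* `nonempty_iso₁₃`: `H^p(M₁) ≅ H^(p+1)(M₃)` if `H^p(M₂) = H^(p+1)(M₂) = 0`.
-/

set_option autoImplicit false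

universe u

open CategoryTheory CategoryTheory.Limits AlgebraicGeometry Pretriangulated

attribute [local instance] HasDerivedCategory.standard

namespace K517.RHLes

open Groth.Agent.PerfC.RHomD Groth.Agent.PerfC.RHomTri Groth.Agent.PerfC.RHomShift Groth.Agent.PerfC.DTens
  Groth.Agent.PerfC.IsoLocus

variable {X : Scheme.{u}}

theorem nonempty_RH_shift (K L : DCoh.D X) (n : ℤ) :
    Nonempty ((RH K).obj (L⟦n⟧) ≅ ((RH K).obj L)⟦n⟧) := by
  obtain ⟨hc, _⟩ := isTriang_LTX_flip_obj (X := X) K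
  let F : DCoh.D X ⥤ DCoh.D X := (LTX X).flip.obj K
  let e : shiftFunctor (DCoh.D X) (-n) ⋙ F ≅ F ⋙ shiftFunctor (DCoh.D X) (-n) := F.commShiftIso (-n)
  let a : shiftFunctor (DCoh.D X) (-n) ⊣ shiftFunctor (DCoh.D X) n :=
    (shiftEquiv (DCoh.D X) n).symm.toAdjunction
  let a1 : shiftFunctor (DCoh.D X) (-n) ⋙ F ⊣ RH K ⋙ shiftFunctor (DCoh.D X) n := a.comp (rhAdj K)
  let a2 : F ⋙ shiftFunctor (DCoh.D X) (-n) ⊣ shiftFunctor (DCoh.D X) n ⋙ RH K := (rhAdj K).comp a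
  exact ⟨((a2.ofNatIsoLeft e.symm).rightAdjointUniq a1).app L⟩

theorem nonempty_HD_RH_shift (K L : DCoh.D X) (n i j : ℤ) (h : -n + i = j) :
    Nonempty (DCoh.HD ((RH (K⟦n⟧)).obj L) i ≅ DCoh.HD ((RH K).obj L) j) := by
  obtain ⟨e1⟩ := nonempty_rhShift K L n
  obtain ⟨e2⟩ := nonempty_RH_shift K L (-n)
  exact ⟨(DerivedCategory.homologyFunctor X.Modules i).mapIso (e1 ≪≫ e2) ≪≫
    ((DerivedCategory.homologyFunctor X.Modules 0).shiftIso (-n) i j h).app ((RH K).obj L)⟩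

theorem exact_of_dist (Δ : Triangle (DCoh.D X)) (hΔ : Δ ∈ distTriang (DCoh.D X)) (L : DCoh.D X) (i : ℤ) :
    ∃ (f : DCoh.HD ((RH Δ.obj₃).obj L) i ⟶ DCoh.HD ((RH Δ.obj₂).obj L) i)
      (g : DCoh.HD ((RH Δ.obj₂).obj L) i ⟶ DCoh.HD ((RH Δ.obj₁).obj L) i) (w : f ≫ g = 0),
      f = (DerivedCategory.homologyFunctor X.Modules i).map (rhMap Δ.mor₂ L) ∧
      g = (DerivedCategory.homologyFunctor X.Modules i).map (rhMap Δ.mor₁ L) ∧
      (ShortComplex.mk f g w).Exact :=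
  ⟨_, _, _, rfl, rfl, Groth.Agent.PerfC.RHomTri.exact (LTX X).flip RH rhAdj (fun M => isTriang_LTX_obj M) Δ hΔ
    (fun K => additive_LTX_flip K) L i⟩

section Ses

variable {S : ShortComplex X.Modules} (hS : S.ShortExact) (L : DCoh.D X) (p : ℤ)

include hS in
theorem isZero₁ (h2 : IsZero (DCoh.HD ((RH (DCoh.inD X S.X₂)).obj L) p))
    (h3 : IsZero (DCoh.HD ((RH (DCoh.inD X S.X₃)).obj L) (p + 1))) :
    IsZero (DCoh.HD ((RH (DCoh.inD X S.X₁)).obj L) p) := by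
  obtain ⟨f, g, w, -, -, hex⟩ := exact_of_dist hS.singleTriangle.invRotate
    (inv_rot_of_distTriang _ hS.singleTriangle_distinguished) L p
  obtain ⟨e⟩ := nonempty_HD_RH_shift (DCoh.inD X S.X₃) L (-1) p (p + 1) (by ring)
  have h3' : IsZero (DCoh.HD ((RH ((DCoh.inD X S.X₃)⟦(-1 : ℤ)⟧)).obj L) p) := h3.of_iso e
  refine hex.isZero_of_both_zeros ?_ ?_
  · exact h2.eq_of_src _ _
  · exact h3'.eq_of_tgt _ _

include hS in
theorem nonempty_iso₂₁ (h3 : IsZero (DCoh.HD ((RH (DCoh.inD X S.X₃)).obj L) p))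
    (h3' : IsZero (DCoh.HD ((RH (DCoh.inD X S.X₃)).obj L) (p + 1))) :
    Nonempty (DCoh.HD ((RH (DCoh.inD X S.X₂)).obj L) p ≅ DCoh.HD ((RH (DCoh.inD X S.X₁)).obj L) p) := by
  obtain ⟨f, g, w, -, hg, hex⟩ := exact_of_dist hS.singleTriangle
    hS.singleTriangle_distinguished L p
  obtain ⟨f', g', w', hf', -, hex'⟩ := exact_of_dist hS.singleTriangle.invRotate
    (inv_rot_of_distTriang _ hS.singleTriangle_distinguished) L p
  obtain ⟨e⟩ := nonempty_HD_RH_shift (DCoh.inD X S.X₃) L (-1) p (p + 1) (by ring)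
  have h3'' : IsZero (DCoh.HD ((RH ((DCoh.inD X S.X₃)⟦(-1 : ℤ)⟧)).obj L) p) := h3'.of_iso e
  have hm : Mono g := (ShortComplex.exact_iff_mono _ (h3.eq_of_src _ _)).1 hex
  have hfg : f' = g := hf'.trans hg.symm
  have he : Epi f' := (ShortComplex.exact_iff_epi _ (h3''.eq_of_tgt _ _)).1 hex'
  rw [hfg] at he
  have hi : IsIso g := @isIso_of_mono_of_epi _ _ _ _ _ g hm he
  exact ⟨@asIso _ _ (DCoh.HD ((RH (DCoh.inD X S.X₂)).obj L) p) (DCoh.HD ((RH (DCoh.inD X S.X₁)).obj L) p) g hi⟩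

include hS in
theorem nonempty_iso₁₃ (h2 : IsZero (DCoh.HD ((RH (DCoh.inD X S.X₂)).obj L) p))
    (h2' : IsZero (DCoh.HD ((RH (DCoh.inD X S.X₂)).obj L) (p + 1))) :
    Nonempty (DCoh.HD ((RH (DCoh.inD X S.X₁)).obj L) p ≅ DCoh.HD ((RH (DCoh.inD X S.X₃)).obj L) (p + 1)) := by
  obtain ⟨f, g, w, hf, -, hex⟩ := exact_of_dist hS.singleTriangle.rotate
    (rot_of_distTriang _ hS.singleTriangle_distinguished) L (p + 1)
  obtain ⟨f', g', w', -, hg', hex'⟩ := exact_of_dist hS.singleTriangle.rotate.rotate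
    (rot_of_distTriang _ (rot_of_distTriang _ hS.singleTriangle_distinguished)) L (p + 1)
  obtain ⟨e1⟩ := nonempty_HD_RH_shift (DCoh.inD X S.X₁) L 1 (p + 1) p (by ring)
  obtain ⟨e2⟩ := nonempty_HD_RH_shift (DCoh.inD X S.X₂) L 1 (p + 1) p (by ring)
  have h2'' : IsZero (DCoh.HD ((RH ((DCoh.inD X S.X₂)⟦(1 : ℤ)⟧)).obj L) (p + 1)) := h2.of_iso e2
  have he : Epi f := (ShortComplex.exact_iff_epi _ (h2'.eq_of_tgt _ _)).1 hex
  have hm : Mono g' := (ShortComplex.exact_iff_mono _ (h2''.eq_of_src _ _)).1 hex'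
  have hfg : g' = f := hg'.trans hf.symm
  rw [hfg] at hm
  have hi : IsIso f := @isIso_of_mono_of_epi _ _ _ _ _ f hm he
  exact ⟨(e1.symm ≪≫ @asIso _ _ _ _ f hi :)⟩

end Ses

/-- `H^p(RHom(O_X, O_X))`. -/
theorem nonempty_HD_unit_zero :
    Nonempty (DCoh.HD ((RH (DCoh.inD X (Coh.structureModule X))).obj (DCoh.inD X (Coh.structureModule X))) 0 ≅
      Coh.structureModule X) := by
  obtain ⟨e⟩ := nonempty_rhUnit (DCoh.inD X (Coh.structureModule X))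
  exact ⟨(DerivedCategory.homologyFunctor X.Modules 0).mapIso e ≪≫
    (DerivedCategory.singleFunctorCompHomologyFunctorIso X.Modules 0).app _⟩

theorem isZero_HD_unit (M : X.Modules) (p : ℤ) (hp : p ≠ 0) :
    IsZero (DCoh.HD ((RH (DCoh.inD X (Coh.structureModule X))).obj (DCoh.inD X M)) p) := by
  obtain ⟨e⟩ := nonempty_rhUnit (DCoh.inD X M)
  refine IsZero.of_iso ?_ ((DerivedCategory.homologyFunctor X.Modules p).mapIso e)
  rcases lt_or_gt_of_ne hp with h | h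
  · exact DerivedCategory.isZero_of_isGE _ 0 p h
  · exact DerivedCategory.isZero_of_isLE _ 0 p h

end K517.RHLes
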